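import Groth.Agent.Dual.H379.ModVia
import Groth.Agent.Dcoh.DualMap
import Mathlib.CategoryTheory.Monoidal.Rigid.Basic

/-!
# External products: abstract calculus

`Lp : CX ⥤ CW`, `Lq : CY ⥤ CW` monoidal functors, `Lq ⊣ Rq`, `T : CX ⥤ CY` with `β : T ⟶ Lp ⋙ Rq`.

* `box B A = Lq B ⊗ Lp A`, `boxm v u`;
* `kap : B ⊗ T A ⟶ Rq (box B A)`, natural in both variables;
* `homE : (box B E ⟶ box B' E') ≃ (B ⟶ B' ⊗ T (E' ⊗ Ed))` for `Ed` dual to `E`, natural in `B'`, `E'`;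
* `psiIso : Rq (box B E ⊗ Lp Z) ≅ B ⊗ T (E ⊗ Z)`, natural in `B`, `E`.
-/

set_option autoImplicit false
set_option linter.unusedSectionVars false

open CategoryTheory MonoidalCategory Category

namespace K160.BoxAbs

open Groth.Agent.Dual.H379

universe v₁ v₂ v₃ u₁ u₂ u₃

variable {CW : Type u₁} [Category.{v₁} CW] [MonoidalCategory CW]
  {CX : Type u₂} [Category.{v₂} CX] [MonoidalCategory CX]
  {CY : Type u₃} [Category.{v₃} CY] [MonoidalCategory CY]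
  (Lp : CX ⥤ CW) (Lq : CY ⥤ CW)

/-- The external product `B ⊠ A`. -/
abbrev box (B : CY) (A : CX) : CW := Lq.obj B ⊗ Lp.obj A

/-- The external product of two morphisms. -/
abbrev boxm {B B' : CY} {A A' : CX} (v : B ⟶ B') (u : A ⟶ A') : box Lp Lq B A ⟶ box Lp Lq B' A' :=
  Lq.map v ⊗ₘ Lp.map u

omit [MonoidalCategory CX] [MonoidalCategory CY] in
@[reassoc]
lemma boxm_comp {B B' B'' : CY} {A A' A'' : CX} (v : B ⟶ B') (u : A ⟶ A') (v' : B' ⟶ B'')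
    (u' : A' ⟶ A'') : boxm Lp Lq (v ≫ v') (u ≫ u') = boxm Lp Lq v u ≫ boxm Lp Lq v' u' := by
  simp [boxm, MonoidalCategory.tensorHom_comp_tensorHom]

omit [MonoidalCategory CX] [MonoidalCategory CY] in
lemma boxm_id (B : CY) (A : CX) : boxm Lp Lq (𝟙 B) (𝟙 A) = 𝟙 _ := by
  simp [boxm]

/-- The box isomorphism of two isomorphisms. -/
@[simps]
def boxIso {B B' : CY} {A A' : CX} (v : B ≅ B') (u : A ≅ A') : box Lp Lq B A ≅ box Lp Lq B' A' where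
  hom := boxm Lp Lq v.hom u.hom
  inv := boxm Lp Lq v.inv u.inv
  hom_inv_id := by rw [← boxm_comp, v.hom_inv_id, u.hom_inv_id, boxm_id]
  inv_hom_id := by rw [← boxm_comp, v.inv_hom_id, u.inv_hom_id, boxm_id]

variable [Lp.Monoidal] [Lq.Monoidal] {Rq : CW ⥤ CY} (adj : Lq ⊣ Rq) {T : CX ⥤ CY}
  (β : T ⟶ Lp ⋙ Rq)

/-- `B ⊗ T A ⟶ Rq (Lq B ⊗ Lp A)`. -/
def kap (B : CY) (A : CX) : B ⊗ T.obj A ⟶ Rq.obj (box Lp Lq B A) :=
  B ◁ β.app A ≫ ModVia.proj Lq adj B (Lp.obj A)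

@[reassoc]
lemma kap_nat {B B' : CY} {A A' : CX} (v : B ⟶ B') (u : A ⟶ A') :
    (v ⊗ₘ T.map u) ≫ kap Lp Lq adj β B' A' = kap Lp Lq adj β B A ≫ Rq.map (boxm Lp Lq v u) := by
  have h1 : T.map u ≫ β.app A' = β.app A ≫ Rq.map (Lp.map u) := β.naturality u
  have h2 : v ▷ T.obj A ≫ B' ◁ β.app A = B ◁ β.app A ≫ v ▷ Rq.obj (Lp.obj A) :=
    (whisker_exchange v (β.app A)).symm
  rw [kap, kap, boxm, tensorHom_def, tensorHom_def, assoc, Functor.map_comp, assoc,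
    ← MonoidalCategory.whiskerLeft_comp_assoc, h1, MonoidalCategory.whiskerLeft_comp_assoc,
    ModVia.proj_naturality_right, reassoc_of% h2, ModVia.proj_naturality_left_assoc]

/-- `(B ⊠ E) ⊗ Lp Z ≅ B ⊠ (E ⊗ Z)`. -/
def assocBox (B : CY) (E Z : CX) : box Lp Lq B E ⊗ Lp.obj Z ≅ box Lp Lq B (E ⊗ Z) :=
  α_ _ _ _ ≪≫ whiskerLeftIso _ (Functor.Monoidal.μIso Lp E Z)

@[reassoc]
lemma assocBox_nat {B B' : CY} {E E' : CX} (v : B ⟶ B') (u : E ⟶ E') (Z : CX) :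
    boxm Lp Lq v u ▷ Lp.obj Z ≫ (assocBox Lp Lq B' E' Z).hom =
      (assocBox Lp Lq B E Z).hom ≫ boxm Lp Lq v (u ▷ Z) := by
  have h : Lp.map u ▷ Lp.obj Z ≫ Functor.LaxMonoidal.μ Lp E' Z =
      Functor.LaxMonoidal.μ Lp E Z ≫ Lp.map (u ▷ Z) := Functor.LaxMonoidal.μ_natural_left Lp u Z
  simp only [assocBox, boxm, Iso.trans_hom, whiskerLeftIso_hom, Functor.Monoidal.μIso_hom, assoc]
  rw [tensorHom_def, tensorHom_def, comp_whiskerRight, assoc, associator_naturality_middle_assoc,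
    ← MonoidalCategory.whiskerLeft_comp, h, MonoidalCategory.whiskerLeft_comp,
    associator_naturality_left_assoc, whisker_exchange_assoc]

/-- `Rq ((B ⊠ E) ⊗ Lp Z) ≅ B ⊗ T (E ⊗ Z)`. -/
noncomputable def psiIso (B : CY) (E Z : CX) (h : IsIso (kap Lp Lq adj β B (E ⊗ Z))) :
    Rq.obj (box Lp Lq B E ⊗ Lp.obj Z) ≅ B ⊗ T.obj (E ⊗ Z) :=
  Rq.mapIso (assocBox Lp Lq B E Z) ≪≫ (asIso (kap Lp Lq adj β B (E ⊗ Z))).symm

@[reassoc]
lemma psiIso_nat {B B' : CY} {E E' : CX} (v : B ⟶ B') (u : E ⟶ E') (Z : CX)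
    (h : IsIso (kap Lp Lq adj β B (E ⊗ Z))) (h' : IsIso (kap Lp Lq adj β B' (E' ⊗ Z))) :
    Rq.map (boxm Lp Lq v u ▷ Lp.obj Z) ≫ (psiIso Lp Lq adj β B' E' Z h').hom =
      (psiIso Lp Lq adj β B E Z h).hom ≫ (v ⊗ₘ T.map (u ▷ Z)) := by
  simp only [psiIso, Iso.trans_hom, Functor.mapIso_hom, Iso.symm_hom, asIso_inv, assoc]
  rw [← Functor.map_comp_assoc, assocBox_nat, Functor.map_comp_assoc]
  congr 1
  rw [IsIso.comp_inv_eq, assoc, kap_nat, IsIso.inv_hom_id_assoc]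

section homE

/-- `Hom(B ⊠ E, B' ⊠ E') ≃ Hom(B, B' ⊗ T (E' ⊗ Ed))`. -/
noncomputable def homE (E Ed : CX) [ExactPairing E Ed] (B B' : CY) (E' : CX)
    (h : IsIso (kap Lp Lq adj β B' (E' ⊗ Ed))) :
    (box Lp Lq B E ⟶ box Lp Lq B' E') ≃ (B ⟶ B' ⊗ T.obj (E' ⊗ Ed)) :=
  letI := Groth.Agent.Dcoh.DualMap.mapPairing Lp E Ed
  (tensorRightHomEquiv (Lq.obj B) (Lp.obj E) (Lp.obj Ed) (box Lp Lq B' E')).trans
    ((adj.homEquiv _ _).trans (Iso.homCongr (Iso.refl _) (psiIso Lp Lq adj β B' E' Ed h)))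

lemma homE_nat (E Ed : CX) [ExactPairing E Ed] (B : CY) {B' B'' : CY} {E' E'' : CX}
    (h : IsIso (kap Lp Lq adj β B' (E' ⊗ Ed))) (h' : IsIso (kap Lp Lq adj β B'' (E'' ⊗ Ed)))
    (f : box Lp Lq B E ⟶ box Lp Lq B' E') (v : B' ⟶ B'') (u : E' ⟶ E'') :
    homE Lp Lq adj β E Ed B B'' E'' h' (f ≫ boxm Lp Lq v u) =
      homE Lp Lq adj β E Ed B B' E' h f ≫ (v ⊗ₘ T.map (u ▷ Ed)) := by
  let := Groth.Agent.Dcoh.DualMap.mapPairing Lp E Ed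
  simp only [homE, Equiv.trans_apply, Iso.homCongr_apply, Iso.refl_inv, id_comp, assoc]
  rw [← psiIso_nat Lp Lq adj β v u Ed h h', tensorRightHomEquiv_naturality,
    Adjunction.homEquiv_naturality_right, assoc]

end homE

end K160.BoxAbs
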