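import Groth.Agent.DEquiv.K235.PtField
import Groth.Agent.Ega1.FTAffine
import Mathlib.Data.Int.Interval

/-!
# Decomposition of bounded coherent complexes over the spectrum of a field

`exists_dec`: `L ∈ D^[a,b]_coh(Spec κ)` is a finite direct sum of `O[-m]`, `a ≤ m ≤ b`.
-/

set_option autoImplicit false
universe u v w
open CategoryTheory CategoryTheory.Limits AlgebraicGeometry

namespace K160.FieldDec

open Groth.Agent.PerfA.PointMod DerivedCategory

attribute [local instance] HasDerivedCategory.standard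

section Dec

variable {C : Type u} [Category.{v} C] [Preadditive C]

/-- `L` is the direct sum of the `M j`, `j ∈ J`. -/
structure Dec {J : Type w} [Fintype J] (M : J → C) (L : C) where
  ι : ∀ j, M j ⟶ L
  π : ∀ j, L ⟶ M j
  ι_π : ∀ j, ι j ≫ π j = 𝟙 _
  ι_π' : ∀ i j, i ≠ j → ι i ≫ π j = 0
  total : ∑ j, π j ≫ ι j = 𝟙 L

/-- The image of a decomposition under an additive functor. -/
@[simps]
def Dec.map {D : Type*} [Category D] [Preadditive D] {J : Type w} [Fintype J] {M : J → C} {L : C}
    (d : Dec M L) (F : C ⥤ D) [F.Additive] : Dec (fun j => F.obj (M j)) (F.obj L) where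
  ι j := F.map (d.ι j)
  π j := F.map (d.π j)
  ι_π j := by rw [← F.map_comp, d.ι_π, F.map_id]
  ι_π' i j hij := by rw [← F.map_comp, d.ι_π' i j hij, F.map_zero]
  total := by simp only [← F.map_comp, ← F.map_sum, d.total, F.map_id]

/-- A direct sum of direct sums. -/
@[simps]
def Dec.sigma {J : Type w} [Fintype J] {M : J → C} {L : C} (d : Dec M L) {I : J → Type w}
    [∀ j, Fintype (I j)] {N : ∀ j, I j → C} (e : ∀ j, Dec (N j) (M j)) :
    Dec (fun x : Σ j, I j => N x.1 x.2) L where
  ι x := (e x.1).ι x.2 ≫ d.ι x.1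
  π x := d.π x.1 ≫ (e x.1).π x.2
  ι_π x := by rw [Category.assoc, reassoc_of% (d.ι_π x.1), (e x.1).ι_π]
  ι_π' x y hxy := by
    obtain ⟨i, a⟩ := x
    obtain ⟨j, b⟩ := y
    by_cases h : i = j
    · subst h
      have hab : a ≠ b := fun h => hxy (by rw [h])
      dsimp only
      rw [Category.assoc, reassoc_of% (d.ι_π i), (e i).ι_π' a b hab]
    · dsimp only
      rw [Category.assoc, reassoc_of% (d.ι_π' i j h), zero_comp, comp_zero]
  total := by
    rw [Fintype.sum_sigma]
    dsimp only
    have : ∀ j, ∑ a, (d.π j ≫ (e j).π a) ≫ (e j).ι a ≫ d.ι j = d.π j ≫ d.ι j := by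
      intro j
      have h := (e j).total
      have h2 : ∀ a, (d.π j ≫ (e j).π a) ≫ (e j).ι a ≫ d.ι j =
          d.π j ≫ ((e j).π a ≫ (e j).ι a) ≫ d.ι j := fun a => by simp
      simp only [h2]
      rw [← Preadditive.comp_sum, ← Preadditive.sum_comp, h, Category.id_comp]
    simp only [this]
    exact d.total

end Dec

variable (κ : Type u) [Field κ]

/-- A coherent module on `Spec R` is `~` of a finite module. -/
theorem exists_tilde_coh {R : CommRingCat.{u}} (G : (Spec R).Modules) (hG : Coh.IsCoh G) :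
    ∃ (Q : ModuleCat.{u} R), Module.Finite R Q ∧ Nonempty ((tilde.functor R).obj Q ≅ G) := by
  have hq : G.IsQuasicoherent := hG.1
  have e := (asIso G.fromTildeΓ).symm
  exact ⟨_, Groth.Agent.Ega1.FTAffine.finite_of_isFiniteType _ e hG.2, ⟨e.symm⟩⟩

/-- `M ≅ tilde V`, `V` finite dimensional. -/
theorem exists_tilde (M : (Spec (CommRingCat.of κ)).Modules) (hM : Coh.IsCoh M) :
    ∃ (V : ModuleCat.{u} κ), Module.Finite κ V ∧
      Nonempty ((tilde.functor (CommRingCat.of κ)).obj V ≅ M) :=
  exists_tilde_coh (R := CommRingCat.of κ) M hM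

/-- A coherent module over the spectrum of a field is a finite direct sum of copies of `O`. -/
theorem exists_dec_mod (M : (Spec (CommRingCat.of κ)).Modules) (hM : Coh.IsCoh M) :
    ∃ n : ℕ, Nonempty (Dec (fun _ : Fin n => Coh.structureModule (Spec (CommRingCat.of κ))) M) := by
  obtain ⟨V, hV, ⟨e⟩⟩ := exists_tilde κ M hM
  let F := tilde.functor (CommRingCat.of κ)
  let u : F.obj (ModuleCat.of κ κ) ≅ Coh.structureModule (Spec (CommRingCat.of κ)) :=
    tildeSelf (R := CommRingCat.of κ)
  let b := Module.finBasis κ V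
  let s : ∀ i : Fin (Module.finrank κ V), ModuleCat.of κ κ ⟶ V := fun i =>
    ModuleCat.ofHom (LinearMap.toSpanSingleton κ V (b i))
  let r : ∀ i : Fin (Module.finrank κ V), V ⟶ ModuleCat.of κ κ := fun i => ModuleCat.ofHom (b.coord i)
  have h1 : ∀ i j, s i ≫ r j = if i = j then 𝟙 _ else 0 := by
    intro i j
    ext
    change b.coord j ((1 : κ) • b i) = _
    rw [one_smul, Module.Basis.coord_apply, Module.Basis.repr_self, Finsupp.single_apply]
    split_ifs <;> rfl
  have h2 : ∑ i, r i ≫ s i = 𝟙 V := by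
    ext v
    have := b.sum_repr v
    rw [ModuleCat.hom_sum]
    simp only [ModuleCat.hom_comp, ModuleCat.hom_id, LinearMap.id_coe, id_eq]
    rw [LinearMap.sum_apply]
    exact this
  refine ⟨Module.finrank κ V, ⟨⟨fun i => u.inv ≫ F.map (s i) ≫ e.hom, fun i => e.inv ≫ F.map (r i) ≫ u.hom,
    fun i => ?_, fun i j hij => ?_, ?_⟩⟩⟩
  · have h := h1 i i
    rw [if_pos rfl] at h
    rw [Category.assoc, Category.assoc, e.hom_inv_id_assoc, ← Functor.map_comp_assoc, h,
      CategoryTheory.Functor.map_id, Category.id_comp, u.inv_hom_id]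
  · have h := h1 i j
    rw [if_neg hij] at h
    rw [Category.assoc, Category.assoc, e.hom_inv_id_assoc, ← Functor.map_comp_assoc, h,
      Functor.map_zero, zero_comp, comp_zero]
  · have : ∀ i, (e.inv ≫ F.map (r i) ≫ u.hom) ≫ u.inv ≫ F.map (s i) ≫ e.hom =
        e.inv ≫ F.map (r i ≫ s i) ≫ e.hom := by
      intro i; simp
    simp only [this]
    rw [← Preadditive.comp_sum, ← Preadditive.sum_comp, ← Functor.map_sum, h2,
      CategoryTheory.Functor.map_id, Category.id_comp, e.inv_hom_id]

/-- A right inverse of an endomorphism of a coherent module is a left inverse. -/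
theorem comp_comm {M : (Spec (CommRingCat.of κ)).Modules} (hM : Coh.IsCoh M) (f g : M ⟶ M)
    (h : f ≫ g = 𝟙 M) : g ≫ f = 𝟙 M := by
  obtain ⟨V, hV, ⟨e⟩⟩ := exists_tilde κ M hM
  let F := tilde.functor (CommRingCat.of κ)
  let f' : V ⟶ V := F.preimage (e.hom ≫ f ≫ e.inv)
  let g' : V ⟶ V := F.preimage (e.hom ≫ g ≫ e.inv)
  have h1 : f' ≫ g' = 𝟙 V := by
    apply F.map_injective
    rw [F.map_comp, F.map_preimage, F.map_preimage, CategoryTheory.Functor.map_id]
    simp only [Category.assoc, e.inv_hom_id_assoc]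
    rw [reassoc_of% h, e.hom_inv_id]
  have h2 : g' ≫ f' = 𝟙 V := by
    have h3 : g'.hom ∘ₗ f'.hom = LinearMap.id := congrArg ModuleCat.Hom.hom h1
    have h4 : f'.hom ∘ₗ g'.hom = LinearMap.id := (LinearMap.comp_eq_id_comm κ V).1 h3
    ext v
    exact congrArg (fun t => t v) h4
  have h3 : (e.hom ≫ g ≫ e.inv) ≫ e.hom ≫ f ≫ e.inv = 𝟙 _ := by
    have := congrArg F.map h2
    rwa [F.map_comp, F.map_preimage, F.map_preimage, CategoryTheory.Functor.map_id] at this
  have h4 : g ≫ f = e.inv ≫ ((e.hom ≫ g ≫ e.inv) ≫ e.hom ≫ f ≫ e.inv) ≫ e.hom := by simp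
  rw [h4, h3]
  simp

variable {κ}

/-- A bounded coherent complex over the spectrum of a field is the direct sum of its cohomology
modules. -/
theorem exists_dec_coh (L : DCoh.D (Spec (CommRingCat.of κ))) (a b : ℤ)
    (hab : ∀ i, ¬ (a ≤ i ∧ i ≤ b) → IsZero (DCoh.HD L i))
    (hcoh : ∀ i, Coh.IsCoh (DCoh.HD L i)) :
    Nonempty (Dec (fun m : Finset.Icc a b =>
      (singleFunctor (Spec (CommRingCat.of κ)).Modules m.1).obj (DCoh.HD L m.1)) L) := by
  have hinj := injective_of_field κ
  let H := fun i => homologyFunctor (Spec (CommRingCat.of κ)).Modules i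
  choose s r hsr using K235.SemiSimple.exists_retract hinj L
  have hz : ∀ (i j : ℤ) (M : (Spec (CommRingCat.of κ)).Modules), i ≠ j →
      IsZero ((H i).obj ((singleFunctor (Spec (CommRingCat.of κ)).Modules j).obj M)) := by
    intro i j M hij
    rcases lt_or_gt_of_ne hij with h | h
    · exact DerivedCategory.isZero_of_isGE _ j i h
    · exact DerivedCategory.isZero_of_isLE _ j i h
  have h0 : ∀ i j, i ≠ j → s i ≫ r j = 0 := by
    intro i j hij
    have := K235.SemiSimple.subsingleton_single hinj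
      ((singleFunctor (Spec (CommRingCat.of κ)).Modules j).obj (DCoh.HD L j)) i
      (hz i j _ hij) (DCoh.HD L i)
    exact Subsingleton.elim _ _
  let e : L ⟶ L := ∑ m : Finset.Icc a b, r m.1 ≫ s m.1
  have hee : e ≫ e = e := by
    rw [Preadditive.sum_comp]
    refine Finset.sum_congr rfl fun m _ => ?_
    rw [Preadditive.comp_sum, Finset.sum_eq_single m]
    · rw [Category.assoc, reassoc_of% (hsr m.1)]
    · intro n _ hn
      have : s m.1 ≫ r n.1 = 0 := h0 _ _ fun h => hn (Subtype.ext h.symm)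
      rw [Category.assoc, reassoc_of% this, zero_comp, comp_zero]
    · intro h; exact absurd (Finset.mem_univ _) h
  have hH : ∀ i, IsIso ((H i).map e) := by
    intro i
    by_cases hi : a ≤ i ∧ i ≤ b
    · have h1 : (H i).map e = 𝟙 _ := by
        rw [Functor.map_sum, Finset.sum_eq_single ⟨i, Finset.mem_Icc.2 hi⟩]
        · rw [Functor.map_comp]
          let c : (H i).obj ((singleFunctor (Spec (CommRingCat.of κ)).Modules i).obj (DCoh.HD L i)) ≅
            (H i).obj L := (singleFunctorCompHomologyFunctorIso _ i).app (DCoh.HD L i)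
          have h2 := comp_comm κ (hcoh i) (c.inv ≫ (H i).map (s i)) ((H i).map (r i) ≫ c.hom) (by
            rw [Category.assoc, ← Functor.map_comp_assoc, hsr, CategoryTheory.Functor.map_id,
              Category.id_comp, c.inv_hom_id])
          simpa using h2
        · intro n _ hn
          have : i ≠ n.1 := fun h => hn (Subtype.ext h.symm)
          rw [Functor.map_comp, (hz i n.1 _ this).eq_of_tgt ((H i).map (r n.1)) 0, zero_comp]
        · intro h; exact absurd (Finset.mem_univ _) h
      rw [h1]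
      infer_instance
    · exact (hab i hi).isIso (hab i hi) _
  have he : IsIso e := by
    rw [DerivedCategory.isIso_iff]
    exact hH
  refine ⟨⟨fun m => s m.1, fun m => r m.1, fun m => hsr _, fun i j hij => h0 _ _ fun h =>
    hij (Subtype.ext h), ?_⟩⟩
  rw [← cancel_epi e]
  exact hee.trans (Category.comp_id e).symm

/-- A bounded coherent complex over the spectrum of a field is a finite direct sum of shifted copies
of the structure sheaf. -/
theorem exists_dec (L : DCoh.D (Spec (CommRingCat.of κ))) (a b : ℤ)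
    (hab : ∀ i, ¬ (a ≤ i ∧ i ≤ b) → IsZero (DCoh.HD L i))
    (hcoh : ∀ i, Coh.IsCoh (DCoh.HD L i)) :
    ∃ (J : Type) (_ : Fintype J) (m : J → ℤ), (∀ j, a ≤ m j ∧ m j ≤ b) ∧
      Nonempty (Dec (fun j : J => (singleFunctor (Spec (CommRingCat.of κ)).Modules (m j)).obj
        (Coh.structureModule (Spec (CommRingCat.of κ)))) L) := by
  obtain ⟨d⟩ := exists_dec_coh L a b hab hcoh
  choose n e using fun i => exists_dec_mod κ _ (hcoh i)
  refine ⟨Σ i : Finset.Icc a b, Fin (n i.1), inferInstance, fun x => x.1.1, fun x =>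
    Finset.mem_Icc.1 x.1.2, ⟨d.sigma (fun i => (e i.1).some.map (singleFunctor _ i.1))⟩⟩

end K160.FieldDec
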