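import Groth.Agent.DEquiv.K160.BoxLin
import Groth.Agent.DEquiv.K160.FieldDec

/-!
# Coefficients: `Hom(𝟙, M) ⊗ Hom(B, B') → Hom(B, B' ⊗ P M)`

* `cmap'`, `bijective_cmap'`: bijectivity by decomposition of `M`;
* `cmap_eq`, `bijective_cmap`;
* `tau`: natural isomorphisms between linear functors, by decomposition.
-/

set_option autoImplicit false
set_option linter.unusedSectionVars false

open CategoryTheory MonoidalCategory Category TensorProduct

namespace K160.BoxCoef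

open Groth.Agent.Dual.H379 BoxAbs BoxLin FieldDec

universe w v₁ v₂ v₃ v₄ u₁ u₂ u₃ u₄ t

section Coef

variable (k : Type w) [CommRing k]
  {CS : Type u₁} [Category.{v₁} CS] [MonoidalCategory CS] [Preadditive CS] [Linear k CS]
  {CY : Type u₃} [Category.{v₃} CY] [MonoidalCategory CY] [Preadditive CY] [Linear k CY]
  [MonoidalPreadditive CY] [MonoidalLinear k CY]
  (P : CS ⥤ CY) [P.Additive] [P.Linear k] (ε : 𝟙_ CY ≅ P.obj (𝟙_ CS))

/-- `α ⊗ v ↦ ρ⁻¹ ≫ (v ⊗ P α)`. -/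
noncomputable def cmap' (M : CS) (B B' : CY) :
    ((𝟙_ CS ⟶ M) ⊗[k] (B ⟶ B')) →ₗ[k] (B ⟶ B' ⊗ P.obj M) :=
  TensorProduct.lift (LinearMap.mk₂ k (fun α v => (ρ_ B).inv ≫ (v ⊗ₘ (ε.hom ≫ P.map α)))
    (fun _ _ _ => by
      rw [P.map_add, Preadditive.comp_add, MonoidalPreadditive.tensor_add, Preadditive.comp_add])
    (fun _ _ _ => by simp [tensorHom_def])
    (fun _ _ _ => by rw [MonoidalPreadditive.add_tensor, Preadditive.comp_add])
    (fun _ _ _ => by simp [tensorHom_def]))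

@[simp]
lemma cmap'_tmul {M : CS} {B B' : CY} (α : 𝟙_ CS ⟶ M) (v : B ⟶ B') :
    cmap' k P ε M B B' (α ⊗ₜ[k] v) = (ρ_ B).inv ≫ (v ⊗ₘ (ε.hom ≫ P.map α)) := rfl

/-- Functoriality in `M`. -/
noncomputable abbrev push {M M' : CS} (f : M ⟶ M') (B B' : CY) :
    ((𝟙_ CS ⟶ M) ⊗[k] (B ⟶ B')) →ₗ[k] ((𝟙_ CS ⟶ M') ⊗[k] (B ⟶ B')) :=
  LinearMap.rTensor (B ⟶ B') (Linear.rightComp k (𝟙_ CS) f)

lemma cmap'_push {M M' : CS} (f : M ⟶ M') (B B' : CY) (x : (𝟙_ CS ⟶ M) ⊗[k] (B ⟶ B')) :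
    cmap' k P ε M' B B' (push k f B B' x) = cmap' k P ε M B B' x ≫ B' ◁ P.map f := by
  induction x using TensorProduct.induction_on with
  | zero => simp
  | add x y hx hy => rw [map_add, map_add, hx, hy, map_add, Preadditive.add_comp]
  | tmul α v =>
    simp only [push, LinearMap.rTensor_tmul, Linear.rightComp_apply, cmap'_tmul, assoc, P.map_comp,
      tensorHom_def, MonoidalCategory.whiskerLeft_comp]

lemma push_push {M M' M'' : CS} (f : M ⟶ M') (g : M' ⟶ M'') (B B' : CY)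
    (x : (𝟙_ CS ⟶ M) ⊗[k] (B ⟶ B')) : push k g B B' (push k f B B' x) = push k (f ≫ g) B B' x := by
  induction x using TensorProduct.induction_on with
  | zero => simp
  | add x y hx hy => simp only [map_add, hx, hy]
  | tmul α v => simp

lemma push_sum {M : CS} {J : Type t} [Fintype J] {Mj : J → CS} (d : Dec Mj M) (B B' : CY)
    (x : (𝟙_ CS ⟶ M) ⊗[k] (B ⟶ B')) :
    ∑ j, push k (d.ι j) B B' (push k (d.π j) B B' x) = x := by
  induction x using TensorProduct.induction_on with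
  | zero => simp
  | add x y hx hy =>
    simp only [map_add, Finset.sum_add_distrib]
    rw [hx, hy]
  | tmul α v =>
    simp only [push_push]
    simp only [push, LinearMap.rTensor_tmul, Linear.rightComp_apply]
    rw [← TensorProduct.sum_tmul, ← Preadditive.comp_sum, d.total, comp_id]

/-- Bijectivity of `cmap'` by decomposition. -/
theorem bijective_cmap'_of_dec {M : CS} {J : Type t} [Fintype J] {Mj : J → CS} (d : Dec Mj M)
    (B B' : CY) (h : ∀ j, Function.Bijective (cmap' k P ε (Mj j) B B')) :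
    Function.Bijective (cmap' k P ε M B B') := by
  constructor
  · rw [injective_iff_map_eq_zero]
    intro x hx
    rw [← push_sum k d B B' x]
    refine Finset.sum_eq_zero fun j _ => ?_
    have : push k (d.π j) B B' x = 0 := by
      apply (h j).1
      rw [cmap'_push, hx, Limits.zero_comp, map_zero]
    rw [this, map_zero]
  · intro y
    choose x hx using fun j => (h j).2 (y ≫ B' ◁ P.map (d.π j))
    refine ⟨∑ j, push k (d.ι j) B B' (x j), ?_⟩
    rw [map_sum]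
    simp only [cmap'_push, hx, assoc, ← MonoidalCategory.whiskerLeft_comp, ← P.map_comp]
    rw [← Preadditive.comp_sum]
    have : ∑ j, B' ◁ P.map (d.π j ≫ d.ι j) = 𝟙 (B' ⊗ P.obj M) := by
      have h2 : ∑ j, B' ◁ P.map (d.π j ≫ d.ι j) = (tensorLeft B').map (P.map (∑ j, d.π j ≫ d.ι j)) := by
        rw [P.map_sum, Functor.map_sum]
        rfl
      rw [h2, d.total]
      simp
    rw [this, comp_id]

/-- `B ⟶ B' ⊗ P M` is zero if it is for the pieces of `M`. -/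
theorem hom_eq_zero_of_dec {M : CS} {J : Type t} [Fintype J] {Mj : J → CS} (d : Dec Mj M)
    (B B' : CY) (h : ∀ j, ∀ f : B ⟶ B' ⊗ P.obj (Mj j), f = 0) (f : B ⟶ B' ⊗ P.obj M) : f = 0 := by
  have : ∑ j, B' ◁ P.map (d.π j ≫ d.ι j) = 𝟙 (B' ⊗ P.obj M) := by
    have h2 : ∑ j, B' ◁ P.map (d.π j ≫ d.ι j) = (tensorLeft B').map (P.map (∑ j, d.π j ≫ d.ι j)) := by
      rw [P.map_sum, Functor.map_sum]
      rfl
    rw [h2, d.total]
    simp
  rw [← comp_id f, ← this, Preadditive.comp_sum]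
  refine Finset.sum_eq_zero fun j _ => ?_
  rw [P.map_comp, MonoidalCategory.whiskerLeft_comp, ← assoc, h j (f ≫ B' ◁ P.map (d.π j)),
    Limits.zero_comp]

/-- Bijectivity of `cmap'` and isomorphisms. -/
theorem bijective_cmap'_of_iso {M M' : CS} (e : M ≅ M') (B B' : CY)
    (h : Function.Bijective (cmap' k P ε M' B B')) : Function.Bijective (cmap' k P ε M B B') := by
  let d : Dec (fun _ : Unit => M') M :=
    { ι := fun _ => e.inv, π := fun _ => e.hom, ι_π := fun _ => e.inv_hom_id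
      ι_π' := fun i j hij => absurd rfl hij, total := by simp }
  exact bijective_cmap'_of_dec k P ε d B B' fun _ => h

/-- Bijectivity of `cmap'` for `M = 𝟙`. -/
theorem bijective_cmap'_unit (h1 : ∀ α : 𝟙_ CS ⟶ 𝟙_ CS, ∃ c : k, α = c • 𝟙 _) (B B' : CY) :
    Function.Bijective (cmap' k P ε (𝟙_ CS) B B') := by
  have h2 : ∀ x : (𝟙_ CS ⟶ 𝟙_ CS) ⊗[k] (B ⟶ B'), ∃ v : B ⟶ B', x = 𝟙 _ ⊗ₜ[k] v := by
    intro x
    induction x using TensorProduct.induction_on with
    | zero => exact ⟨0, by simp⟩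
    | add x y hx hy =>
      obtain ⟨v, rfl⟩ := hx
      obtain ⟨v', rfl⟩ := hy
      exact ⟨v + v', by rw [TensorProduct.tmul_add]⟩
    | tmul α v =>
      obtain ⟨c, rfl⟩ := h1 α
      exact ⟨c • v, by rw [TensorProduct.smul_tmul]⟩
  have h3 : ∀ v : B ⟶ B', cmap' k P ε (𝟙_ CS) B B' (𝟙 _ ⊗ₜ[k] v) =
      v ≫ (ρ_ B').inv ≫ B' ◁ ε.hom := by
    intro v
    rw [cmap'_tmul, P.map_id, comp_id, tensorHom_def, rightUnitor_inv_naturality_assoc]
  constructor
  · rw [injective_iff_map_eq_zero]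
    intro x hx
    obtain ⟨v, rfl⟩ := h2 x
    rw [h3] at hx
    have : v = 0 := by
      rw [← cancel_mono ((ρ_ B').inv ≫ B' ◁ ε.hom), hx, Limits.zero_comp]
    rw [this, TensorProduct.tmul_zero]
  · intro y
    refine ⟨𝟙 _ ⊗ₜ[k] (y ≫ B' ◁ ε.inv ≫ (ρ_ B').hom), ?_⟩
    rw [h3]
    simp

/-- Bijectivity of `cmap'` when source and target vanish. -/
theorem bijective_cmap'_zero {M : CS} (B B' : CY) (h1 : ∀ α : 𝟙_ CS ⟶ M, α = 0)
    (h2 : ∀ f : B ⟶ B' ⊗ P.obj M, f = 0) : Function.Bijective (cmap' k P ε M B B') := by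
  constructor
  · rw [injective_iff_map_eq_zero]
    intro x _
    induction x using TensorProduct.induction_on with
    | zero => rfl
    | add x y hx hy => rw [hx (h2 _), hy (h2 _), add_zero]
    | tmul α v => rw [h1 α, TensorProduct.zero_tmul]
  · intro y
    exact ⟨0, by rw [map_zero, h2 y]⟩

variable {CX : Type u₂} [Category.{v₂} CX] [MonoidalCategory CX] [Preadditive CX] [Linear k CX]
  [MonoidalPreadditive CX] [MonoidalLinear k CX] (Q : CX ⥤ CS) [Q.Additive] [Q.Linear k]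
  {La : CS ⥤ CX} (adj : La ⊣ Q) (εa : 𝟙_ CX ≅ La.obj (𝟙_ CS)) (E Ed : CX) [ExactPairing E Ed]

/-- `𝟙 ⟶ Q (E ⊗ Ed)`, adjoint to the coevaluation. -/
def w0 : 𝟙_ CS ⟶ Q.obj (E ⊗ Ed) := adj.homEquiv _ _ (εa.inv ≫ η_ E Ed)

/-- `B ⟶ B ⊗ P (Q (E ⊗ Ed))`. -/
def ww (B : CY) : B ⟶ B ⊗ (Q ⋙ P).obj (E ⊗ Ed) :=
  (ρ_ B).inv ≫ B ◁ (ε.hom ≫ P.map (w0 Q adj εa E Ed))

/-- `u ↦ w0 ≫ Q (u ▷ Ed)`. -/
def nu (E' : CX) : (E ⟶ E') →ₗ[k] (𝟙_ CS ⟶ Q.obj (E' ⊗ Ed)) where
  toFun u := w0 Q adj εa E Ed ≫ Q.map (u ▷ Ed)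
  map_add' u u' := by
    rw [MonoidalPreadditive.add_whiskerRight, Q.map_add, Preadditive.comp_add]
  map_smul' c u := by simp

lemma coev_eq {E' : CX} (u : E ⟶ E') :
    tensorRightHomEquiv (𝟙_ CX) E Ed E' ((λ_ E).hom ≫ u) = η_ E Ed ≫ u ▷ Ed := by
  simp only [tensorRightHomEquiv, Equiv.coe_fn_mk, comp_whiskerRight]
  have h1 : (α_ (𝟙_ CX) E Ed).inv ≫ (λ_ E).hom ▷ Ed = (λ_ (E ⊗ Ed)).hom := by simp
  rw [reassoc_of% h1, leftUnitor_naturality_assoc, unitors_equal, Iso.inv_hom_id_assoc]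

lemma bijective_nu (E' : CX) : Function.Bijective (nu k Q adj εa E Ed E') := by
  let e : (E ⟶ E') ≃ (𝟙_ CS ⟶ Q.obj (E' ⊗ Ed)) :=
    ((Iso.homCongr (λ_ E) (Iso.refl E')).symm.trans ((tensorRightHomEquiv (𝟙_ CX) E Ed E').trans
      ((Iso.homCongr εa (Iso.refl _)).trans (adj.homEquiv _ _))))
  have he : (nu k Q adj εa E Ed E' : (E ⟶ E') → _) = e := by
    funext u
    simp only [e, nu, w0, Equiv.trans_apply, LinearMap.coe_mk, AddHom.coe_mk, Iso.homCongr_symm,
      Iso.homCongr_apply, Iso.symm_inv, Iso.refl_symm, Iso.refl_hom, comp_id]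
    rw [coev_eq, ← Adjunction.homEquiv_naturality_right, assoc]
  rw [he]
  exact e.bijective

lemma cmap_eq (B : CY) (E' : CX) (B' : CY) (x : TH k E E' B B') :
    cmap k (T := Q ⋙ P) (ww P ε Q adj εa E Ed B) E' B' x =
      cmap' k P ε (Q.obj (E' ⊗ Ed)) B B' (LinearMap.rTensor (B ⟶ B') (nu k Q adj εa E Ed E') x) := by
  induction x using TensorProduct.induction_on with
  | zero => simp
  | add x y hx hy => simp only [map_add, hx, hy]
  | tmul u v =>
    rw [LinearMap.rTensor_tmul, cmap_tmul, cmap'_tmul, ww, nu]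
    simp only [LinearMap.coe_mk, AddHom.coe_mk, assoc, Functor.comp_map, P.map_comp, tensorHom_def',
      MonoidalCategory.whiskerLeft_comp]
    rfl

theorem bijective_cmap (B : CY) (E' : CX) (B' : CY)
    (h : Function.Bijective (cmap' k P ε (Q.obj (E' ⊗ Ed)) B B')) :
    Function.Bijective (cmap k (T := Q ⋙ P) (ww P ε Q adj εa E Ed B) E' B') := by
  have : (cmap k (T := Q ⋙ P) (ww P ε Q adj εa E Ed B) E' B' : TH k E E' B B' → _) =
      cmap' k P ε (Q.obj (E' ⊗ Ed)) B B' ∘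
        (TensorProduct.congr (LinearEquiv.ofBijective _ (bijective_nu k Q adj εa E Ed E'))
          (LinearEquiv.refl k (B ⟶ B'))) := by
    funext x
    rw [cmap_eq]
    rfl
  rw [this]
  exact h.comp (LinearEquiv.bijective _)

end Coef

section Tau

variable {k : Type w} [CommRing k] {CS : Type u₁} [Category.{v₁} CS] [Preadditive CS] [Linear k CS]
  {D : Type u₂} [Category.{v₂} D] [Preadditive D] [Linear k D] {p : CS}
  (h1 : ∀ α : p ⟶ p, ∃ c : k, α = c • 𝟙 _)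

/-- `⊕ G₁ p ≅ ⊕ G₂ p`. -/
@[simps]
def tau {G₁ G₂ : CS ⥤ D} [G₁.Additive] [G₂.Additive] (α : G₁.obj p ≅ G₂.obj p) {M : CS} {J : Type t}
    [Fintype J] (d : Dec (fun _ : J => p) M) : G₁.obj M ≅ G₂.obj M where
  hom := ∑ j, G₁.map (d.π j) ≫ α.hom ≫ G₂.map (d.ι j)
  inv := ∑ j, G₂.map (d.π j) ≫ α.inv ≫ G₁.map (d.ι j)
  hom_inv_id := by
    classical
    rw [Preadditive.sum_comp]
    have : ∀ j, (G₁.map (d.π j) ≫ α.hom ≫ G₂.map (d.ι j)) ≫
        ∑ j, G₂.map (d.π j) ≫ α.inv ≫ G₁.map (d.ι j) = G₁.map (d.π j ≫ d.ι j) := by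
      intro j
      rw [Preadditive.comp_sum, Finset.sum_eq_single j]
      · have h := congrArg G₂.map (d.ι_π j)
        rw [G₂.map_comp, G₂.map_id] at h
        simp only [assoc, reassoc_of% h, Iso.hom_inv_id_assoc, G₁.map_comp]
      · intro i _ hi
        have h := congrArg G₂.map (d.ι_π' j i (Ne.symm hi))
        rw [G₂.map_comp, G₂.map_zero] at h
        simp only [assoc, reassoc_of% h, Limits.zero_comp, Limits.comp_zero]
      · intro h; exact absurd (Finset.mem_univ _) h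
    simp only [this]
    rw [← G₁.map_sum, d.total, G₁.map_id]
  inv_hom_id := by
    classical
    rw [Preadditive.sum_comp]
    have : ∀ j, (G₂.map (d.π j) ≫ α.inv ≫ G₁.map (d.ι j)) ≫
        ∑ j, G₁.map (d.π j) ≫ α.hom ≫ G₂.map (d.ι j) = G₂.map (d.π j ≫ d.ι j) := by
      intro j
      rw [Preadditive.comp_sum, Finset.sum_eq_single j]
      · have h := congrArg G₁.map (d.ι_π j)
        rw [G₁.map_comp, G₁.map_id] at h
        simp only [assoc, reassoc_of% h, Iso.inv_hom_id_assoc, G₂.map_comp]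
      · intro i _ hi
        have h := congrArg G₁.map (d.ι_π' j i (Ne.symm hi))
        rw [G₁.map_comp, G₁.map_zero] at h
        simp only [assoc, reassoc_of% h, Limits.zero_comp, Limits.comp_zero]
      · intro h; exact absurd (Finset.mem_univ _) h
    simp only [this]
    rw [← G₂.map_sum, d.total, G₂.map_id]

include h1 in
/-- Naturality in `M`. -/
theorem tau_naturality {G₁ G₂ : CS ⥤ D} [G₁.Additive] [G₂.Additive] [G₁.Linear k] [G₂.Linear k]
    (α : G₁.obj p ≅ G₂.obj p) {M M' : CS} {J J' : Type t} [Fintype J] [Fintype J']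
    (d : Dec (fun _ : J => p) M) (d' : Dec (fun _ : J' => p) M') (m : M ⟶ M') :
    G₁.map m ≫ (tau α d').hom = (tau α d).hom ≫ G₂.map m := by
  have key : ∀ (i : J) (j : J'), G₁.map (d.ι i ≫ m ≫ d'.π j) ≫ α.hom =
      α.hom ≫ G₂.map (d.ι i ≫ m ≫ d'.π j) := by
    intro i j
    obtain ⟨c, hc⟩ := h1 (d.ι i ≫ m ≫ d'.π j)
    rw [hc, Functor.map_smul, Functor.map_smul, G₁.map_id, G₂.map_id, Linear.smul_comp, id_comp,
      Linear.comp_smul, comp_id]
  have hL : G₁.map m ≫ (tau α d').hom =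
      ∑ i, ∑ j, G₁.map (d.π i) ≫ (G₁.map (d.ι i ≫ m ≫ d'.π j) ≫ α.hom) ≫ G₂.map (d'.ι j) := by
    have hm : m = ∑ i, d.π i ≫ d.ι i ≫ m := by
      calc m = 𝟙 M ≫ m := (id_comp m).symm
        _ = _ := by
          rw [← d.total, Preadditive.sum_comp]
          simp only [assoc]
    conv_lhs => rw [hm]
    rw [Functor.map_sum, Preadditive.sum_comp, tau_hom]
    refine Finset.sum_congr rfl fun i _ => ?_
    rw [Preadditive.comp_sum]
    refine Finset.sum_congr rfl fun j _ => ?_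
    simp only [Functor.map_comp, assoc]
  have hR : (tau α d).hom ≫ G₂.map m =
      ∑ i, ∑ j, G₁.map (d.π i) ≫ (α.hom ≫ G₂.map (d.ι i ≫ m ≫ d'.π j)) ≫ G₂.map (d'.ι j) := by
    have hm : m = ∑ j, m ≫ d'.π j ≫ d'.ι j := by
      calc m = m ≫ 𝟙 M' := (comp_id m).symm
        _ = _ := by rw [← d'.total, Preadditive.comp_sum]
    rw [tau_hom, Preadditive.sum_comp]
    refine Finset.sum_congr rfl fun i _ => ?_
    conv_lhs => rw [hm]
    rw [Functor.map_sum, Preadditive.comp_sum]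
    refine Finset.sum_congr rfl fun j _ => ?_
    simp only [Functor.map_comp, assoc]
  rw [hL, hR]
  simp only [key]

/-- Naturality in the functors. -/
theorem tau_app {G₁ G₂ G₁' G₂' : CS ⥤ D} [G₁.Additive] [G₂.Additive] [G₁'.Additive] [G₂'.Additive]
    (α : G₁.obj p ≅ G₂.obj p) (α' : G₁'.obj p ≅ G₂'.obj p) (φ₁ : G₁ ⟶ G₁') (φ₂ : G₂ ⟶ G₂')
    (h : φ₁.app p ≫ α'.hom = α.hom ≫ φ₂.app p) {M : CS} {J : Type t} [Fintype J]
    (d : Dec (fun _ : J => p) M) : φ₁.app M ≫ (tau α' d).hom = (tau α d).hom ≫ φ₂.app M := by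
  rw [tau_hom, tau_hom, Preadditive.comp_sum, Preadditive.sum_comp]
  refine Finset.sum_congr rfl fun j _ => ?_
  rw [← NatTrans.naturality_assoc, reassoc_of% h, assoc, assoc, NatTrans.naturality]

end Tau

end K160.BoxCoef
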