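import Groth.Agent.DEquiv.K160.BoxSch
import Groth.Agent.DEquiv.K351.FinHom
import Groth.Agent.Dual.H492.TensShift
import Groth.Agent.Dual.H379.TwistMain
import Groth.Agent.Dual.H379.TensBound
import Groth.Agent.KSix.K242.QCohKit
import Groth.Agent.S1001

/-!
# Morphisms between external products on a product of schemes over a field

* `hom_box_zero`: `Hom(B ⊠ E, (B' ⊠ E')[i]) = 0` for `i < 0`;
* `bijective_theta`: Künneth.
-/

set_option autoImplicit false

universe u

open CategoryTheory CategoryTheory.Limits AlgebraicGeometry MonoidalCategory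

attribute [local instance] HasDerivedCategory.standard

open scoped Groth.Agent.Dcoh.MonCat Groth.Agent.Dcoh.ModD

namespace K160.BoxK

open Groth.Agent Groth.Agent.Dcoh Groth.Agent.Dual.H379 Groth.Agent.PerfC.DTens
open Groth.Agent.Fixpt.H12 K353.Calc BoxAbs BoxLin BoxCoef BoxSch FieldDec

attribute [local instance] Groth.Agent.Fixpt.H313.AddD.monPreDX monLinDX DQMon.lpullMon
  K353.Calc.hasRpush K353.Calc.hasLpull

section Gen

variable {X Y : Scheme.{u}}

theorem additive_lpull (f : X ⟶ Y) : (DCoh.Lpull f).Additive :=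
  (K242.QCohKit.isTriang_Lpull f).additive

theorem linear_lpull (A : Type u) [CommRing A] [X.Over (Spec (CommRingCat.of A))]
    [Y.Over (Spec (CommRingCat.of A))] (f : X ⟶ Y) [f.IsOver (Spec (CommRingCat.of A))] :
    (DCoh.Lpull f).Linear A := K351.LinK.linear_Lpull f (DerPull.lpullAdj f)

/-- `RHom(E, E') ∈ D^{≥ 0}` for `E ∈ D^{≤ 0}` dualizable and `E' ∈ D^{≥ 0}`. -/
theorem isGE_hom (E Ed E' : DCoh.D X) [ExactPairing E Ed] (hE : E.IsLE 0) (hE' : E'.IsGE 0) :
    (E' ⊗ Ed).IsGE 0 := by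
  refine (DerivedCategory.TStructure.t.isGE_iff_orthogonal (-1) 0 (by omega) _).2 ?_
  intro K g hK
  have h1 := TensBound.isLE_tensor K E (-1) 0
  have h2 : Subsingleton (K ⊗ E ⟶ E') := ⟨fun f g =>
    (DerivedCategory.TStructure.t.zero f (-1 + 0) 0 (by omega)).trans
      (DerivedCategory.TStructure.t.zero g (-1 + 0) 0 (by omega)).symm⟩
  have h3 := (tensorRightHomEquiv K E Ed E').symm.subsingleton
  exact Subsingleton.elim _ _

end Gen

variable (k : Type u) [Field k]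

/-- Endomorphisms of the structure sheaf of `Spec k` are scalars. -/
theorem end_structure (g : Coh.structureModule (Spec (CommRingCat.of k)) ⟶
    Coh.structureModule (Spec (CommRingCat.of k))) : ∃ c : k, g = c • 𝟙 _ := by
  obtain ⟨c, hc⟩ := K351.FinHom.surjective_glob k (Restrict.unitEquiv _ g)
  refine ⟨c, (Restrict.unitEquiv _).injective ?_⟩
  rw [← hc, K351.LinK.smul_mod]
  change _ = ((K351.LinK.glob k _ c : Γ(Spec (CommRingCat.of k), ⊤)) •
    𝟙 (Coh.structureModule (Spec (CommRingCat.of k)))).app ⊤ (Restrict.one ⊤)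
  rw [LoccohB.SectLin303.smul_app]
  have h1 : ((Spec (CommRingCat.of k)).presheaf.map (𝟙 (Opposite.op ⊤)))
      (K351.LinK.glob k (Spec (CommRingCat.of k)) c) = K351.LinK.glob k (Spec (CommRingCat.of k)) c :=
    ConcreteCategory.congr_hom ((Spec (CommRingCat.of k)).presheaf.map_id (Opposite.op ⊤)) _
  refine h1.symm.trans ?_
  exact (mul_one ((Spec (CommRingCat.of k)).presheaf.map (𝟙 (Opposite.op ⊤))
    (K351.LinK.glob k (Spec (CommRingCat.of k)) c) : Γ(Spec (CommRingCat.of k), ⊤))).symm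

/-- Endomorphisms of the unit of `D(Spec k)` are scalars. -/
theorem end_unit (α : 𝟙_ (DCoh.D (Spec (CommRingCat.of k))) ⟶ 𝟙_ (DCoh.D (Spec (CommRingCat.of k)))) :
    ∃ c : k, α = c • 𝟙 _ := by
  let u := DualX.unitIso (Spec (CommRingCat.of k))
  let F := DerivedCategory.singleFunctor (Spec (CommRingCat.of k)).Modules 0
  obtain ⟨c, hc⟩ := end_structure k (F.preimage (u.hom ≫ α ≫ u.inv))
  refine ⟨c, ?_⟩
  have h1 : u.hom ≫ α ≫ u.inv = c • 𝟙 _ := by
    rw [← F.map_preimage (u.hom ≫ α ≫ u.inv), hc, F.map_smul, F.map_id]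
  rw [← cancel_mono u.inv, ← cancel_epi u.hom, h1]
  simp

section Piece

variable {k}

/-- `B ⊗ Lb^* O[-m] ≅ B[-m]`. -/
theorem nonempty_piece {Y S : Scheme.{u}} (b : Y ⟶ S) (B : DCoh.D Y) (m : ℤ) :
    Nonempty (B ⊗ (DCoh.Lpull b).obj ((DerivedCategory.singleFunctor S.Modules m).obj
      (Coh.structureModule S)) ≅ B⟦-m⟧) := by
  obtain ⟨e⟩ := Dual.H492.TensShift.nonempty_shift_unit (X := Y) (-m)
  obtain ⟨_, _⟩ := K242.QCohKit.isTriang_Lpull b
  let e1 : (DerivedCategory.singleFunctor S.Modules m).obj (Coh.structureModule S) ≅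
      ((DerivedCategory.singleFunctor S.Modules 0).obj (Coh.structureModule S))⟦-m⟧ :=
    (((DerivedCategory.singleFunctors S.Modules).shiftIso (-m) m 0 (by omega)).app
      (Coh.structureModule S)).symm
  let e2 : (DCoh.Lpull b).obj ((DerivedCategory.singleFunctor S.Modules m).obj
      (Coh.structureModule S)) ≅ (𝟙_ (DCoh.D Y))⟦-m⟧ :=
    (DCoh.Lpull b).mapIso (e1 ≪≫ (shiftFunctor _ (-m)).mapIso (DualX.unitIso S)) ≪≫
      ((DCoh.Lpull b).commShiftIso (-m)).app _ ≪≫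
        (shiftFunctor _ (-m)).mapIso (Functor.Monoidal.εIso (DCoh.Lpull b)).symm
  exact ⟨whiskerLeftIso B e2 ≪≫ e.app B⟩

end Piece

section Main

variable {k} {X Y W : Scheme.{u}} [X.Over (Spec (CommRingCat.of k))]
  [Y.Over (Spec (CommRingCat.of k))] {p : W ⟶ X} {q : W ⟶ Y}

/-- The structure morphism is a morphism over `Spec k`. -/
theorem isOver_str : (Y ↘ Spec (CommRingCat.of k)).IsOver (Spec (CommRingCat.of k)) :=
  ⟨by rw [K351.FinHom.over_self, Category.comp_id]⟩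

/-- Decomposition of `Ra_* L`. -/
theorem exists_dec_push [IsProper (X ↘ Spec (CommRingCat.of k))] (L : DCoh.D X)
    (hL : SGA6.cohbP X L) (a : ℤ) (ha : L.IsGE a) :
    ∃ (J : Type) (_ : Fintype J) (m : J → ℤ), (∀ j, a ≤ m j) ∧
      Nonempty (Dec (fun j : J => (DerivedCategory.singleFunctor (Spec (CommRingCat.of k)).Modules
        (m j)).obj (Coh.structureModule (Spec (CommRingCat.of k))))
          ((DCoh.Rpush (X ↘ Spec (CommRingCat.of k))).obj L)) := by
  obtain ⟨hc, a', b', ha', hb'⟩ := hL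
  have hN : IsNoetherian (Spec (CommRingCat.of k)) := inferInstance
  obtain ⟨h1, h2, b'', h3⟩ := S1001.result (X ↘ Spec (CommRingCat.of k)) L a b' hc
    (fun i => K351.FinHom.isProperOver_of_isProper _ (Ega3B.Devissage.isClosed_support (hc i)))
  obtain ⟨J, i1, m, hm, d⟩ := exists_dec (κ := k) ((DCoh.Rpush (X ↘ Spec (CommRingCat.of k))).obj L) a b''
    (by
      intro i hi
      by_cases h : i < a
      · exact DerivedCategory.isZero_of_isGE _ a i h
      · exact DerivedCategory.isZero_of_isLE _ b'' i (by omega)) h1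
  exact ⟨J, i1, m, fun j => (hm j).1, d⟩

/-- `(B ⊠ A)[i] ≅ B[i] ⊠ A`. -/
theorem nonempty_box_shift (B : DCoh.D Y) (A : DCoh.D X) (i : ℤ) :
    Nonempty ((box (DCoh.Lpull p) (DCoh.Lpull q) B A)⟦i⟧ ≅
      box (DCoh.Lpull p) (DCoh.Lpull q) (B⟦i⟧) A) := by
  obtain ⟨_, _⟩ := K242.QCohKit.isTriang_Lpull q
  obtain ⟨_, _⟩ := TwistMain.isTriang_tensorRight ((DCoh.Lpull p).obj A)
  exact ⟨((tensorRight ((DCoh.Lpull p).obj A)).commShiftIso i).symm.app ((DCoh.Lpull q).obj B) ≪≫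
    (tensorRight ((DCoh.Lpull p).obj A)).mapIso (((DCoh.Lpull q).commShiftIso i).symm.app B)⟩

/-- The decomposition of `Ra_* L` kills negative morphisms. -/
theorem hom_push_zero [IsProper (X ↘ Spec (CommRingCat.of k))] (L : DCoh.D X)
    (hL : SGA6.cohbP X L) (a : ℤ) (ha : L.IsGE a) (B B' : DCoh.D Y)
    (h : ∀ i : ℤ, i ≤ - a → ∀ f : B ⟶ B'⟦i⟧, f = 0)
    (f : B ⟶ B' ⊗ (DCoh.Lpull (Y ↘ Spec (CommRingCat.of k))).obj
      ((DCoh.Rpush (X ↘ Spec (CommRingCat.of k))).obj L)) : f = 0 := by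
  obtain ⟨J, _, m, hm, ⟨d⟩⟩ := exists_dec_push (k := k) L hL a ha
  have := additive_lpull (Y ↘ Spec (CommRingCat.of k))
  have := isOver_str (k := k) (Y := Y)
  have := linear_lpull k (Y ↘ Spec (CommRingCat.of k))
  refine hom_eq_zero_of_dec (DCoh.Lpull (Y ↘ Spec (CommRingCat.of k))) d B B' ?_ f
  intro j g
  obtain ⟨e⟩ := nonempty_piece (Y ↘ Spec (CommRingCat.of k)) B' (m j)
  rw [← cancel_mono e.hom, h (-(m j)) (by have := hm j; omega) (g ≫ e.hom), zero_comp]

variable (sq : IsPullback p q (X ↘ Spec (CommRingCat.of k)) (Y ↘ Spec (CommRingCat.of k)))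
  [IsProper (X ↘ Spec (CommRingCat.of k))]

include sq in
theorem isProper_q : IsProper q := MorphismProperty.of_isPullback sq inferInstance

include sq in
theorem isIso_kap' (B : DCoh.D Y) (hB : qc Y B) (A : DCoh.D X) (hA : qc X A) :
    IsIso (kap (DCoh.Lpull p) (DCoh.Lpull q) (DerPull.lpullAdj q) (beta sq.w) B A) := by
  have := isProper_q sq
  exact isIso_kap sq (Or.inl inferInstance) B hB A hA

include sq in
/-- **Negative vanishing**: `Hom(B ⊠ E, (B' ⊠ E')[i]) = 0` for `i < 0`. -/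
theorem hom_box_zero (E E' : DCoh.D X) (hE : DCoh.IsPerfect E) (hE0 : E.IsLE 0)
    (hE' : SGA6.cohbP X E') (hE'0 : E'.IsGE 0) (B B' : DCoh.D Y) (hB' : qc Y B')
    (h : ∀ i : ℤ, i < 0 → ∀ f : B ⟶ B'⟦i⟧, f = 0) (i : ℤ) (hi : i < 0)
    (f : box (DCoh.Lpull p) (DCoh.Lpull q) B E ⟶ (box (DCoh.Lpull p) (DCoh.Lpull q) B' E')⟦i⟧) :
    f = 0 := by
  have : IsNoetherian X := K351.FinHom.isNoetherian_of_proper k X
  obtain ⟨Ed, hEd, ⟨hp⟩⟩ := PerfDual.exists_exactPairing E hE
  obtain ⟨e⟩ := nonempty_box_shift (p := p) (q := q) B' E' i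
  have hc : SGA6.cohbP X (E' ⊗ Ed) := K351.FinHom.cohb_tensor_right E' Ed hE' hEd
  have hge := isGE_hom E Ed E' hE0 hE'0
  have hk := isIso_kap' sq (B'⟦i⟧) ((DCoh.IsQCohD (X := Y)).le_shift i _ hB') (E' ⊗ Ed)
    (fun j => (hc.1 j).1)
  let N := homE (DCoh.Lpull p) (DCoh.Lpull q) (DerPull.lpullAdj q) (beta sq.w) E Ed B (B'⟦i⟧) E' hk
  have hz : ∀ g, N g = 0 := fun g => hom_push_zero (E' ⊗ Ed) hc 0 hge B (B'⟦i⟧) (by
    intro j hj g
    have := h (i + j) (by omega) (g ≫ (shiftFunctorAdd (DCoh.D Y) i j).inv.app B')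
    rw [← cancel_mono ((shiftFunctorAdd (DCoh.D Y) i j).inv.app B'), this, zero_comp]) _
  rw [← cancel_mono e.hom, zero_comp]
  exact N.injective ((hz _).trans (hz _).symm)

/-- Bijectivity of the coefficient map. -/
theorem bijective_cmap_push (L : DCoh.D X) (hL : SGA6.cohbP X L) (ha : L.IsGE 0) (B B' : DCoh.D Y)
    (h : ∀ i : ℤ, i < 0 → ∀ f : B ⟶ B'⟦i⟧, f = 0) :
    letI := additive_lpull (Y ↘ Spec (CommRingCat.of k))
    letI := isOver_str (k := k) (Y := Y)
    letI := linear_lpull k (Y ↘ Spec (CommRingCat.of k))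
    Function.Bijective (cmap' k (DCoh.Lpull (Y ↘ Spec (CommRingCat.of k)))
      (Functor.Monoidal.εIso (DCoh.Lpull (Y ↘ Spec (CommRingCat.of k))))
      ((DCoh.Rpush (X ↘ Spec (CommRingCat.of k))).obj L) B B') := by
  let := additive_lpull (Y ↘ Spec (CommRingCat.of k))
  let := isOver_str (k := k) (Y := Y)
  let := linear_lpull k (Y ↘ Spec (CommRingCat.of k))
  obtain ⟨J, _, m, hm, ⟨d⟩⟩ := exists_dec_push (k := k) L hL 0 ha
  refine bijective_cmap'_of_dec k _ _ d B B' fun j => ?_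
  obtain h0 | h0 := (hm j).eq_or_lt
  · rw [← h0]
    exact bijective_cmap'_of_iso k _ _ (DualX.unitIso (Spec (CommRingCat.of k))) B B'
      (bijective_cmap'_unit k _ _ (end_unit k) B B')
  · refine bijective_cmap'_zero k _ _ B B' (fun α => ?_) (fun g => ?_)
    · have : (𝟙_ (DCoh.D (Spec (CommRingCat.of k)))).IsLE 0 :=
        DerivedCategory.TStructure.t.isLE_of_iso (DualX.unitIso (Spec (CommRingCat.of k))) 0
      exact DerivedCategory.TStructure.t.zero α 0 (m j) h0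
    · obtain ⟨e⟩ := nonempty_piece (Y ↘ Spec (CommRingCat.of k)) B' (m j)
      rw [← cancel_mono e.hom, h (-(m j)) (by omega) (g ≫ e.hom), zero_comp]

include sq in
/-- **Künneth formula** for morphisms between external products. -/
theorem bijective_theta [W.Over (Spec (CommRingCat.of k))] [p.IsOver (Spec (CommRingCat.of k))]
    [q.IsOver (Spec (CommRingCat.of k))] [IsProper (Y ↘ Spec (CommRingCat.of k))]
    (E E' : DCoh.D X) (hE : DCoh.IsPerfect E) (hEc : SGA6.cohbP X E) (hEl : E.IsLE 0) (hEg : E.IsGE 0)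
    (hE' : SGA6.cohbP X E') (hE'g : E'.IsGE 0) (B B' : DCoh.D Y) (hB : DCoh.IsPerfect B)
    (hBc : SGA6.cohbP Y B) (hB' : qc Y B')
    (h : ∀ i : ℤ, i < 0 → ∀ f : B ⟶ B⟦i⟧, f = 0) (h' : ∀ i : ℤ, i < 0 → ∀ f : B ⟶ B'⟦i⟧, f = 0) :
    letI := additive_lpull p
    letI := additive_lpull q
    letI := linear_lpull k p
    letI := linear_lpull k q
    Function.Bijective (theta k (DCoh.Lpull p) (DCoh.Lpull q) E E' B B') := by
  let := additive_lpull p
  let := additive_lpull q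
  let := linear_lpull k p
  let := linear_lpull k q
  let := additive_lpull (Y ↘ Spec (CommRingCat.of k))
  let := isOver_str (k := k) (Y := Y)
  let := isOver_str (k := k) (Y := X)
  let := linear_lpull k (Y ↘ Spec (CommRingCat.of k))
  let : (DCoh.Rpush (X ↘ Spec (CommRingCat.of k))).Linear k := K351.LinK.linear_Rpush _
  have : IsNoetherian X := K351.FinHom.isNoetherian_of_proper k X
  obtain ⟨Ed, hEd, ⟨hp⟩⟩ := PerfDual.exists_exactPairing E hE
  have hc : SGA6.cohbP X (E ⊗ Ed) := K351.FinHom.cohb_tensor_right E Ed hEc hEd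
  have hge := isGE_hom E Ed E hEl hEg
  have hc' : SGA6.cohbP X (E' ⊗ Ed) := K351.FinHom.cohb_tensor_right E' Ed hE' hEd
  have hge' := isGE_hom E Ed E' hEl hE'g
  have hk := isIso_kap' sq B (fun j => (hBc.1 j).1) (E ⊗ Ed) (fun j => (hc.1 j).1)
  have hk' := isIso_kap' sq B' hB' (E' ⊗ Ed) (fun j => (hc'.1 j).1)
  have hf1 : Module.Finite k (E ⟶ E) := K351.FinHom.finite_hom E E hE hEc
  have hf2 : Module.Finite k (B ⟶ B) := K351.FinHom.finite_hom B B hB hBc
  let P := DCoh.Lpull (Y ↘ Spec (CommRingCat.of k))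
  let Q := DCoh.Rpush (X ↘ Spec (CommRingCat.of k))
  let adj := DerPull.lpullAdj (X ↘ Spec (CommRingCat.of k))
  let ε := Functor.Monoidal.εIso P
  let εa := Functor.Monoidal.εIso (DCoh.Lpull (X ↘ Spec (CommRingCat.of k)))
  refine BoxLin.bijective_theta k (DCoh.Lpull p) (DCoh.Lpull q) (DerPull.lpullAdj q)
    (T := Q ⋙ P) (beta sq.w) E Ed B (ww P ε Q adj εa E Ed B) hk ?_ E' B' hk' ?_
  · exact bijective_cmap k P ε Q adj εa E Ed B E B (bijective_cmap_push (E ⊗ Ed) hc hge B B h)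
  · exact bijective_cmap k P ε Q adj εa E Ed B E' B' (bijective_cmap_push (E' ⊗ Ed) hc' hge' B B' h')

end Main

end K160.BoxK
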