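import Groth.Agent.DEquiv.K160.BoxAbs
import Mathlib.CategoryTheory.Monoidal.Linear
import Mathlib.CategoryTheory.Linear.LinearFunctor
import Mathlib.LinearAlgebra.TensorProduct.Tower
import Mathlib.RingTheory.TensorProduct.Finite
import Mathlib.LinearAlgebra.FiniteDimensional.Lemmas

/-!
# External products: linear calculus

* `theta : (E ⟶ E') ⊗ (B ⟶ B') → (B ⊠ E ⟶ B' ⊠ E')`, `tcomp`, `theta_tcomp`;
* `bijective_theta`: Künneth formula for morphisms, from the bijectivity of the maps `cmap`;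
* `cmap'`, `bijective_cmap`.
-/

set_option autoImplicit false
set_option linter.unusedSectionVars false

open CategoryTheory MonoidalCategory Category TensorProduct

namespace K160.BoxLin

open Groth.Agent.Dual.H379 BoxAbs

universe w v₁ v₂ v₃ v₄ u₁ u₂ u₃ u₄

section Tens

variable (k : Type w) [CommRing k] {C : Type u₁} [Category.{v₁} C] [Preadditive C] [Linear k C]
  {D : Type u₂} [Category.{v₂} D] [Preadditive D] [Linear k D]

/-- `Hom(E, E') ⊗ Hom(B, B')`. -/
abbrev TH (E E' : C) (B B' : D) := (E ⟶ E') ⊗[k] (B ⟶ B')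

/-- Composition in the tensor product of two linear categories. -/
noncomputable def tcomp {E E' E'' : C} {B B' B'' : D} (s : TH k E E' B B') (t : TH k E' E'' B' B'') :
    TH k E E'' B B'' :=
  TensorProduct.map₂ (Linear.comp E E' E'') (Linear.comp B B' B'') s t

@[simp]
lemma tcomp_tmul {E E' E'' : C} {B B' B'' : D} (u : E ⟶ E') (v : B ⟶ B') (u' : E' ⟶ E'')
    (v' : B' ⟶ B'') : tcomp k (u ⊗ₜ[k] v) (u' ⊗ₜ[k] v') = (u ≫ u') ⊗ₜ[k] (v ≫ v') := rfl

lemma tcomp_add {E E' E'' : C} {B B' B'' : D} (s : TH k E E' B B') (t t' : TH k E' E'' B' B'') :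
    tcomp k s (t + t') = tcomp k s t + tcomp k s t' := by
  simp [tcomp]

lemma add_tcomp {E E' E'' : C} {B B' B'' : D} (s s' : TH k E E' B B') (t : TH k E' E'' B' B'') :
    tcomp k (s + s') t = tcomp k s t + tcomp k s' t := by
  simp [tcomp]

lemma tcomp_zero {E E' E'' : C} {B B' B'' : D} (s : TH k E E' B B') :
    tcomp k s (0 : TH k E' E'' B' B'') = 0 := by
  simp [tcomp]

lemma zero_tcomp {E E' E'' : C} {B B' B'' : D} (t : TH k E' E'' B' B'') :
    tcomp k (0 : TH k E E' B B') t = 0 := by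
  simp [tcomp]

variable {D' : Type u₃} [Category.{v₃} D'] [Preadditive D'] [Linear k D'] (F : D ⥤ D') [F.Additive]
  [F.Linear k]

/-- `1 ⊗ F`. -/
noncomputable def tF {E E' : C} {B B' : D} : TH k E E' B B' →ₗ[k] TH k E E' (F.obj B) (F.obj B') :=
  LinearMap.lTensor (E ⟶ E') (F.mapLinearMap k)

@[simp]
lemma tF_tmul {E E' : C} {B B' : D} (u : E ⟶ E') (v : B ⟶ B') :
    tF k F (u ⊗ₜ[k] v) = u ⊗ₜ[k] F.map v := rfl

lemma tF_tcomp {E E' E'' : C} {B B' B'' : D} (s : TH k E E' B B') (t : TH k E' E'' B' B'') :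
    tF k F (tcomp k s t) = tcomp k (tF k F s) (tF k F t) := by
  induction s using TensorProduct.induction_on with
  | zero => simp only [zero_tcomp, map_zero]
  | add s s' hs hs' => simp only [add_tcomp, map_add, hs, hs']
  | tmul u v =>
    induction t using TensorProduct.induction_on with
    | zero => simp only [tcomp_zero, map_zero]
    | add t t' ht ht' => simp only [tcomp_add, map_add, ht, ht']
    | tmul u' v' => simp only [tcomp_tmul, tF_tmul, F.map_comp]

end Tens

section Theta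

variable (k : Type w) [CommRing k] {CW : Type u₁} [Category.{v₁} CW] [MonoidalCategory CW]
  [Preadditive CW] [Linear k CW] [MonoidalPreadditive CW] [MonoidalLinear k CW]
  {CX : Type u₂} [Category.{v₂} CX] [Preadditive CX] [Linear k CX]
  {CY : Type u₃} [Category.{v₃} CY] [Preadditive CY] [Linear k CY]
  (Lp : CX ⥤ CW) (Lq : CY ⥤ CW) [Lp.Additive] [Lq.Additive] [Lp.Linear k] [Lq.Linear k]

lemma boxm_add_left {B B' : CY} {E E' : CX} (v v' : B ⟶ B') (u : E ⟶ E') :
    boxm Lp Lq (v + v') u = boxm Lp Lq v u + boxm Lp Lq v' u := by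
  simp [boxm, Functor.map_add, MonoidalPreadditive.add_tensor]

lemma boxm_add_right {B B' : CY} {E E' : CX} (v : B ⟶ B') (u u' : E ⟶ E') :
    boxm Lp Lq v (u + u') = boxm Lp Lq v u + boxm Lp Lq v u' := by
  simp [boxm, Functor.map_add, MonoidalPreadditive.tensor_add]

lemma boxm_smul_left {B B' : CY} {E E' : CX} (r : k) (v : B ⟶ B') (u : E ⟶ E') :
    boxm Lp Lq (r • v) u = r • boxm Lp Lq v u := by
  simp [boxm, Functor.map_smul, tensorHom_def]

lemma boxm_smul_right {B B' : CY} {E E' : CX} (r : k) (v : B ⟶ B') (u : E ⟶ E') :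
    boxm Lp Lq v (r • u) = r • boxm Lp Lq v u := by
  simp [boxm, Functor.map_smul, tensorHom_def]

/-- `u ⊗ v ↦ v ⊠ u`. -/
noncomputable def theta (E E' : CX) (B B' : CY) :
    TH k E E' B B' →ₗ[k] (box Lp Lq B E ⟶ box Lp Lq B' E') :=
  TensorProduct.lift (LinearMap.mk₂ k (fun u v => boxm Lp Lq v u)
    (fun _ _ _ => boxm_add_right Lp Lq _ _ _) (fun _ _ _ => boxm_smul_right k Lp Lq _ _ _)
    (fun _ _ _ => boxm_add_left Lp Lq _ _ _) (fun _ _ _ => boxm_smul_left k Lp Lq _ _ _))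

@[simp]
lemma theta_tmul {E E' : CX} {B B' : CY} (u : E ⟶ E') (v : B ⟶ B') :
    theta k Lp Lq E E' B B' (u ⊗ₜ[k] v) = boxm Lp Lq v u := rfl

lemma theta_tcomp {E E' E'' : CX} {B B' B'' : CY} (s : TH k E E' B B') (t : TH k E' E'' B' B'') :
    theta k Lp Lq _ _ _ _ (tcomp k s t) = theta k Lp Lq _ _ _ _ s ≫ theta k Lp Lq _ _ _ _ t := by
  induction s using TensorProduct.induction_on with
  | zero => simp only [zero_tcomp, map_zero, Limits.zero_comp]
  | add s s' hs hs' => simp only [add_tcomp, map_add, hs, hs', Preadditive.add_comp]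
  | tmul u v =>
    induction t using TensorProduct.induction_on with
    | zero => simp only [tcomp_zero, map_zero, Limits.comp_zero]
    | add t t' ht ht' => simp only [tcomp_add, map_add, ht, ht', Preadditive.comp_add]
    | tmul u' v' => simp only [tcomp_tmul, theta_tmul, boxm_comp]

end Theta

section Kunneth

variable (k : Type w) [CommRing k] {CW : Type u₁} [Category.{v₁} CW] [MonoidalCategory CW]
  [Preadditive CW] [Linear k CW] [MonoidalPreadditive CW] [MonoidalLinear k CW]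
  {CX : Type u₂} [Category.{v₂} CX] [MonoidalCategory CX] [Preadditive CX] [Linear k CX]
  [MonoidalPreadditive CX] [MonoidalLinear k CX]
  {CY : Type u₃} [Category.{v₃} CY] [MonoidalCategory CY] [Preadditive CY] [Linear k CY]
  [MonoidalPreadditive CY] [MonoidalLinear k CY]
  (Lp : CX ⥤ CW) (Lq : CY ⥤ CW) [Lp.Additive] [Lq.Additive] [Lp.Linear k] [Lq.Linear k]
  [Lp.Monoidal] [Lq.Monoidal] {Rq : CW ⥤ CY} [Rq.Additive] (adj : Lq ⊣ Rq) {T : CX ⥤ CY}
  [T.Additive] [T.Linear k] (β : T ⟶ Lp ⋙ Rq)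

lemma homE_add (E Ed : CX) [ExactPairing E Ed] (B B' : CY) (E' : CX)
    (h : IsIso (kap Lp Lq adj β B' (E' ⊗ Ed))) (f g : box Lp Lq B E ⟶ box Lp Lq B' E') :
    homE Lp Lq adj β E Ed B B' E' h (f + g) =
      homE Lp Lq adj β E Ed B B' E' h f + homE Lp Lq adj β E Ed B B' E' h g := by
  let := Groth.Agent.Dcoh.DualMap.mapPairing Lp E Ed
  simp only [homE, Equiv.trans_apply, Iso.homCongr_apply, Iso.refl_inv, id_comp]
  simp only [tensorRightHomEquiv, Equiv.coe_fn_mk, Adjunction.homEquiv_unit,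
    MonoidalPreadditive.add_whiskerRight, Preadditive.comp_add, Functor.map_add, Preadditive.add_comp]

/-- `u ⊗ v ↦ w ≫ (v ⊗ T (u ▷ Ed))`. -/
noncomputable def cmap {E Ed : CX} {B : CY} (w : B ⟶ B ⊗ T.obj (E ⊗ Ed)) (E' : CX) (B' : CY) :
    TH k E E' B B' →ₗ[k] (B ⟶ B' ⊗ T.obj (E' ⊗ Ed)) :=
  TensorProduct.lift (LinearMap.mk₂ k (fun u v => w ≫ (v ⊗ₘ T.map (u ▷ Ed)))
    (fun _ _ _ => by
      rw [MonoidalPreadditive.add_whiskerRight, T.map_add, MonoidalPreadditive.tensor_add,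
        Preadditive.comp_add])
    (fun _ _ _ => by simp [tensorHom_def])
    (fun _ _ _ => by rw [MonoidalPreadditive.add_tensor, Preadditive.comp_add])
    (fun _ _ _ => by simp [tensorHom_def]))

@[simp]
lemma cmap_tmul {E Ed : CX} {B : CY} (w : B ⟶ B ⊗ T.obj (E ⊗ Ed)) {E' : CX} {B' : CY} (u : E ⟶ E')
    (v : B ⟶ B') : cmap k w E' B' (u ⊗ₜ[k] v) = w ≫ (v ⊗ₘ T.map (u ▷ Ed)) := rfl

lemma homE_theta (E Ed : CX) [ExactPairing E Ed] (B : CY) (w : B ⟶ B ⊗ T.obj (E ⊗ Ed))
    (h : IsIso (kap Lp Lq adj β B (E ⊗ Ed))) (E' : CX) (B' : CY)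
    (h' : IsIso (kap Lp Lq adj β B' (E' ⊗ Ed))) (r : TH k E E' B B') :
    homE Lp Lq adj β E Ed B B' E' h'
      ((homE Lp Lq adj β E Ed B B E h).symm w ≫ theta k Lp Lq _ _ _ _ r) = cmap k w E' B' r := by
  have h0 : ∀ f g, homE Lp Lq adj β E Ed B B' E' h' (f + g) = _ := homE_add Lp Lq adj β E Ed B B' E' h'
  have hz : homE Lp Lq adj β E Ed B B' E' h' 0 = 0 := by
    have := h0 0 0
    rwa [add_zero, left_eq_add] at this
  induction r using TensorProduct.induction_on with
  | zero => rw [map_zero, map_zero, Limits.comp_zero, hz]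
  | add r r' hr hr' => rw [map_add, map_add, Preadditive.comp_add, h0, hr, hr']
  | tmul u v => rw [theta_tmul, cmap_tmul, homE_nat Lp Lq adj β E Ed B h h', Equiv.apply_symm_apply]

end Kunneth

section Field

variable (k : Type w) [Field k] {CW : Type u₁} [Category.{v₁} CW] [MonoidalCategory CW]
  [Preadditive CW] [Linear k CW] [MonoidalPreadditive CW] [MonoidalLinear k CW]
  {CX : Type u₂} [Category.{v₂} CX] [MonoidalCategory CX] [Preadditive CX] [Linear k CX]
  [MonoidalPreadditive CX] [MonoidalLinear k CX]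
  {CY : Type u₃} [Category.{v₃} CY] [MonoidalCategory CY] [Preadditive CY] [Linear k CY]
  [MonoidalPreadditive CY] [MonoidalLinear k CY]
  (Lp : CX ⥤ CW) (Lq : CY ⥤ CW) [Lp.Additive] [Lq.Additive] [Lp.Linear k] [Lq.Linear k]
  [Lp.Monoidal] [Lq.Monoidal] {Rq : CW ⥤ CY} [Rq.Additive] (adj : Lq ⊣ Rq) {T : CX ⥤ CY}
  [T.Additive] [T.Linear k] (β : T ⟶ Lp ⋙ Rq)

/-- **Künneth formula for morphisms.** -/
theorem bijective_theta (E Ed : CX) [ExactPairing E Ed] (B : CY) (w : B ⟶ B ⊗ T.obj (E ⊗ Ed))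
    (h : IsIso (kap Lp Lq adj β B (E ⊗ Ed))) (hc : Function.Bijective (cmap k w E B))
    [Module.Finite k (E ⟶ E)] [Module.Finite k (B ⟶ B)] (E' : CX) (B' : CY)
    (h' : IsIso (kap Lp Lq adj β B' (E' ⊗ Ed))) (hc' : Function.Bijective (cmap k w E' B')) :
    Function.Bijective (theta k Lp Lq E E' B B') := by
  let s := (homE Lp Lq adj β E Ed B B E h).symm w
  have hb : Function.Bijective (fun r : TH k E E B B => s ≫ theta k Lp Lq E E B B r) := by
    have : (fun r : TH k E E B B => s ≫ theta k Lp Lq E E B B r) =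
        (homE Lp Lq adj β E Ed B B E h).symm ∘ cmap k w E B := by
      funext r
      exact (Equiv.eq_symm_apply _).2 (homE_theta k Lp Lq adj β E Ed B w h E B h r)
    rw [this]
    exact (Equiv.bijective _).comp hc
  have hb' : Function.Bijective (fun r : TH k E E' B B' => s ≫ theta k Lp Lq E E' B B' r) := by
    have : (fun r : TH k E E' B B' => s ≫ theta k Lp Lq E E' B B' r) =
        (homE Lp Lq adj β E Ed B B' E' h').symm ∘ cmap k w E' B' := by
      funext r
      exact (Equiv.eq_symm_apply _).2 (homE_theta k Lp Lq adj β E Ed B w h E' B' h' r)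
    rw [this]
    exact (Equiv.bijective _).comp hc'
  let S := box Lp Lq B E ⟶ box Lp Lq B E
  let g : TH k E E B B →ₗ[k] S := (Linear.comp _ _ _ s) ∘ₗ theta k Lp Lq E E B B
  have hg : Function.Bijective g := hb
  have hfin : Module.Finite k S := Module.Finite.of_surjective g hg.2
  obtain ⟨r₀, hr₀⟩ := hb.2 (𝟙 _)
  let m : S →ₗ[k] S := Linear.comp _ _ _ s
  have hm : Function.Surjective m := fun x => ⟨theta k Lp Lq E E B B r₀ ≫ x, by
    change s ≫ theta k Lp Lq E E B B r₀ ≫ x = x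
    rw [← assoc]
    exact (congrArg (· ≫ x) hr₀).trans (id_comp x)⟩
  have hm' : Function.Injective m := LinearMap.injective_iff_surjective.2 hm
  have h2 : theta k Lp Lq E E B B r₀ ≫ s = 𝟙 _ := by
    apply hm'
    change s ≫ theta k Lp Lq E E B B r₀ ≫ s = s ≫ 𝟙 _
    rw [← assoc, comp_id]
    exact (congrArg (· ≫ s) hr₀).trans (id_comp s)
  refine ⟨fun r r' hr => hb'.1 (congrArg (s ≫ ·) hr), fun f => ?_⟩
  obtain ⟨r, hr⟩ := hb'.2 (s ≫ f)
  refine ⟨r, ?_⟩
  have := congrArg (theta k Lp Lq E E B B r₀ ≫ ·) hr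
  simpa only [← assoc, h2, id_comp] using this

end Field

end K160.BoxLin
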