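import Groth.Agent.DEquiv.K160.BoxCoef
import Groth.Agent.DEquiv.K353.Calc
import Groth.Agent.DEquiv.K351.LinK
import Groth.Agent.Fixpt.H313.AddD

/-!
# External products on a fibre product of schemes over a field

Instances and the base change transformation feeding `BoxAbs`, `BoxLin`, `BoxCoef`.
-/

set_option autoImplicit false

universe u

open CategoryTheory CategoryTheory.Limits AlgebraicGeometry MonoidalCategory

attribute [local instance] HasDerivedCategory.standard

open scoped Groth.Agent.Dcoh.MonCat Groth.Agent.Dcoh.ModD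

namespace K160.BoxSch

open Groth.Agent Groth.Agent.Dcoh Groth.Agent.Dual.H379 Groth.Agent.PerfC.DTens
open Groth.Agent.PerfB.BCTot Groth.Agent.PerfB.BCTot.Tot Groth.Agent.PerfB.BCSch Groth.Agent.Fixpt.H12
open K353.Calc

section Inst

variable (A : Type u) [CommRing A] (X : Scheme.{u}) [X.Over (Spec (CommRingCat.of A))]

theorem linear_of_natIso {C D : Type*} [Category C] [Category D] [Preadditive C] [Preadditive D]
    [Linear A C] [Linear A D] {F G : C ⥤ D} (e : F ≅ G) [F.Linear A] : G.Linear A where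
  map_smul {X Y} f r := by
    have h := fun (φ : X ⟶ Y) => NatIso.naturality_1 e φ
    rw [← h, ← h, F.map_smul]
    simp

theorem monLinDX :
    letI := Groth.Agent.Fixpt.H313.AddD.monPreDX X
    MonoidalLinear A (DCoh.D X) := by
  let := Groth.Agent.Fixpt.H313.AddD.monPreDX X
  refine ⟨fun Z {Y Y'} r f => ?_, fun r {Y Y'} f Z => ?_⟩
  · obtain ⟨e⟩ := braid Z
    have := K351.LinK.linear_tensorRight (A := A) Z
    have := linear_of_natIso A e
    exact (tensorLeft Z).map_smul r f
  · have := K351.LinK.linear_tensorRight (A := A) Z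
    exact (tensorRight Z).map_smul r f

end Inst

variable {X Y W S : Scheme.{u}} {a : X ⟶ S} {b : Y ⟶ S} {p : W ⟶ X} {q : W ⟶ Y}

/-- The base change transformation `Lb^* Ra_* ⟶ Rq_* Lp^*`. -/
noncomputable def beta (w : p ≫ a = q ≫ b) [i1 : DCoh.HasRpush a] [i2 : DCoh.HasRpush q]
    [i3 : DCoh.HasLpull b] [i4 : DCoh.HasLpull p] :
    DCoh.Rpush a ⋙ DCoh.Lpull b ⟶ DCoh.Lpull p ⋙ DCoh.Rpush q where
  app K := BcE.bcm (P := dPull.{u}) (PerfB.BCShift.lAdj a) (PerfB.BCShift.lAdj q) w K
  naturality K L φ := BcE.bcm_nat (P := dPull.{u}) (PerfB.BCShift.lAdj a) (PerfB.BCShift.lAdj q) w φ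

theorem isIso_beta (sq : IsPullback p q a b) [QuasiCompact a] [QuasiSeparated a] (hflat : Flat a ∨ Flat b)
    [i1 : DCoh.HasRpush a] [i2 : DCoh.HasRpush q]
    [i3 : DCoh.HasLpull b] [i4 : DCoh.HasLpull p] (K : DCoh.D X) (hK : qc X K) :
    IsIso ((beta sq.w).app K) :=
  BcE.isIso_bcm (P := dPull.{u}) (PerfB.BCShift.lAdj a) (PerfB.BCShift.lAdj q) sq.w K
    (Dual.H306.BCLeft.bc_tor hflat sq K hK)

attribute [local instance] Groth.Agent.Fixpt.H313.AddD.monPreDX monLinDX DQMon.lpullMon
  K353.Calc.hasRpush K353.Calc.hasLpull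

open BoxAbs BoxLin BoxCoef

/-- The maps `kap` are isomorphisms on objects with quasi-coherent cohomology. -/
theorem isIso_kap (sq : IsPullback p q a b) [QuasiCompact a] [QuasiSeparated a] [QuasiCompact q]
    [QuasiSeparated q] (hflat : Flat a ∨ Flat b) (B : DCoh.D Y) (hB : qc Y B) (A : DCoh.D X)
    (hA : qc X A) : IsIso (kap (DCoh.Lpull p) (DCoh.Lpull q) (DerPull.lpullAdj q) (beta sq.w) B A) := by
  have h1 := isIso_beta sq hflat A hA
  have h2 := DQMon.isIso_proj q B hB ((DCoh.Lpull p).obj A) (qc_lpull p A hA)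
  rw [kap]
  infer_instance

end K160.BoxSch
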