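import Groth.Agent.DEquiv.K160.HeartAbs
import Groth.Agent.S1049
import Groth.Agent.S1005
import Groth.Agent.S1006
import Groth.Agent.PerfA.QCohD
import Groth.Prelude.Def_SGA6
import Groth.Prelude.Def_Models

/-!
# The heart of `D^b_Coh(O_X)`, `X` Noetherian

`CohX X` is the abelian category of coherent modules.  For a triangulated property `P` of objects of `D(O_X)` equivalent
to `SGA6.cohbP X` (bounded with coherent cohomology; e.g. `SGA6.perfP X` for `X` regular, `perfP_iff`):

* `inC hP : CohX X ⥤ P.FullSubcategory` is the inclusion in degree `0`; `tS hP` is the t-structure, all objects are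
  bounded (`HeartAbs.bounded`);
* `heartData hP : K350.HD.HeartData (tS hP) (inC hP)`.
-/

set_option autoImplicit false

universe u

open CategoryTheory CategoryTheory.Limits AlgebraicGeometry

attribute [local instance] HasDerivedCategory.standard

namespace K160.CohHeart

open Groth.Agent.PerfA.CohSerre K160.HeartAbs Groth.Agent.PerfA.CohomIn

section

variable (X : Scheme.{u}) [IsLocallyNoetherian X]

instance closedFP : (cohp X).IsClosedUnderFiniteProducts :=
  Groth.Agent.Fdesc.SubDer.isClosedUnderFiniteProducts _

instance preservesLim : PreservesFiniteLimits (cohp X).ι :=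
  have := (cohp X).preservesKernels_ι
  Functor.preservesFiniteLimits_of_preservesKernels _

instance preservesColim : PreservesFiniteColimits (cohp X).ι :=
  have := (cohp X).preservesCokernels_ι
  Functor.preservesFiniteColimits_of_preservesCokernels _

/-- The abelian category of coherent modules. -/
abbrev CohX : Type (u + 1) := (cohp X).FullSubcategory

end

theorem isBdd {X : Scheme.{u}} {P : ObjectProperty (DCoh.D X)} (hP : ∀ K, P K ↔ SGA6.cohbP X K) :
    IsBdd (cohp X) P := hP

theorem cohb_iff (X : Scheme.{u}) : IsBdd (cohp X) (SGA6.cohbP X) := fun _ => Iff.rfl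

variable (X : Scheme.{u}) [IsNoetherian X]

theorem hyp : Hyp (cohp X) := Groth.Agent.S1049.result X

variable {X} {P : ObjectProperty (DCoh.D X)}

theorem heartData [P.IsTriangulated] (hP : IsBdd (cohp X) P) :
    K350.HD.HeartData (tS hP) (inC hP) :=
  HeartAbs.heartData hP (hyp X)

variable (X) in
/-- On a regular Noetherian scheme perfect means bounded with coherent cohomology. -/
theorem perf_iff (hreg : Models.IsRegularScheme X) : IsBdd (cohp X) (SGA6.perfP X) := fun K =>
  ⟨fun h => Groth.Agent.S1006.result X K h, fun h => by
    obtain ⟨h1, a, b, _, _⟩ := h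
    exact Groth.Agent.S1005.result X hreg K a b h1⟩

end K160.CohHeart
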