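import Groth.Agent.DEquiv.K350.HeartDb
import Groth.Agent.PerfA.CohomIn
import Mathlib.CategoryTheory.Abelian.Subcategory

/-!
# The heart data of a full subcategory of bounded objects of a derived category

`B` abelian, `Q` a property of objects of `B` such that `Q.FullSubcategory` is abelian with exact inclusion and `P` a
triangulated property of objects of `D(B)` equivalent to being bounded with cohomology satisfying `Q`.  Assume that
`D^b(Q.FullSubcategory) ⥤ D(B)` is fully faithful with essential image `P`.  Then the objects satisfying `P` form a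
category with heart `Q.FullSubcategory`, in the sense of `K350.HD.HeartData`.
-/

set_option autoImplicit false

universe w w' v u

namespace K160.HeartAbs

open CategoryTheory CategoryTheory.Limits CategoryTheory.Pretriangulated
  CategoryTheory.Triangulated DerivedCategory DerivedCategory.TStructure
  Groth.Agent.PerfA.CohomIn

variable {B : Type u} [Category.{v} B] [Abelian B] [HasDerivedCategory.{w} B]
  (Q : ObjectProperty B) (P : ObjectProperty (DerivedCategory B))

/-- `P K` iff `K` is bounded with cohomology satisfying `Q`. -/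
def IsBdd : Prop := ∀ K : DerivedCategory B, P K ↔ coh Q K ∧ ∃ a b : ℤ, K.IsGE a ∧ K.IsLE b

variable {Q P}

section

variable [Q.IsClosedUnderIsomorphisms] [Q.ContainsZero] (h : IsBdd Q P)

include h in
/-- An object of `Q` in degree zero. -/
lemma prop_single (M : B) (hM : Q M) : P ((DerivedCategory.singleFunctor B 0).obj M) :=
  (h _).2 ⟨coh_single Q M hM 0, 0, 0, inferInstance, inferInstance⟩

/-- The inclusion of the heart. -/
noncomputable def inC : Q.FullSubcategory ⥤ P.FullSubcategory :=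
  P.lift (Q.ι ⋙ DerivedCategory.singleFunctor B 0) (fun M => prop_single h M.obj M.property)

variable [P.IsTriangulated]

include h in
lemma hasInduced : P.HasInducedTStructure (TStructure.t (C := B)) :=
  .mk' (fun K hK n => by
    obtain ⟨hK1, a, b, ha, hb⟩ := (h K).1 hK
    exact ⟨(h _).2 ⟨coh_truncLE Q K n hK1, a, b, inferInstance, inferInstance⟩,
      (h _).2 ⟨coh_truncGE Q K n hK1, a, b, inferInstance, inferInstance⟩⟩)

/-- The t-structure. -/
noncomputable def tS : TStructure P.FullSubcategory :=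
  letI := hasInduced h
  P.tStructure (TStructure.t (C := B))

lemma tS_isLE_iff (X : P.FullSubcategory) (n : ℤ) : (tS h).IsLE X n ↔ X.obj.IsLE n :=
  letI := hasInduced h
  P.tStructure_isLE_iff _ X n

lemma tS_isGE_iff (X : P.FullSubcategory) (n : ℤ) : (tS h).IsGE X n ↔ X.obj.IsGE n :=
  letI := hasInduced h
  P.tStructure_isGE_iff _ X n

lemma bounded (X : P.FullSubcategory) : ∃ a b : ℤ, (tS h).IsGE X a ∧ (tS h).IsLE X b := by
  obtain ⟨-, a, b, ha, hb⟩ := (h X.obj).1 X.property
  exact ⟨a, b, (tS_isGE_iff h X a).2 ha, (tS_isLE_iff h X b).2 hb⟩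

end

section

variable (Q) in
/-- `D^b(Q) ⥤ D(B)` is fully faithful with essential image the bounded objects with cohomology in `Q`. -/
def Hyp [Q.IsClosedUnderIsomorphisms] [Q.ContainsZero] [Q.IsClosedUnderKernels] [Q.IsClosedUnderCokernels]
    [Q.IsClosedUnderFiniteProducts] [HasDerivedCategory.{w'} Q.FullSubcategory] [PreservesFiniteLimits Q.ι]
    [PreservesFiniteColimits Q.ι] : Prop :=
  (∀ (M N : DerivedCategory Q.FullSubcategory) (a b : ℤ), M.IsGE a → M.IsLE b → N.IsGE a → N.IsLE b →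
    Function.Bijective (fun φ : M ⟶ N => Q.ι.mapDerivedCategory.map φ)) ∧
  ∀ (K : DerivedCategory B) (a b : ℤ), K.IsGE a → K.IsLE b → coh Q K →
    ∃ M : DerivedCategory Q.FullSubcategory, M.IsGE a ∧ M.IsLE b ∧
      Nonempty (Q.ι.mapDerivedCategory.obj M ≅ K)

variable [Q.IsClosedUnderIsomorphisms] [Q.ContainsZero] [Q.IsClosedUnderKernels] [Q.IsClosedUnderCokernels]
  [Q.IsClosedUnderFiniteProducts] [HasDerivedCategory.{w'} Q.FullSubcategory] [PreservesFiniteLimits Q.ι]
  [PreservesFiniteColimits Q.ι]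

omit [Q.IsClosedUnderIsomorphisms] [Q.ContainsZero] [Q.IsClosedUnderKernels] [Q.IsClosedUnderCokernels]
  [Q.IsClosedUnderFiniteProducts] [HasDerivedCategory.{w'} Q.FullSubcategory] [PreservesFiniteLimits Q.ι]
  [PreservesFiniteColimits Q.ι] in
lemma epi_comp3 {C : Type*} [Category* C] {W X Y Z : C} (f : W ⟶ X) (g : X ⟶ Y) (h : Y ⟶ Z) [IsIso f] [Epi g] [IsIso h] :
    Epi (f ≫ g ≫ h) := inferInstance

lemma dev0 (hyp : Hyp.{w, w'} Q) (Pm : Q.FullSubcategory → Prop)
    (hPm : ∀ N₀, ∃ (N : Q.FullSubcategory) (p : N ⟶ N₀), Epi p ∧ Pm N) (X Z : DerivedCategory B) (q : X ⟶ Z)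
    (a : ℤ) (hX : coh Q X) (hZ : coh Q Z)
    [X.IsGE a] [Z.IsGE a] [X.IsLE 0] [Z.IsLE (-1)] : ∃ (N : Q.FullSubcategory)
      (g : (DerivedCategory.singleFunctor B 0).obj N.obj ⟶ X),
      Epi ((DerivedCategory.homologyFunctor B 0).map g) ∧ g ≫ q = 0 ∧ Pm N := by
  obtain ⟨MX, hX1, hX2, ⟨eX⟩⟩ := hyp.2 X a 0 inferInstance inferInstance hX
  obtain ⟨MZ, hZ1, hZ2, ⟨eZ⟩⟩ := hyp.2 Z a (-1) inferInstance inferInstance hZ
  have hZ3 : MZ.IsLE 0 := TStructure.t.isLE_of_le MZ (-1) 0 (by omega)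
  obtain ⟨q', hq'⟩ := (hyp.1 MX MZ a 0 hX1 hX2 hZ1 hZ3).2 (eX.hom ≫ q ≫ eZ.inv)
  obtain ⟨N, g, hg, hgq, hPN⟩ := K350.HDb.exists_single_epi_comp_zero_of_cover Pm hPm MX MZ q' 0 (-1) (by omega)
  let e := (Q.ι.mapDerivedCategorySingleFunctor 0).app N
  refine ⟨N, e.inv ≫ Q.ι.mapDerivedCategory.map g ≫ eX.hom, ?_, ?_, hPN⟩
  · have h1 : Epi ((DerivedCategory.homologyFunctor B 0).map (Q.ι.mapDerivedCategory.map g)) := by
      have h3 : Epi (Q.ι.map ((DerivedCategory.homologyFunctor Q.FullSubcategory 0).map g)) := inferInstance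
      change Epi ((Q.ι.mapDerivedCategory ⋙ DerivedCategory.homologyFunctor B 0).map g)
      rw [← NatIso.naturality_2 (Groth.Agent.PerfA.ExactD.mapHomology Q.ι 0) g]
      have h4 : Epi ((DerivedCategory.homologyFunctor Q.FullSubcategory 0 ⋙ Q.ι).map g) := h3
      exact epi_comp3 _ _ _
    rw [Functor.map_comp, Functor.map_comp]
    infer_instance
  · have h4 : Q.ι.mapDerivedCategory.map g ≫ Q.ι.mapDerivedCategory.map q' = 0 := by
      rw [← Functor.map_comp, hgq, Functor.map_zero]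
    change Q.ι.mapDerivedCategory.map q' = _ at hq'
    rw [hq', ← cancel_mono eZ.hom] at h4
    simp only [Category.assoc, Iso.inv_hom_id, Category.comp_id, zero_comp] at h4 ⊢
    rw [h4, comp_zero]

variable [P.IsTriangulated]

theorem heartData (h : IsBdd Q P) (hyp : Hyp.{w, w'} Q) : K350.HD.HeartData (tS h) (inC h) where
  additive := ⟨fun {X Y f g} => ObjectProperty.hom_ext _
    ((DerivedCategory.singleFunctor B 0).map_add (f := f.hom) (g := g.hom))⟩
  full := ⟨fun {X Y} f => by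
    obtain ⟨g, hg⟩ := (DerivedCategory.singleFunctor B 0).map_surjective f.hom
    exact ⟨ObjectProperty.homMk g, ObjectProperty.hom_ext _ hg⟩⟩
  faithful := ⟨fun {X Y} f g h => by
    apply ObjectProperty.hom_ext
    apply (DerivedCategory.singleFunctor B 0).map_injective
    exact congrArg (fun x => x.hom) h⟩
  le0 M := (tS_isLE_iff h _ _).2 (inferInstanceAs (((DerivedCategory.singleFunctor B 0).obj M.obj).IsLE 0))
  ge0 M := (tS_isGE_iff h _ _).2 (inferInstanceAs (((DerivedCategory.singleFunctor B 0).obj M.obj).IsGE 0))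
  exists_iso0 X h1 h2 := by
    rw [tS_isLE_iff] at h1
    rw [tS_isGE_iff] at h2
    obtain ⟨M, ⟨e⟩⟩ := DerivedCategory.exists_iso_singleFunctor_obj_of_isGE_of_isLE X.obj 0
    have hM : Q M := Q.prop_of_iso ((DerivedCategory.homologyFunctor B 0).mapIso e ≪≫
      (DerivedCategory.singleFunctorCompHomologyFunctorIso B 0).app M) (((h _).1 X.property).1 0)
    exact ⟨⟨M, hM⟩, ⟨ObjectProperty.isoMk _ e⟩⟩
  dev0 Pm hPm X Z q h1 h2 := by
    rw [tS_isLE_iff] at h1 h2
    obtain ⟨hX, a1, b1, ha1, -⟩ := (h _).1 X.property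
    obtain ⟨hZ, a2, b2, ha2, -⟩ := (h _).1 Z.property
    let a := min (min a1 a2) (-1)
    have i1 : X.obj.IsGE a := TStructure.t.isGE_of_ge X.obj a a1 (by omega)
    have i2 : Z.obj.IsGE a := TStructure.t.isGE_of_ge Z.obj a a2 (by omega)
    obtain ⟨N, g, hg, hgq, hPN⟩ := dev0 hyp Pm hPm X.obj Z.obj q.hom a hX hZ
    let g' : (inC h).obj N ⟶ X := ObjectProperty.homMk g
    obtain ⟨Y, π, δ, hT⟩ := distinguished_cocone_triangle g'
    refine ⟨N, Y, g', π, δ, hT, ?_, hPN, ObjectProperty.hom_ext _ hgq⟩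
    rw [tS_isLE_iff]
    have hT' := P.ι.map_distinguished _ hT
    have i1 : ((P.ι.mapTriangle.obj (Triangle.mk g' π δ)).obj₁).IsLE 0 :=
      inferInstanceAs (((DerivedCategory.singleFunctor B 0).obj N.obj).IsLE 0)
    have i2 : ((P.ι.mapTriangle.obj (Triangle.mk g' π δ)).obj₂).IsLE 0 := h1
    have i3 : Epi ((DerivedCategory.homologyFunctor B 0).map
      (P.ι.mapTriangle.obj (Triangle.mk g' π δ)).mor₁) := hg
    exact K350.HDb.isLE_cone _ hT' 0
  ses0 {K E M} i p w hS := by
    have hS' : ((ShortComplex.mk i p w).map Q.ι).ShortExact := hS.map_of_exact Q.ι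
    have hT := hS'.singleTriangle_distinguished
    let c := P.ι.commShiftIso (1:ℤ)
    let δ : (inC h).obj M ⟶ ((inC h).obj K)⟦(1:ℤ)⟧ :=
      ObjectProperty.homMk (hS'.singleδ ≫ c.inv.app ((inC h).obj K))
    refine ⟨δ, ?_⟩
    change P.ι.mapTriangle.obj _ ∈ distTriang (DerivedCategory B)
    refine isomorphic_distinguished _ hT _ (Triangle.isoMk _ _ (Iso.refl _) (Iso.refl _)
      (Iso.refl _) ?_ ?_ ?_)
    · change (DerivedCategory.singleFunctor B 0).map (Q.ι.map i) ≫ 𝟙 _ = 𝟙 _ ≫ _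
      exact (Category.comp_id _).trans (Category.id_comp _).symm
    · change (DerivedCategory.singleFunctor B 0).map (Q.ι.map p) ≫ 𝟙 _ = 𝟙 _ ≫ _
      exact (Category.comp_id _).trans (Category.id_comp _).symm
    · exact K350.HDb.aux_comp _ _ _ _ (Iso.inv_hom_id_app c ((inC h).obj K)) (CategoryTheory.Functor.map_id _ _)

end

end K160.HeartAbs
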