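import Groth.Agent.Dual.H364.InvD
import Groth.Agent.Dual.H313.InvLocal
import Groth.Agent.Dcoh.PerfTens
import Groth.Agent.PerfB.StructFlat

/-!
# Invertible objects of `D(O_X)` are perfect and invertible for the tensor product

`X` locally Noetherian, `L` locally a shift of the structure sheaf: `L` is perfect (`isPerfect`) and there is a perfect
`L'` with `L ⊗ L' ≅ 1` (`exists_inv`).
-/

set_option autoImplicit false

universe u

open CategoryTheory CategoryTheory.Limits AlgebraicGeometry MonoidalCategory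

attribute [local instance] HasDerivedCategory.standard

open scoped Groth.Agent.Dcoh.MonCat Groth.Agent.Dcoh.ModD

namespace K160.InvPerf

open Groth.Agent.Dual.H313.InvLocal Groth.Agent.Dual.H364.InvD Groth.Agent.PerfA.PerfLocal

variable {X : Scheme.{u}}

/-- An object which is locally a shift of the structure sheaf is so on affine opens. -/
theorem locInv_of_invAt {L : DCoh.D X} (h : ∀ x, InvAt L x) : LocInv L := by
  intro x
  obtain ⟨V, j, _, n, y, rfl, ⟨e⟩⟩ := h x
  obtain ⟨A, _, i, _, z, hz⟩ := Groth.Agent.LoccohB.BiGlobal.exists_affine V y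
  refine ⟨A, inferInstance, i ≫ j, inferInstance, n, ⟨z, by rw [Scheme.Hom.comp_apply, hz]⟩, ⟨?_⟩⟩
  exact ((restrictDComp i j).app L).symm ≪≫ (Groth.Agent.PerfA.Restrict.restrictD i).mapIso e ≪≫
    restrictOShift i n

theorem isPerfect {L : DCoh.D X} (h : ∀ x, InvAt L x) : DCoh.IsPerfect L := by
  refine isPerfect_of_restrictD L fun x => ?_
  obtain ⟨V, j, hj, n, y, hy, ⟨e⟩⟩ := h x
  exact ⟨V, j, hj, y, hy, isPerfect_of_iso e.symm
    (isPerfect_shift Groth.Agent.PerfB.StructFlat.isPerfect_inD_structure n)⟩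

theorem exists_inv [IsLocallyNoetherian X] {L : DCoh.D X} (h : ∀ x, InvAt L x) :
    ∃ L' : DCoh.D X, DCoh.IsPerfect L' ∧ Nonempty (L ⊗ L' ≅ 𝟙_ (DCoh.D X)) := by
  obtain ⟨L', hL', ⟨hp⟩⟩ := Groth.Agent.Dcoh.PerfDual.exists_exactPairing L (isPerfect h)
  refine ⟨L', hL', ?_⟩
  obtain ⟨e1⟩ := nonempty_rhSelf (locInv_of_invAt h)
  obtain ⟨e2⟩ := Groth.Agent.Dcoh.PerfDual.nonempty_flipIso L
  let adj1 := (Groth.Agent.PerfC.RHomD.rhAdj L).ofNatIsoLeft e2
  let adj2 : tensorRight L ⊣ tensorRight L' := tensorRightAdjunction L L'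
  let e3 := adj2.rightAdjointUniq adj1
  exact ⟨e3.app L ≪≫ e1 ≪≫ Groth.Agent.Dcoh.DualX.unitIso X⟩

end K160.InvPerf
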