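import Groth.Agent.AbVar.K512.FMIso
import Groth.Agent.DEquiv.K353.Conv
import Groth.Agent.Cohder.RelPCMon
import Groth.Agent.Dcoh.PerfTens
import Groth.Agent.PerfC.LpullPC
import Groth.Agent.PerfC.PullKFlat

/-!
# Twisting by an automorphism and an invertible module

* `nonempty_tensorRight`: termwise `- ⊗ L` on `D(O_X)` is `- ⊗ L[0]` for the monoidal structure, `L` flat;
* `single_twist`: `M ↦ (f^* M ⊗ L)[0]` is `M ↦ Lf^*(M[0]) ⊗ L[0]`, `f` flat and `L` invertible;
* `fm_twist`: `E ↦ Φ_K(Lf^* E ⊗ L)` is a Fourier–Mukai functor for `f` an isomorphism.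
-/

set_option autoImplicit false

universe u

open CategoryTheory CategoryTheory.Limits AlgebraicGeometry MonoidalCategory

attribute [local instance] HasDerivedCategory.standard

open scoped Groth.Agent.Dcoh.MonCat Groth.Agent.Dcoh.ModD

namespace K160.InvTwist

open Groth.Agent.Cohder.RelPCMon Groth.Agent.Dcoh.MonCx Groth.Agent.Dcoh.MonD Groth.Agent.Dcoh.ModD
  K353.OnSub K353.Calc K353.Conv

variable {X : Scheme.{u}}

lemma isKFlat_sgl {L : X.Modules} (hL : FlatMod.IsFlat L) : DCoh.IsKFlat (sgl L) :=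
  Groth.Agent.Dcoh.KFlatMod.isKFlat_single _ hL 0

/-- Termwise `- ⊗ L` is `- ⊗ L[0]` in the derived category. -/
theorem nonempty_tensorRight (L : X.Modules) (hL : FlatMod.IsFlat L)
    [PreservesFiniteLimits (DCoh.tensorRightMod L)] :
    Nonempty ((DCoh.tensorRightMod L).mapDerivedCategory ≅ tensorRight (DerivedCategory.Q.obj (sgl L))) := by
  obtain ⟨s⟩ := Groth.Agent.Dcoh.LTMod.nonempty_singleIso' L
  let s' : (DCoh.tensorRightMod L).mapHomologicalComplex (ComplexShape.up ℤ) ≅ tensorRight (sgl L) :=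
    s ≪≫ NatIso.ofComponents (fun _ => Iso.refl _) (fun f =>
      (Category.comp_id _).trans (Category.id_comp _).symm)
  let _ : Localization.Lifting DerivedCategory.Q
      (HomologicalComplex.quasiIso X.Modules (ComplexShape.up ℤ)) (tensorRight (sgl L) ⋙ DerivedCategory.Q)
      (tensorRight (DerivedCategory.Q.obj (sgl L))) := ⟨μR (P := KF X) (sgl L) (isKFlat_sgl hL)⟩
  let _ : Localization.Lifting DerivedCategory.Q
      (HomologicalComplex.quasiIso X.Modules (ComplexShape.up ℤ))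
      ((DCoh.tensorRightMod L).mapHomologicalComplex (ComplexShape.up ℤ) ⋙ DerivedCategory.Q)
      (DCoh.tensorRightMod L).mapDerivedCategory := ⟨(DCoh.tensorRightMod L).mapDerivedCategoryFactors⟩
  exact ⟨Localization.liftNatIso DerivedCategory.Q (HomologicalComplex.quasiIso X.Modules (ComplexShape.up ℤ))
    ((DCoh.tensorRightMod L).mapHomologicalComplex (ComplexShape.up ℤ) ⋙ DerivedCategory.Q)
    (tensorRight (sgl L) ⋙ DerivedCategory.Q) _ _ (Functor.isoWhiskerRight s' DerivedCategory.Q)⟩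

/-- `(f^* M ⊗ L)[0] ≅ Lf^*(M[0]) ⊗ L[0]`. -/
theorem single_twist {Y : Scheme.{u}} (f : X ⟶ Y) [Flat f] [DCoh.HasLpull f] (L : X.Modules) (hL : PicF.IsInvertible L) :
    Nonempty ((Scheme.Modules.pullback f ⋙ DCoh.tensorRightMod L) ⋙ DerivedCategory.singleFunctor X.Modules 0 ≅
      DerivedCategory.singleFunctor Y.Modules 0 ⋙ DCoh.Lpull f ⋙ tensorRight (DerivedCategory.Q.obj (sgl L))) := by
  have h1 := K512.FMIso.pfl hL
  have h2 := Groth.Agent.PerfB.FlatPull.preservesFiniteLimits_pullback f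
  have hLf : FlatMod.IsFlat L := Groth.Agent.PerfB.TensInv.isFlat_of_isInvertible hL
  obtain ⟨e⟩ := nonempty_tensorRight L hLf
  exact ⟨Functor.associator _ _ _ ≪≫ Functor.isoWhiskerLeft _
    ((DCoh.tensorRightMod L).mapDerivedCategorySingleFunctor 0).symm ≪≫ (Functor.associator _ _ _).symm ≪≫
    Functor.isoWhiskerRight ((Scheme.Modules.pullback f).mapDerivedCategorySingleFunctor 0).symm _ ≪≫
    Functor.associator _ _ _ ≪≫ Functor.isoWhiskerLeft _
      (Functor.isoWhiskerLeft _ e ≪≫ Functor.isoWhiskerRight (Groth.Agent.Dcoh.DerPull.lpullFlatIso f).symm _)⟩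

variable {Y W : Scheme.{u}}

/-- `E ↦ Φ_K(Lf^* E ⊗ L)` is a Fourier–Mukai functor for `f` an isomorphism. -/
theorem fm_twist (f : X ⟶ X) (p : W ⟶ X) (q : W ⟶ Y) (g : W ⟶ W) [IsIso g] (hp : g ≫ p = p ≫ f) (hq : g ≫ q = q)
    [DCoh.HasLpull f] [DCoh.HasLpull p] [DCoh.HasRpush q] (L : DCoh.D X) (hL : DCoh.IsPerfect L)
    (K : DCoh.D W) (hK : DCoh.IsPerfect K) :
    ∃ N : DCoh.D W, DCoh.IsPerfect N ∧ IsoOn (qc X) (DCoh.Lpull f ⋙ tensorRight L ⋙ fm p q K) (fm p q N) := by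
  have := hasRpush g
  have := hasLpull (p ≫ f)
  let C := (DCoh.Lpull p).obj L ⊗ K
  have hC : DCoh.IsPerfect C := Groth.Agent.Dcoh.PerfTens.isPerfect_tensor
    (Groth.Agent.PerfC.LpullPC.isPerfect_lpull Groth.Agent.PerfC.PullKFlat.exists_pullData p hL) hK
  have := hasLpull (inv g)
  have hC' : DCoh.IsPerfect ((DCoh.Rpush g).obj C) := Groth.Agent.PerfA.PerfLocal.isPerfect_of_iso
    ((K512.FMIso.pushIso g (inv g) (by simp) (by simp)).symm.app C)
    (Groth.Agent.PerfC.LpullPC.isPerfect_lpull Groth.Agent.PerfC.PullKFlat.exists_pullData (inv g) hC)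
  refine ⟨(DCoh.Rpush g).obj C, hC', ?_⟩
  obtain ⟨i⟩ := lpull_tensor p L
  obtain ⟨j⟩ := lpull_comp p f (p ≫ f) rfl
  obtain ⟨l⟩ := tensorRight_comp ((DCoh.Lpull p).obj L) K
  have h1 := fm_push g p q (p ≫ f) q hp hq C (Groth.Agent.PerfA.QCohD.isQCohD_of_isPerfect C hC)
  refine IsoOn.trans (IsoOn.of_iso ?_) h1.symm
  exact Functor.isoWhiskerLeft (DCoh.Lpull f) (Functor.isoWhiskerRight i (tensorRight K ⋙ DCoh.Rpush q)) ≪≫
    Functor.isoWhiskerRight j (tensorRight ((DCoh.Lpull p).obj L) ⋙ tensorRight K ⋙ DCoh.Rpush q) ≪≫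
    Functor.isoWhiskerLeft (DCoh.Lpull (p ≫ f)) (Functor.isoWhiskerRight l (DCoh.Rpush q))

end K160.InvTwist
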