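import Groth.Agent.Dual.H345.LinD
import Groth.Agent.CurvesC.DualLin
import Groth.Prelude.Def_KLin

/-!
# Comparison of linear structures on `D(O_X)`

For `X` over `Spec A`, the `A`-linear structure `KLin.linearOver A X` and

* `linearModules_eq`: it is equal to `CurvesC.LinMod.linearModules A X`;
* `smul_eq`: `a • φ` is the action of the global function `a` in the `Γ(X, ⊤)`-linear structure, for `φ` in `D(O_X)`;
* `smul_whiskerRight`: `(a • φ) ▷ Z = a • (φ ▷ Z)`;
* `exists_form`: the linear form of `CurvesC.DualLin` for this linear structure.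
-/

set_option autoImplicit false

universe u

open CategoryTheory CategoryTheory.Limits AlgebraicGeometry MonoidalCategory

attribute [local instance] HasDerivedCategory.standard

namespace K160.KLinD

open Groth.Agent.LoccohB.SectLin303

variable (A : Type u) [CommRing A] (X : Scheme.{u}) [X.Over (Spec (CommRingCat.of A))]

theorem linearModules_eq : Groth.Agent.CurvesC.LinMod.linearModules A X = KLin.linearOver A X := by
  have h : ∀ L L' : Linear A X.Modules, (∀ (M N : X.Modules) (a : A) (f : M ⟶ N),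
      (L.homModule M N).toSMul.smul a f = (L'.homModule M N).toSMul.smul a f) → L = L' := by
    intro L L' h
    obtain ⟨m, _, _⟩ := L
    obtain ⟨m', _, _⟩ := L'
    have hm : m = m' := by
      funext M N
      apply Module.ext'
      intro a f
      exact h M N a f
    subst hm
    rfl
  apply h
  intro M N a f
  change f ≫ Formal.smulMod A N a = Formal.smulMod A M a ≫ f
  exact KLin.comp_smulModΓ f _

variable {A X}

variable (X) in
/-- The global function attached to `a : A`. -/
noncomputable abbrev gl (a : A) : Γ(X, ⊤) := Coh.toGlobal (X ↘ Spec (CommRingCat.of A)) a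

lemma smul_id_eq (M : X.Modules) (a : A) :
    a • 𝟙 M = gl X a • 𝟙 M := by
  rw [KLin.smul_id, smul_eq, Category.comp_id]
  rfl

lemma smul_id_eqC (K : CochainComplex X.Modules ℤ) (a : A) :
    a • 𝟙 K = gl X a • 𝟙 K := by
  refine HomologicalComplex.hom_ext _ _ fun i => ?_
  exact smul_id_eq (K.X i) a

lemma smul_id_eqD (K : DCoh.D X) (a : A) :
    a • 𝟙 K = gl X a • 𝟙 K := by
  have h : Groth.Agent.LoccohB.SectLin303.Inter (𝟭 (DCoh.D X)) a (gl X a) := by
    apply inter_of_Q
    intro M
    refine ⟨_, ⟨DerivedCategory.Q.objObjPreimageIso M⟩, ?_⟩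
    rw [smul_id_eqC, Functor.map_smul, CategoryTheory.Functor.map_id]
    rfl
  exact h K

/-- The action of `a : A` is the action of the corresponding global function. -/
lemma smul_eq {K L : DCoh.D X} (a : A) (φ : K ⟶ L) :
    a • φ = gl X a • φ := by
  have h := smul_id_eqD K a
  rw [← Category.id_comp φ, ← Linear.smul_comp, h, Linear.smul_comp]

open scoped Groth.Agent.Dcoh.MonCat Groth.Agent.Dcoh.ModD

lemma smul_whiskerRight (Z : DCoh.D X) {K L : DCoh.D X} (a : A) (φ : K ⟶ L) :
    (a • φ) ▷ Z = a • (φ ▷ Z) := by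
  have h1 : (a • φ) ▷ Z = (gl X a • φ) ▷ Z := congrArg (fun ψ => ψ ▷ Z) (smul_eq a φ)
  have h2 : a • (φ ▷ Z) = gl X a • (φ ▷ Z) := smul_eq a (φ ▷ Z)
  exact h1.trans ((Groth.Agent.Dual.H345.LinD.smul_whiskerRight Z (gl X a) φ).trans h2.symm)

theorem exists_form (k : Type u) [Field k] (X : Scheme.{u}) [X.Over (Spec (CommRingCat.of k))]
    [DCoh.HasRpush (X ↘ Spec (CommRingCat.of k))]
    (h : DCoh.RpushPreservesQCoh (X ↘ Spec (CommRingCat.of k)))
    [DCoh.HasShriek (X ↘ Spec (CommRingCat.of k)) h]
    (OY : DCoh.DQCoh (Spec (CommRingCat.of k)))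
    (hOY : Nonempty (OY.obj ≅ DCoh.inD (Spec (CommRingCat.of k))
      (Coh.structureModule (Spec (CommRingCat.of k))))) :
    ∃ τ : (DCoh.inD X (Coh.structureModule X) ⟶
        DCoh.dualizingCx (X ↘ Spec (CommRingCat.of k)) h OY) →ₗ[k] k,
      ∀ K : DCoh.D X, DCoh.IsQCohD K → Function.Bijective
        (fun φ : K ⟶ DCoh.dualizingCx (X ↘ Spec (CommRingCat.of k)) h OY =>
          τ ∘ₗ Linear.rightComp k (DCoh.inD X (Coh.structureModule X)) φ) := by
  have key : ∀ L : Linear k X.Modules, Groth.Agent.CurvesC.LinMod.linearModules k X = L →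
      letI : Linear k X.Modules := L
      ∃ τ : (DCoh.inD X (Coh.structureModule X) ⟶
        DCoh.dualizingCx (X ↘ Spec (CommRingCat.of k)) h OY) →ₗ[k] k,
      ∀ K : DCoh.D X, DCoh.IsQCohD K → Function.Bijective
        (fun φ : K ⟶ DCoh.dualizingCx (X ↘ Spec (CommRingCat.of k)) h OY =>
          τ ∘ₗ Linear.rightComp k (DCoh.inD X (Coh.structureModule X)) φ) := by
    rintro L rfl
    exact Groth.Agent.CurvesC.DualLin.exists_form k X h OY hOY
  exact key _ (linearModules_eq k X)

end K160.KLinD
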