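import Groth.Agent.DEquiv.K370.Tower
import Mathlib.Algebra.Homology.DerivedCategory.HomologySequence
import Mathlib.Algebra.Homology.DerivedCategory.TStructure
import Mathlib.CategoryTheory.Triangulated.Subcategory
import Mathlib.CategoryTheory.Triangulated.TStructure.TruncLTGE

/-!
# Postnikov towers in subcategories and in derived categories

* `liftT`: a tower whose objects belong to a triangulated subcategory lifts to it;
* `isZero₁`, `isZero₂`, `isZero₃`, `isIso_mor₁`, `isIso_mor₂`: cohomology of triangles;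
* `tower_le`, `tower_ge`: bounds of the objects of a tower.
-/

set_option autoImplicit false

universe w v v' u u'

open CategoryTheory CategoryTheory.Limits Pretriangulated K370.Tower

namespace K160.TowerX

section Lift

variable {C : Type u} [Category.{v} C] [Preadditive C] [HasZeroObject C] [HasShift C ℤ]
  [∀ n : ℤ, (shiftFunctor C n).Additive] [Pretriangulated C]
  (Q : ObjectProperty C) [Q.IsTriangulated] [Q.IsClosedUnderIsomorphisms]

/-- Objects of a tower belong to a triangulated subcategory. -/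
theorem tower_mem {X : ℕ → C} {d : ∀ n, X (n + 1) ⟶ X n} (T : Tower X d) (hX : ∀ n, Q (X n)) (n : ℕ) :
    Q (T.Y n) := by
  induction n with
  | zero =>
    have := T.iso0
    exact Q.prop_of_iso (asIso (T.j 0)).symm (hX 0)
  | succ n ih => exact Q.ext_of_isTriangulatedClosed₁ _ (T.dist n) (hX _) ih

/-- The lifted tower. -/
noncomputable def liftT (X : ℕ → Q.FullSubcategory) (d : ∀ n, X (n + 1) ⟶ X n)
    (T : Tower (fun n => (X n).obj) (fun n => (d n).hom)) : Tower X d where
  Y n := ⟨T.Y n, tower_mem Q T (fun n => (X n).property) n⟩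
  j n := ObjectProperty.homMk (T.j n)
  p n := ObjectProperty.homMk (T.p n)
  δ n := ObjectProperty.homMk (T.δ n ≫ (Q.ι.commShiftIso (1 : ℤ)).inv.app
    ⟨T.Y (n + 1), tower_mem Q T (fun n => (X n).property) (n + 1)⟩)
  iso0 := by
    have := T.iso0
    have h : IsIso (Q.ι.map (ObjectProperty.homMk (T.j 0) :
      (⟨T.Y 0, tower_mem Q T (fun n => (X n).property) 0⟩ : Q.FullSubcategory) ⟶ X 0)) := this
    exact isIso_of_reflects_iso _ Q.ι
  fac n := ObjectProperty.hom_ext _ (T.fac n)
  dist n := by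
    change Q.ι.mapTriangle.obj _ ∈ distTriang C
    refine isomorphic_distinguished _ (T.dist n) _ (Triangle.isoMk _ _ (Iso.refl _) (Iso.refl _)
      (Iso.refl _) ?_ ?_ ?_)
    · exact (Category.comp_id _).trans (Category.id_comp _).symm
    · exact (Category.comp_id _).trans (Category.id_comp _).symm
    · let A : Q.FullSubcategory := ⟨T.Y (n + 1), tower_mem Q T (fun n => (X n).property) (n + 1)⟩
      have h := (Q.ι.commShiftIso (1 : ℤ)).inv_hom_id_app A
      have h2 : (T.δ n ≫ (Q.ι.commShiftIso (1 : ℤ)).inv.app A) ≫ (Q.ι.commShiftIso (1 : ℤ)).hom.app A =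
          T.δ n := (Category.assoc _ _ _).trans ((congrArg (T.δ n ≫ ·) h).trans (Category.comp_id _))
      have h3 : (shiftFunctor C (1 : ℤ)).map (𝟙 (T.Y (n + 1))) = 𝟙 _ := CategoryTheory.Functor.map_id _ _
      exact (congrArg (· ≫ (shiftFunctor C (1 : ℤ)).map (𝟙 (T.Y (n + 1)))) h2).trans
        ((congrArg (T.δ n ≫ ·) h3).trans ((Category.comp_id _).trans (Category.id_comp _).symm))

end Lift

section Der

variable {A : Type u} [Category.{v} A] [Abelian A] [HasDerivedCategory.{w} A]

open DerivedCategory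

variable (T : Triangle (DerivedCategory A)) (hT : T ∈ distTriang (DerivedCategory A))

include hT

lemma isZero₁ (i j : ℤ) (hij : j + 1 = i) (h2 : IsZero ((homologyFunctor A i).obj T.obj₂))
    (h3 : IsZero ((homologyFunctor A j).obj T.obj₃)) : IsZero ((homologyFunctor A i).obj T.obj₁) :=
  (HomologySequence.exact₁ T hT j i hij).isZero_of_both_zeros (h3.eq_of_src _ _) (h2.eq_of_tgt _ _)

lemma isZero₂ (i : ℤ) (h1 : IsZero ((homologyFunctor A i).obj T.obj₁))
    (h3 : IsZero ((homologyFunctor A i).obj T.obj₃)) : IsZero ((homologyFunctor A i).obj T.obj₂) :=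
  (HomologySequence.exact₂ T hT i).isZero_of_both_zeros (h1.eq_of_src _ _) (h3.eq_of_tgt _ _)

lemma isZero₃ (i j : ℤ) (hij : i + 1 = j) (h2 : IsZero ((homologyFunctor A i).obj T.obj₂))
    (h1 : IsZero ((homologyFunctor A j).obj T.obj₁)) : IsZero ((homologyFunctor A i).obj T.obj₃) :=
  (HomologySequence.exact₃ T hT i j hij).isZero_of_both_zeros (h2.eq_of_src _ _) (h1.eq_of_tgt _ _)

lemma isIso_mor₂ (i j : ℤ) (hij : i + 1 = j) (h1 : IsZero ((homologyFunctor A i).obj T.obj₁))
    (h1' : IsZero ((homologyFunctor A j).obj T.obj₁)) : IsIso ((homologyFunctor A i).map T.mor₂) := by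
  have := (HomologySequence.epi_homologyMap_mor₂_iff T hT i j hij).2 (h1'.eq_of_tgt _ _)
  have := (HomologySequence.mono_homologyMap_mor₂_iff T hT i).2 (h1.eq_of_src _ _)
  exact isIso_of_mono_of_epi _

lemma isIso_mor₁ (i j : ℤ) (hij : j + 1 = i) (h3 : IsZero ((homologyFunctor A i).obj T.obj₃))
    (h3' : IsZero ((homologyFunctor A j).obj T.obj₃)) : IsIso ((homologyFunctor A i).map T.mor₁) := by
  have := (HomologySequence.epi_homologyMap_mor₁_iff T hT i).2 (h3.eq_of_tgt _ _)
  have := (HomologySequence.mono_homologyMap_mor₁_iff T hT j i hij).2 (h3'.eq_of_src _ _)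
  exact isIso_of_mono_of_epi _

omit hT

/-- Truncation triangles with isomorphic middle terms. -/
theorem nonempty_iso_of_trunc {T T' : Triangle (DerivedCategory A)} (hT : T ∈ distTriang (DerivedCategory A))
    (hT' : T' ∈ distTriang (DerivedCategory A)) (e : T.obj₂ ≅ T'.obj₂) (a b : ℤ) (hab : a < b)
    (h₀ : T.obj₁.IsLE a) (h₁ : T.obj₃.IsGE b) (h₀' : T'.obj₁.IsLE a) (h₁' : T'.obj₃.IsGE b) :
    Nonempty (T.obj₃ ≅ T'.obj₃) := by
  obtain ⟨e', -⟩ := TStructure.t.triangle_iso_exists hT hT' e a b h₀ h₁ h₀' h₁' hab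
  exact ⟨Triangle.π₃.mapIso e'⟩

/-- Homology and shifts. -/
theorem isIso_H_shift_iff {K L : DerivedCategory A} (f : K ⟶ L) (n i j : ℤ) (h : n + i = j) :
    IsIso ((homologyFunctor A i).map (f⟦n⟧')) ↔ IsIso ((homologyFunctor A j).map f) :=
  NatIso.isIso_map_iff ((homologyFunctor A 0).shiftIso n i j h) f

theorem isZero_H_shift_iff (K : DerivedCategory A) (n i j : ℤ) (h : n + i = j) :
    IsZero ((homologyFunctor A i).obj (K⟦n⟧)) ↔ IsZero ((homologyFunctor A j).obj K) :=
  (((homologyFunctor A 0).shiftIso n i j h).app K).isZero_iff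

variable {X : ℕ → DerivedCategory A} {d : ∀ n, X (n + 1) ⟶ X n} (P : Tower X d)

theorem tower_le (b : ℤ) (hX : ∀ n i, b < i → IsZero ((homologyFunctor A i).obj (X n))) (n : ℕ) :
    ∀ i, b + n < i → IsZero ((homologyFunctor A i).obj (P.Y n)) := by
  induction n with
  | zero =>
    intro i hi
    have := P.iso0
    exact (hX 0 i (by simpa using hi)).of_iso ((homologyFunctor A i).mapIso (asIso (P.j 0)))
  | succ n ih =>
    intro i hi
    refine isZero₁ _ (P.dist n) i (i - 1) (by omega) (hX _ i ?_) (ih (i - 1) ?_) <;>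
    · push_cast at hi ⊢
      omega

theorem tower_ge (a : ℤ) (hX : ∀ n i, i < a → IsZero ((homologyFunctor A i).obj (X n))) (n : ℕ) :
    ∀ i, i < a → IsZero ((homologyFunctor A i).obj (P.Y n)) := by
  induction n with
  | zero =>
    intro i hi
    have := P.iso0
    exact (hX 0 i hi).of_iso ((homologyFunctor A i).mapIso (asIso (P.j 0)))
  | succ n ih =>
    intro i hi
    exact isZero₁ _ (P.dist n) i (i - 1) (by omega) (hX _ i hi) (ih (i - 1) (by omega))

end Der

end K160.TowerX
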