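import Groth.Agent.DEquiv.K160.PsiF
import Groth.Agent.DEquiv.K160.TowerX
import Groth.Agent.DEquiv.K370.TowerCoh
import Groth.Agent.DEquiv.K370.ZeroDim

/-!
# The Postnikov systems on `X × X` and `X × Y`
-/

set_option autoImplicit false
set_option linter.unusedSectionVars false

universe u

open CategoryTheory CategoryTheory.Limits AlgebraicGeometry MonoidalCategory Pretriangulated

attribute [local instance] HasDerivedCategory.standard

open scoped Groth.Agent.Dcoh.MonCat Groth.Agent.Dcoh.ModD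

namespace K160.KerData

open Groth.Agent Groth.Agent.Dcoh Groth.Agent.Dual.H379 Groth.Agent.PerfC.DTens
open K353.Calc BoxAbs BoxLin BoxCoef BoxSch BoxK FieldDec PsiF K370.Tower TowerX

attribute [local instance] Groth.Agent.Fixpt.H313.AddD.monPreDX monLinDX DQMon.lpullMon
  K353.Calc.hasRpush K353.Calc.hasLpull

section Gen

variable {X Y : Scheme.{u}}

instance perfP_iso : (SGA6.perfP X).IsClosedUnderIsomorphisms :=
  ⟨fun e h => PerfA.PerfLocal.isPerfect_of_iso e h⟩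

variable [(SGA6.perfP X).IsTriangulated] [(SGA6.perfP Y).IsTriangulated]
  (F : (SGA6.perfP X).FullSubcategory ⥤ (SGA6.perfP Y).FullSubcategory) [F.CommShift ℤ]
  [F.IsTriangulated]

/-- Exact functors on triangles of perfect objects. -/
theorem map_triangle {A B C : (SGA6.perfP X).FullSubcategory} (f : A.obj ⟶ B.obj) (g : B.obj ⟶ C.obj)
    (h : C.obj ⟶ A.obj⟦(1 : ℤ)⟧) (hT : Triangle.mk f g h ∈ distTriang (DCoh.D X)) :
    ∃ (f' : (F.obj A).obj ⟶ (F.obj B).obj) (g' : (F.obj B).obj ⟶ (F.obj C).obj)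
      (h' : (F.obj C).obj ⟶ ((F.obj A).obj)⟦(1 : ℤ)⟧),
      Triangle.mk f' g' h' ∈ distTriang (DCoh.D Y) := by
  let Q := SGA6.perfP X
  let T : Triangle Q.FullSubcategory := Triangle.mk (ObjectProperty.homMk f) (ObjectProperty.homMk g)
    (ObjectProperty.homMk (h ≫ (Q.ι.commShiftIso (1 : ℤ)).inv.app A))
  have hT' : T ∈ distTriang Q.FullSubcategory := by
    change Q.ι.mapTriangle.obj _ ∈ distTriang _
    refine isomorphic_distinguished _ hT _ (Triangle.isoMk _ _ (Iso.refl _) (Iso.refl _)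
      (Iso.refl _) ?_ ?_ ?_)
    · exact (Category.comp_id _).trans (Category.id_comp _).symm
    · exact (Category.comp_id _).trans (Category.id_comp _).symm
    · have h1 := (Q.ι.commShiftIso (1 : ℤ)).inv_hom_id_app A
      have h2 : (h ≫ (Q.ι.commShiftIso (1 : ℤ)).inv.app A) ≫ (Q.ι.commShiftIso (1 : ℤ)).hom.app A = h :=
        (Category.assoc _ _ _).trans ((congrArg (h ≫ ·) h1).trans (Category.comp_id _))
      have h3 : (shiftFunctor (DCoh.D X) (1 : ℤ)).map (𝟙 A.obj) = 𝟙 _ :=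
        CategoryTheory.Functor.map_id _ _
      exact (congrArg (· ≫ (shiftFunctor (DCoh.D X) (1 : ℤ)).map (𝟙 A.obj)) h2).trans
        ((congrArg (h ≫ ·) h3).trans ((Category.comp_id _).trans (Category.id_comp _).symm))
  have := (F ⋙ (SGA6.perfP Y).ι).map_distinguished T hT'
  exact ⟨_, _, _, this⟩

/-- Exact functors and shifts. -/
theorem nonempty_shift (A A' : (SGA6.perfP X).FullSubcategory) (n : ℤ) (e : A'.obj ≅ A.obj⟦n⟧) :
    Nonempty ((F.obj A').obj ≅ ((F.obj A).obj)⟦n⟧) := by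
  let Q := SGA6.perfP X
  let e1 : A' ≅ A⟦n⟧ := Q.isoMk (e ≪≫ ((Q.ι.commShiftIso n).symm.app A))
  exact ⟨(SGA6.perfP Y).ι.mapIso (F.mapIso e1) ≪≫ ((F ⋙ (SGA6.perfP Y).ι).commShiftIso n).app A⟩

/-- Negative vanishing is preserved by fully faithful exact functors. -/
theorem homVan_map [F.Full] {A B : (SGA6.perfP X).FullSubcategory} (h : HomVan A.obj B.obj) :
    HomVan (F.obj A).obj (F.obj B).obj := by
  let Q := SGA6.perfP X
  intro r hr f
  let e := ((F ⋙ (SGA6.perfP Y).ι).commShiftIso r).app A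
  obtain ⟨g, hg⟩ := F.map_surjective (ObjectProperty.homMk (e.hom ≫ f) : F.obj (A⟦r⟧) ⟶ F.obj B)
  have h1 : g = 0 := by
    apply ObjectProperty.hom_ext
    have h2 := h r hr ((Q.ι.commShiftIso r).inv.app A ≫ g.hom)
    have h3 : g.hom = (Q.ι.commShiftIso r).hom.app A ≫ (Q.ι.commShiftIso r).inv.app A ≫ g.hom :=
      (Iso.hom_inv_id_assoc ((Q.ι.commShiftIso r).app A) g.hom).symm
    rw [h3, h2]
    exact comp_zero
  have h4 : e.hom ≫ f = 0 := by
    rw [h1, Functor.map_zero] at hg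
    exact (congrArg (fun t => t.hom) hg).symm
  rw [← cancel_epi e.hom, h4, comp_zero]

end Gen

section Dec

/-- The cohomology of a direct sum of copies. -/
theorem isZero_of_dec {C : Type*} [Category C] [Preadditive C] {D : Type*} [Category D] [Preadditive D]
    (H : C ⥤ D) [H.Additive] {J : Type} [Fintype J] {M : J → C} {L : C} (d : Dec M L)
    (h : ∀ j, IsZero (H.obj (M j))) : IsZero (H.obj L) := by
  rw [IsZero.iff_id_eq_zero, ← H.map_id, ← d.total, Functor.map_sum]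
  refine Finset.sum_eq_zero fun j _ => ?_
  rw [H.map_comp, (h j).eq_of_tgt (H.map (d.π j)) 0, zero_comp]

end Dec

section Main

variable {k : Type u} [Field k] {X Y : Scheme.{u}} [X.Over (Spec (CommRingCat.of k))]
  [Y.Over (Spec (CommRingCat.of k))]
  {W₁ W₂ : Scheme.{u}} {p₁ : W₁ ⟶ X} {q₁ : W₁ ⟶ X} {p₂ : W₂ ⟶ X} {q₂ : W₂ ⟶ Y}
  (sq₁ : IsPullback p₁ q₁ (X ↘ Spec (CommRingCat.of k)) (X ↘ Spec (CommRingCat.of k)))
  (sq₂ : IsPullback p₂ q₂ (X ↘ Spec (CommRingCat.of k)) (Y ↘ Spec (CommRingCat.of k)))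
  [IsProper (X ↘ Spec (CommRingCat.of k))] [Flat (X ↘ Spec (CommRingCat.of k))]
  [LocallyOfFinitePresentation (X ↘ Spec (CommRingCat.of k))]
  [W₁.Over (Spec (CommRingCat.of k))] [p₁.IsOver (Spec (CommRingCat.of k))]
  [q₁.IsOver (Spec (CommRingCat.of k))] [W₂.Over (Spec (CommRingCat.of k))]
  [p₂.IsOver (Spec (CommRingCat.of k))] [q₂.IsOver (Spec (CommRingCat.of k))]

/-- `Ψ_Z K = Rq_* (K ⊗ Lp^* Z)`. -/
noncomputable abbrev psi {X Y W : Scheme.{u}} (p : W ⟶ X) (q : W ⟶ Y) (Z : DCoh.D X) :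
    DCoh.D W ⥤ DCoh.D Y := tensorRight ((DCoh.Lpull p).obj Z) ⋙ DCoh.Rpush q

theorem isTriang_psi {X Y W : Scheme.{u}} (p : W ⟶ X) (q : W ⟶ Y) (Z : DCoh.D X) :
    PerfC.IsoLocus.IsTriang (psi p q Z) :=
  (TwistMain.isTriang_tensorRight _).comp (K242.QCohKit.isTriang_Rpush q)

/-- A sheaf `M[0]` as a perfect object. -/
noncomputable abbrev sh {X : Scheme.{u}} (M : X.Modules) (hM : DCoh.IsPerfect (DCoh.inD X M)) :
    (SGA6.perfP X).FullSubcategory := ⟨DCoh.inD X M, hM⟩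

theorem isGE_inD {X : Scheme.{u}} (M : X.Modules) : (DCoh.inD X M).IsGE 0 :=
  inferInstanceAs (((DerivedCategory.singleFunctor X.Modules 0).obj M).IsGE 0)

theorem isLE_inD {X : Scheme.{u}} (M : X.Modules) : (DCoh.inD X M).IsLE 0 :=
  inferInstanceAs (((DerivedCategory.singleFunctor X.Modules 0).obj M).IsLE 0)

theorem cohb_inD {X : Scheme.{u}} (M : X.Modules) (hM : Coh.IsCoh M) : SGA6.cohbP X (DCoh.inD X M) :=
  ⟨PerfA.QCohD.isCohD_inD M hM, 0, 0, isGE_inD M, isLE_inD M⟩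

variable (E G : ℕ → X.Modules) (hE : ∀ n, DCoh.IsPerfect (DCoh.inD X (E n)))
  (hG : ∀ n, DCoh.IsPerfect (DCoh.inD X (G n))) (hEc : ∀ n, Coh.IsCoh (E n)) (hGc : ∀ n, Coh.IsCoh (G n))
  (C : ChainComplex W₁.Modules ℕ)
  (bX : ∀ n, DCoh.inD W₁ (C.X n) ≅ (boxP p₁ q₁ (sh (G n) (hG n)) (sh (E n) (hE n))).obj)

include hEc hGc sq₁ in
/-- The differentials of the box resolution are sums of external products. -/
theorem exists_tens : ∃ t : ∀ n, TH k (sh (E (n + 1)) (hE (n + 1))) (sh (E n) (hE n))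
      (sh (G (n + 1)) (hG (n + 1))) (sh (G n) (hG n)),
    (∀ n, (thP p₁ q₁ _ _ _ _ (t n)).hom = (bX (n + 1)).inv ≫
      (DerivedCategory.singleFunctor W₁.Modules 0).map (C.d (n + 1) n) ≫ (bX n).hom) ∧
    ∀ n, tcomp k (t (n + 1)) (t n) = 0 := by
  have hb : ∀ m n, Function.Bijective (thP (k := k) p₁ q₁ (sh (E m) (hE m)) (sh (E n) (hE n))
      (sh (G m) (hG m)) (sh (G n) (hG n))) := by
    intro m n
    have hv : ∀ a b : ℕ, ∀ i : ℤ, i < 0 → ∀ f : DCoh.inD X (G a) ⟶ (DCoh.inD X (G b))⟦i⟧, f = 0 :=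
      fun a b => of_homVan (K370.TowerCoh.homVan_single _ _)
    exact bijective_thP sq₁ _ _ (cohb_inD _ (hEc m)) (isLE_inD _) (isGE_inD _) (cohb_inD _ (hEc n))
      (isGE_inD _) _ _ (cohb_inD _ (hGc m)) (hv m m) (hv m n)
  choose t ht using fun n => (hb (n + 1) n).2 (ObjectProperty.homMk ((bX (n + 1)).inv ≫
      (DerivedCategory.singleFunctor W₁.Modules 0).map (C.d (n + 1) n) ≫ (bX n).hom))
  refine ⟨t, fun n => by rw [ht]; rfl, fun n => (hb (n + 2) n).1 ?_⟩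
  rw [thP_tcomp, ht, ht, map_zero]
  apply ObjectProperty.hom_ext
  change ((bX (n + 2)).inv ≫ (DerivedCategory.singleFunctor W₁.Modules 0).map (C.d (n + 2) (n + 1)) ≫
    (bX (n + 1)).hom) ≫ (bX (n + 1)).inv ≫ (DerivedCategory.singleFunctor W₁.Modules 0).map (C.d (n + 1) n) ≫
      (bX n).hom = 0
  simp only [Category.assoc, Iso.hom_inv_id_assoc]
  rw [← Functor.map_comp_assoc, C.d_comp_d, Functor.map_zero, zero_comp, comp_zero]

variable [(SGA6.perfP X).IsTriangulated] [(SGA6.perfP Y).IsTriangulated]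
  (F : (SGA6.perfP X).FullSubcategory ⥤ (SGA6.perfP Y).FullSubcategory) [F.Additive] [F.Linear k]
  [F.CommShift ℤ] [F.IsTriangulated] [F.Full]
  (t : ∀ n, TH k (sh (E (n + 1)) (hE (n + 1))) (sh (E n) (hE n)) (sh (G (n + 1)) (hG (n + 1)))
    (sh (G n) (hG n)))

variable (p₂ q₂) in
/-- `F G_n ⊠ E_n`. -/
noncomputable abbrev objY (n : ℕ) : (SGA6.perfP W₂).FullSubcategory :=
  boxP p₂ q₂ (F.obj (sh (G n) (hG n))) (sh (E n) (hE n))

variable (p₂ q₂) in
/-- The differentials. -/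
noncomputable abbrev dY (n : ℕ) : objY p₂ q₂ E G hE hG F (n + 1) ⟶ objY p₂ q₂ E G hE hG F n :=
  thP p₂ q₂ _ _ _ _ (tF k F (t n))

include sq₂ hEc in
/-- The Postnikov system on `X × Y`. -/
theorem nonempty_towerY (ht : ∀ n, tcomp k (t (n + 1)) (t n) = 0) :
    Nonempty (Tower (fun n => (objY p₂ q₂ E G hE hG F n).obj) (fun n => (dY p₂ q₂ E G hE hG F t n).hom)) := by
  refine nonempty_tower (fun n => ?_) (fun i j a ha f => ?_)
  · have h1 : dY p₂ q₂ E G hE hG F t (n + 1) ≫ dY p₂ q₂ E G hE hG F t n = 0 := by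
      rw [← thP_tcomp, ← tF_tcomp, ht, map_zero, map_zero]
    exact congrArg (fun t => t.hom) h1
  · refine hom_box_zero sq₂ (DCoh.inD X (E i)) (DCoh.inD X (E j)) (hE i) (isLE_inD _) (cohb_inD _ (hEc j))
      (isGE_inD _) (F.obj (sh (G i) (hG i))).obj (F.obj (sh (G j) (hG j))).obj
      (PerfA.PCohQCoh.isQCohD_of_isPerfect (F.obj (sh (G j) (hG j))).property) ?_ a ha f
    exact of_homVan (homVan_map F (K370.TowerCoh.homVan_single _ _))

variable (Z : (SGA6.perfP X).FullSubcategory) {J : ℕ → Type} [∀ n, Fintype (J n)]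
  (dec : ∀ n, Dec (fun _ : J n => un k) (mE (k := k) (sh (E n) (hE n)) Z))

include sq₂ dec in
/-- `Ψ_Z (G ⊠ E_n)` vanishes in the degrees where `G` does. -/
theorem isZero_psi (n : ℕ) (G : (SGA6.perfP Y).FullSubcategory) (i : ℤ) (hi : IsZero (DCoh.HD G.obj i)) :
    IsZero (DCoh.HD ((psi p₂ q₂ Z.obj).obj (boxP p₂ q₂ G (sh (E n) (hE n))).obj) i) := by
  let H : (SGA6.perfP Y).FullSubcategory ⥤ Y.Modules := (SGA6.perfP Y).ι ⋙ DerivedCategory.homologyFunctor _ i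
  have h1 : IsZero ((tens k G ⋙ H).obj (mE (k := k) (sh (E n) (hE n)) Z)) :=
    isZero_of_dec (tens k G ⋙ H) (dec n) fun _ => hi.of_iso (H.mapIso (tensUn G))
  exact h1.of_iso (H.mapIso (psiBox sq₂ G (sh (E n) (hE n)) Z))

include sq₁ sq₂ dec bX in
/-- **Comparison of the towers**: `Ψ_Z (Y₂ n) ≅ F (Ψ_Z (Y₁ n))`. -/
theorem nonempty_iso
    (ht : ∀ n, (thP p₁ q₁ _ _ _ _ (t n)).hom = (bX (n + 1)).inv ≫
      (DerivedCategory.singleFunctor W₁.Modules 0).map (C.d (n + 1) n) ≫ (bX n).hom)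
    (T₁ : Tower (fun n => DCoh.inD W₁ (C.X n))
      (fun n => (DerivedCategory.singleFunctor W₁.Modules 0).map (C.d (n + 1) n)))
    (T₂ : Tower (fun n => (objY p₂ q₂ E G hE hG F n).obj) (fun n => (dY p₂ q₂ E G hE hG F t n).hom)) (n : ℕ)
    (hn : DCoh.IsPerfect ((psi p₁ q₁ Z.obj).obj (T₁.Y n))) :
    Nonempty ((psi p₂ q₂ Z.obj).obj (T₂.Y n) ≅ (F.obj ⟨(psi p₁ q₁ Z.obj).obj (T₁.Y n), hn⟩).obj) := by
  obtain ⟨_, _⟩ := isTriang_psi p₁ q₁ Z.obj
  obtain ⟨_, _⟩ := isTriang_psi p₂ q₂ Z.obj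
  let Ψ₁ := psi p₁ q₁ Z.obj
  let Ψ₂ := psi p₂ q₂ Z.obj
  have hX : ∀ n, DCoh.IsPerfect (Ψ₁.obj (DCoh.inD W₁ (C.X n))) := fun n =>
    PerfA.PerfLocal.isPerfect_of_iso (Ψ₁.mapIso (bX n)).symm
      ((psiP sq₁ Z).obj (boxP p₁ q₁ (sh (G n) (hG n)) (sh (E n) (hE n)))).property
  let X' : ℕ → (SGA6.perfP X).FullSubcategory := fun n => ⟨Ψ₁.obj (DCoh.inD W₁ (C.X n)), hX n⟩
  let d' : ∀ n, X' (n + 1) ⟶ X' n := fun n =>
    ObjectProperty.homMk (Ψ₁.map ((DerivedCategory.singleFunctor W₁.Modules 0).map (C.d (n + 1) n)))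
  let A : Tower (fun n => (X' n).obj) (fun n => (d' n).hom) := T₁.map Ψ₁
  let A' : Tower X' d' := liftT (SGA6.perfP X) X' d' A
  let b : ∀ n, X' n ≅ (psiP sq₁ Z).obj (boxP p₁ q₁ (sh (G n) (hG n)) (sh (E n) (hE n))) := fun n =>
    (SGA6.perfP X).isoMk (Ψ₁.mapIso (bX n))
  have hb : ∀ n, d' n ≫ (b n).hom = (b (n + 1)).hom ≫ (psiP sq₁ Z).map (thP p₁ q₁ _ _ _ _ (t n)) := by
    intro n
    apply ObjectProperty.hom_ext
    change Ψ₁.map ((DerivedCategory.singleFunctor W₁.Modules 0).map (C.d (n + 1) n)) ≫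
      Ψ₁.map (bX n).hom = Ψ₁.map (bX (n + 1)).hom ≫ Ψ₁.map (thP p₁ q₁ _ _ _ _ (t n)).hom
    rw [ht n, ← Functor.map_comp, ← Functor.map_comp, Iso.hom_inv_id_assoc]
  let e : ∀ n, (F ⋙ (SGA6.perfP Y).ι).obj (X' n) ≅ Ψ₂.obj (objY p₂ q₂ E G hE hG F n).obj := fun n =>
    (SGA6.perfP Y).ι.mapIso (F.mapIso (b n) ≪≫ phi sq₁ sq₂ F (sh (G n) (hG n)) (sh (E n) (hE n)) Z (dec n))
  have he : ∀ n, (F ⋙ (SGA6.perfP Y).ι).map (d' n) ≫ (e n).hom =
      (e (n + 1)).hom ≫ Ψ₂.map (dY p₂ q₂ E G hE hG F t n).hom := by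
    intro n
    have h1 : F.map (d' n) ≫ F.map (b n).hom ≫
        (phi sq₁ sq₂ F (sh (G n) (hG n)) (sh (E n) (hE n)) Z (dec n)).hom =
      (F.map (b (n + 1)).hom ≫
        (phi sq₁ sq₂ F (sh (G (n + 1)) (hG (n + 1))) (sh (E (n + 1)) (hE (n + 1))) Z (dec (n + 1))).hom) ≫
          (psiP sq₂ Z).map (dY p₂ q₂ E G hE hG F t n) := by
      rw [← F.map_comp_assoc, hb, F.map_comp_assoc, phi_theta sq₁ sq₂ F (t n) Z (dec (n + 1)) (dec n),
        Category.assoc]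
    exact congrArg (fun t => t.hom) h1
  have hdeg : ∀ n i, i ≠ 0 → IsZero (DCoh.HD (X' n).obj i) := by
    intro n i hi
    have h1 := isZero_psi sq₁ E hE Z dec n (sh (G n) (hG n)) i (by
      rcases lt_or_gt_of_ne hi with h | h
      · have := isGE_inD (G n)
        exact DerivedCategory.isZero_of_isGE _ 0 i h
      · have := isLE_inD (G n)
        exact DerivedCategory.isZero_of_isLE _ 0 i h)
    exact h1.of_iso ((DerivedCategory.homologyFunctor _ i).mapIso (Ψ₁.mapIso (bX n)))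
  have hvan : ∀ i j, HomVan (X' i).obj (X' j).obj := by
    intro i j r hr f
    have h1 : (X' i).obj.IsLE 0 := (DerivedCategory.isLE_iff _ _).2 fun a ha => hdeg i a (by omega)
    have h2 : (X' j).obj.IsGE 0 := (DerivedCategory.isGE_iff _ _).2 fun a ha => hdeg j a (by omega)
    exact DerivedCategory.TStructure.t.zero_of_isLE_of_isGE f (-r) 0 (by omega)
      (DerivedCategory.TStructure.t.isLE_shift (X' i).obj 0 r (-r) (by omega)) h2
  have hv : NV (fun n => (F ⋙ (SGA6.perfP Y).ι).obj (X' n))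
      (fun n => Ψ₂.obj (objY p₂ q₂ E G hE hG F n).obj) :=
    nv_of_homVan fun i j => (homVan_map F (hvan i j)).of_iso (Iso.refl _) (e j)
  obtain ⟨g⟩ := exists_iso (A'.map (F ⋙ (SGA6.perfP Y).ι)) (T₂.map Ψ₂) hv e he n
  exact ⟨g.symm⟩

end Main

end K160.KerData
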