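import Groth.Agent.DEquiv.K160.KerT
import Groth.Agent.DEquiv.K357.Psi
import Groth.Agent.DEquiv.K357.DiagEnv
import Groth.Agent.DEquiv.K357.BoundF
import Groth.Agent.PerfA.PerfTri
import Groth.Agent.S6729

/-!
# Fully faithful functors agree with a Fourier–Mukai functor on modules supported at closed points
-/

set_option autoImplicit false
set_option linter.unusedSectionVars false

universe u

open CategoryTheory CategoryTheory.Limits AlgebraicGeometry MonoidalCategory Pretriangulated

attribute [local instance] HasDerivedCategory.standard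

open scoped Groth.Agent.Dcoh.MonCat Groth.Agent.Dcoh.ModD

namespace K160.KerF

open Groth.Agent Groth.Agent.Dcoh Groth.Agent.Dual.H379 Groth.Agent.PerfC.DTens
open K353.Calc BoxAbs BoxLin BoxCoef BoxSch BoxK FieldDec PsiF K370.Tower TowerX KerData KerX KerK

attribute [local instance] Groth.Agent.Fixpt.H313.AddD.monPreDX monLinDX DQMon.lpullMon
  K353.Calc.hasRpush K353.Calc.hasLpull

theorem perf_of_coh {X : Scheme.{u}} [IsNoetherian X] (h : Models.IsRegularScheme X) (M : X.Modules)
    (hM : Coh.IsCoh M) : DCoh.IsPerfect (DCoh.inD X M) :=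
  (CohHeart.perf_iff X h _).2 (cohb_inD M hM)

variable (k : Type u) [Field k] (X Y : Scheme.{u}) [X.Over (Spec (CommRingCat.of k))]
  [Y.Over (Spec (CommRingCat.of k))]
  [IsProper (X ↘ Spec (CommRingCat.of k))] [Smooth (X ↘ Spec (CommRingCat.of k))]
  [IsProper (Y ↘ Spec (CommRingCat.of k))] [Smooth (Y ↘ Spec (CommRingCat.of k))]
  [(SGA6.perfP X).IsTriangulated] [(SGA6.perfP Y).IsTriangulated]
  (F : (SGA6.perfP X).FullSubcategory ⥤ (SGA6.perfP Y).FullSubcategory) [F.Additive] [F.Linear k]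
  [F.CommShift ℤ] [F.IsTriangulated] [F.Full]

local notation "a" => (X ↘ Spec (CommRingCat.of k))
local notation "b" => (Y ↘ Spec (CommRingCat.of k))

theorem kernel : ∃ K : DCoh.D (pullback a b), DCoh.IsPerfect K ∧
    ∀ (T : X.Modules), Coh.IsCoh T → (∀ x ∈ CohB1.support T, IsClosed ({x} : Set X)) →
      ∀ hT : DCoh.IsPerfect (DCoh.inD X T),
      Nonempty ((psi (pullback.fst a b) (pullback.snd a b) (DCoh.inD X T)).obj K ≅ (F.obj (sh T hT)).obj) := by
  have hcX : CompactSpace X := QuasiCompact.compactSpace_of_compactSpace a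
  have hcY : CompactSpace Y := QuasiCompact.compactSpace_of_compactSpace b
  have hNX : IsNoetherian X := K357.DiagEnv.isNoetherian k X a
  have hregX : Models.IsRegularScheme X := K357.DiagEnv.isRegular k X a
  -- the products
  let _o₁ : (pullback a a).Over (Spec (CommRingCat.of k)) := ⟨pullback.fst a a ≫ a⟩
  have _i1 : (pullback.fst a a).IsOver (Spec (CommRingCat.of k)) := ⟨rfl⟩
  have _i2 : (pullback.snd a a).IsOver (Spec (CommRingCat.of k)) := ⟨pullback.condition.symm⟩
  let _o₂ : (pullback a b).Over (Spec (CommRingCat.of k)) := ⟨pullback.fst a b ≫ a⟩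
  have _i3 : (pullback.fst a b).IsOver (Spec (CommRingCat.of k)) := ⟨rfl⟩
  have _i4 : (pullback.snd a b).IsOver (Spec (CommRingCat.of k)) := ⟨pullback.condition.symm⟩
  have hN₁ : IsNoetherian (pullback a a) :=
    K357.DiagEnv.isNoetherian k (pullback a a) (pullback.fst a a ≫ a)
  have hreg₁ : Models.IsRegularScheme (pullback a a) :=
    K357.DiagEnv.isRegular k (pullback a a) (pullback.fst a a ≫ a)
  have hc₂ : CompactSpace ↑(pullback a b) := QuasiCompact.compactSpace_of_compactSpace (pullback.fst a b)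
  have hN₂ : IsNoetherian (pullback a b) :=
    K357.DiagEnv.isNoetherian k (pullback a b) (pullback.fst a b ≫ a)
  have hreg₂ : Models.IsRegularScheme (pullback a b) :=
    K357.DiagEnv.isRegular k (pullback a b) (pullback.fst a b ≫ a)
  have hT₂ : (SGA6.perfP (pullback a b)).IsTriangulated := PerfA.PerfTri.perf_isTriangulated _
  have sq₁ : IsPullback (pullback.fst a a) (pullback.snd a a) a a := IsPullback.of_hasPullback a a
  have sq₂ : IsPullback (pullback.fst a b) (pullback.snd a b) a b := IsPullback.of_hasPullback a b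
  have hX := perf_of_coh hregX
  -- the resolution of the diagonal
  obtain ⟨C, π, hπ, hC⟩ := Groth.Agent.S6729.result k X (K357.DiagEnv.hasResolutionProperty k X a)
  choose E G hE hG e using hC
  have hEc : ∀ n, Coh.IsCoh (E n) := fun n => PerfA.CohSerre.isCoh_of_isFinLocFree (hE n)
  have hGc : ∀ n, Coh.IsCoh (G n) := fun n => PerfA.CohSerre.isCoh_of_isFinLocFree (hG n)
  have hEp : ∀ n, DCoh.IsPerfect (DCoh.inD X (E n)) := fun n => hX _ (hEc n)
  have hGp : ∀ n, DCoh.IsPerfect (DCoh.inD X (G n)) := fun n => hX _ (hGc n)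
  have hbX : ∀ n, Nonempty (DCoh.inD (pullback a a) (C.X n) ≅
      (boxP (pullback.fst a a) (pullback.snd a a) (sh (G n) (hGp n)) (sh (E n) (hEp n))).obj) := by
    intro n
    obtain ⟨e1⟩ := K357.Psi.box_iso a (E n) (G n) (hE n) (hG n)
    obtain ⟨e2⟩ := braid ((DCoh.Lpull (pullback.snd a a)).obj (DCoh.inD X (G n)))
    exact ⟨(DerivedCategory.singleFunctor (pullback a a).Modules 0).mapIso (e n).some ≪≫ e1 ≪≫ e2.app _⟩
  let bX := fun n => (hbX n).some
  have hCc : ∀ n, Coh.IsCoh (C.X n) := fun n => PerfA.CohSerre.isCoh_of_isFinLocFree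
    (K237.BoxGen.IsBox.isFinLocFree a a ⟨E n, G n, hE n, hG n, e n⟩)
  obtain ⟨t, ht, ht0⟩ := exists_tens sq₁ E G hEp hGp hEc hGc C bX
  obtain ⟨T₁⟩ : Nonempty (Tower (fun n => DCoh.inD (pullback a a) (C.X n))
      (fun n => (DerivedCategory.singleFunctor (pullback a a).Modules 0).map (C.d (n + 1) n))) := by
    refine nonempty_tower (fun n => ?_) (K370.TowerCoh.nv_inD _ _)
    rw [← Functor.map_comp, C.d_comp_d, Functor.map_zero]
  obtain ⟨T₂⟩ := nonempty_towerY sq₂ E G hEp hGp hEc F t ht0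
  obtain ⟨m, hm⟩ := K357.BoundF.exists_bound k a F
  have hdec : ∀ (T : X.Modules), Coh.IsCoh T → (∀ x ∈ CohB1.support T, IsClosed ({x} : Set X)) →
      ∀ hT : DCoh.IsPerfect (DCoh.inD X T), ∀ n, ∃ r : ℕ, Nonempty (Dec (fun _ : Fin r => un k)
        (mE (k := k) (sh (E n) (hEp n)) (sh T hT))) := fun T hT hcl hTp n =>
    nonempty_dec k T (E n) hT (hE n) (hEc n) hcl hTp (hEp n)
  obtain ⟨K, hK, hiso⟩ := KerT.exists_kernel hreg₂ T₂ (fun n => (objY _ _ E G hEp hGp F n).property) m
    (fun n => isLE_box _ _ _ _ (m : ℤ) ((DerivedCategory.isLE_iff _ _).2 fun i hi =>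
      hm (G n) (hGc n) (hGp n) i (Or.inr hi)) (isLE_inD _))
    (fun T hT hcl n i hi => by
      choose r d using hdec T hT hcl (hX T hT)
      exact isZero_psi sq₂ E hEp (sh T (hX T hT)) (fun n => (d n).some) n (F.obj (sh (G n) (hGp n))) i
        (hm (G n) (hGc n) (hGp n) i hi))
    (fun T hT => (F.obj (sh T (hX T hT))).obj) hX
    (fun T hT hcl i hi => hm T hT (hX T hT) i hi)
    (fun T hT hcl n => by
      choose r d using hdec T hT hcl (hX T hT)
      refine yside sq₁ sq₂ E G hEp hGp C bX π hπ hCc (perf_of_coh hreg₁) T (hX T hT)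
        (fun n => (d n).some) (fun K hK1 hK2 => isLE_psi k T hT hcl K hK1 0 hK2) ?_ T₁ F t ht T₂ hX m hm n
      obtain ⟨e1⟩ := braid ((DCoh.Lpull (pullback.fst a a)).obj (DCoh.inD X T))
      obtain ⟨e2⟩ := K357.Psi.psi_diag a (DCoh.inD X T) (PerfA.QCohD.isQCohD_inD _ hT.1)
      exact ⟨(DCoh.Rpush (pullback.snd a a)).mapIso (e1.app _) ≪≫ e2⟩)
  exact ⟨K, hK, fun T hT hcl hTp => hiso T hT hcl⟩

end K160.KerF
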