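import Groth.Prelude.Def_KLin2
import Mathlib.CategoryTheory.Monoidal.Rigid.Braided
import Mathlib.CategoryTheory.Monoidal.Preadditive
import Mathlib.LinearAlgebra.Dual.Lemmas

/-!
# A Serre functor from a representing object of the dual of global sections

`C` a braided monoidal `k`-linear category, `P` a property of objects stable under tensor products, whose objects are
dualizable with duals in `P` and have finite dimensional Homs, `W` invertible in `P` with a linear form `τ` on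
`Hom(1, W)` such that `Hom(A, W) = Hom(1, A)^∨` for all `A` in `P`.  Then `- ⊗ W` is a Serre functor on `P`:
`exists_serre`.
-/

set_option autoImplicit false

universe w v u

open CategoryTheory MonoidalCategory

namespace K160.SerreMon

section trace

variable {C : Type u} [Category.{v} C] [MonoidalCategory C] [BraidedCategory C]

/-- The partial trace of `u : X ⟶ X ⊗ W`. -/
def tr (W : C) {X : C} (X' : C) [ExactPairing X X'] (u : X ⟶ X ⊗ W) : 𝟙_ C ⟶ W :=
  η_ X X' ≫ u ▷ X' ≫ (β_ (X ⊗ W) X').hom ≫ (α_ X' X W).inv ≫ (ε_ X X') ▷ W ≫ (λ_ W).hom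

/-- The map `1 ⟶ Y ⊗ X'` attached to `f : X ⟶ Y`. -/
def sharp {X Y : C} (X' : C) [ExactPairing X X'] (f : X ⟶ Y) : 𝟙_ C ⟶ X' ⊗ Y :=
  η_ X X' ≫ f ▷ X' ≫ (β_ Y X').hom

/-- The map `X' ⊗ Y ⟶ W` attached to `h : Y ⟶ X ⊗ W`. -/
def flat (W : C) {X Y : C} (X' : C) [ExactPairing X X'] (h : Y ⟶ X ⊗ W) : X' ⊗ Y ⟶ W :=
  X' ◁ h ≫ (α_ X' X W).inv ≫ (ε_ X X') ▷ W ≫ (λ_ W).hom

lemma tr_comp (W : C) {X Y : C} (X' : C) [ExactPairing X X'] (f : X ⟶ Y) (h : Y ⟶ X ⊗ W) :
    tr W X' (f ≫ h) = sharp X' f ≫ flat W X' h := by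
  simp only [tr, sharp, flat, comp_whiskerRight, Category.assoc, BraidedCategory.braiding_naturality_left_assoc]

omit [BraidedCategory C] in
lemma flat_bijective (W : C) (X Y X' : C) [ExactPairing X X'] :
    Function.Bijective (flat W X' : (Y ⟶ X ⊗ W) → (X' ⊗ Y ⟶ W)) := by
  have h := (tensorLeftHomEquiv Y X X' W).symm.bijective
  have h2 : (flat W X' : (Y ⟶ X ⊗ W) → (X' ⊗ Y ⟶ W)) = (tensorLeftHomEquiv Y X X' W).symm := by
    funext h
    simp [flat, tensorLeftHomEquiv]
  rw [h2]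
  exact h

lemma sharp_bijective (X Y X' : C) [ExactPairing X X'] :
    Function.Bijective (sharp X' : (X ⟶ Y) → (𝟙_ C ⟶ X' ⊗ Y)) := by
  let e : (X ⟶ Y) ≃ (𝟙_ C ⟶ X' ⊗ Y) :=
    ((λ_ X).symm.homCongr (Iso.refl Y)).trans
      ((tensorRightHomEquiv (𝟙_ C) X X' Y).trans ((Iso.refl _).homCongr (β_ Y X')))
  have h : (sharp X' : (X ⟶ Y) → (𝟙_ C ⟶ X' ⊗ Y)) = e := by
    funext f
    simp only [sharp, e, Equiv.trans_apply, Iso.homCongr_apply, Iso.refl_hom, Iso.refl_inv,
      Category.id_comp, Category.comp_id, tensorRightHomEquiv, Equiv.coe_fn_mk, Iso.symm_inv]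
    simp [← unitors_inv_equal]
  rw [h]
  exact e.bijective

/-- The mate of `e : X₁ ⟶ X`. -/
def mate {X₁ X : C} (X₁' X' : C) [ExactPairing X₁ X₁'] [ExactPairing X X'] (e : X₁ ⟶ X) : X' ⟶ X₁' :=
  letI : HasRightDual X₁ := ⟨X₁'⟩
  letI : HasRightDual X := ⟨X'⟩
  rightAdjointMate e

omit [BraidedCategory C] in
lemma coev_mate {X₁ X : C} (X₁' X' : C) [i₁ : ExactPairing X₁ X₁'] [i : ExactPairing X X'] (e : X₁ ⟶ X) :
    η_ X X' ≫ X ◁ mate X₁' X' e = η_ X₁ X₁' ≫ e ▷ X₁' :=
  letI : HasRightDual X₁ := ⟨X₁'⟩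
  letI : HasRightDual X := ⟨X'⟩
  coevaluation_comp_rightAdjointMate e

omit [BraidedCategory C] in
lemma mate_ev {X₁ X : C} (X₁' X' : C) [i₁ : ExactPairing X₁ X₁'] [i : ExactPairing X X'] (e : X₁ ⟶ X) :
    mate X₁' X' e ▷ X₁ ≫ ε_ X₁ X₁' = X' ◁ e ≫ ε_ X X' :=
  letI : HasRightDual X₁ := ⟨X₁'⟩
  letI : HasRightDual X := ⟨X'⟩
  rightAdjointMate_comp_evaluation e

/-- The partial trace is dinatural. -/
lemma tr_dinatural (W : C) {X₁ X : C} (X₁' X' : C) [ExactPairing X₁ X₁'] [ExactPairing X X'] (e : X₁ ⟶ X)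
    (u : X ⟶ X₁ ⊗ W) : tr W X' (u ≫ e ▷ W) = tr W X₁' (e ≫ u) := by
  have h1 : sharp X₁' e = sharp X' (𝟙 X) ≫ mate X₁' X' e ▷ X := by
    simp only [sharp, Category.assoc, id_whiskerRight, Category.id_comp]
    rw [← BraidedCategory.braiding_naturality_right, ← reassoc_of% (coev_mate X₁' X' e)]
  have h2 : mate X₁' X' e ▷ X ≫ flat W X₁' u = flat W X' (u ≫ e ▷ W) := by
    simp only [flat]
    rw [← whisker_exchange_assoc, whiskerLeft_comp, Category.assoc]
    congr 1
    rw [associator_inv_naturality_middle_assoc, ← comp_whiskerRight_assoc, ← mate_ev X₁' X' e,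
      comp_whiskerRight_assoc, associator_inv_naturality_left_assoc]
  rw [tr_comp W X₁' e u, h1, Category.assoc, h2, ← tr_comp, Category.id_comp]

end trace

section serre

variable {k : Type w} [Field k] {C : Type u} [Category.{v} C] [MonoidalCategory C] [BraidedCategory C]
  [Preadditive C] [Linear k C]

/-- The linear form `u ↦ τ (tr u)` on `Hom(X, X ⊗ W)`. -/
noncomputable def form (hadd : ∀ (Z : C) {A B : C} (f g : A ⟶ B), (f + g) ▷ Z = f ▷ Z + g ▷ Z)
    (hlin : ∀ (Z : C) {A B : C} (r : k) (f : A ⟶ B), (r • f) ▷ Z = r • (f ▷ Z))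
    {W : C} (τ : (𝟙_ C ⟶ W) →ₗ[k] k) (X X' : C) [ExactPairing X X'] : (X ⟶ X ⊗ W) →ₗ[k] k :=
  τ ∘ₗ
  { toFun := tr W X'
    map_add' := fun f g => by
      simp only [tr, hadd, Preadditive.add_comp, Preadditive.comp_add]
    map_smul' := fun r f => by
      simp only [tr, hlin, Linear.smul_comp, Linear.comp_smul, RingHom.id_apply] }

/-- A pairing of finite dimensional spaces which is perfect on one side is perfect on the other side. -/
lemma bijective_of_flip {V U : Type*} [AddCommGroup V] [Module k V] [AddCommGroup U] [Module k U]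
    [Module.Finite k U] [Module.Finite k V] (B : V →ₗ[k] Module.Dual k U)
    (h : Function.Bijective (B.flip : U →ₗ[k] Module.Dual k V)) : Function.Bijective B := by
  have h2 : B = (B.flip.dualMap : Module.Dual k (Module.Dual k V) →ₗ[k] Module.Dual k U) ∘ₗ
      Module.Dual.eval k V := by
    ext v u
    rfl
  rw [h2]
  have h3 : Function.Bijective (B.flip.dualMap : Module.Dual k (Module.Dual k V) →ₗ[k] Module.Dual k U) :=
    (LinearEquiv.ofBijective B.flip h).dualMap.bijective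
  exact h3.comp (Module.evalEquiv k V).bijective

/-- `- ⊗ W` is a Serre functor on `P`. -/
theorem exists_serre (hadd : ∀ (Z : C) {A B : C} (f g : A ⟶ B), (f + g) ▷ Z = f ▷ Z + g ▷ Z)
    (hlin : ∀ (Z : C) {A B : C} (r : k) (f : A ⟶ B), (r • f) ▷ Z = r • (f ▷ Z))
    (P : ObjectProperty C) (hPt : ∀ A B : C, P A → P B → P (A ⊗ B))
    (hdual : ∀ A : C, P A → ∃ A' : C, P A' ∧ Nonempty (ExactPairing A A'))
    (hfin : ∀ A B : C, P A → P B → Module.Finite k (A ⟶ B))
    (W W' : C) (hW : P W) (hW' : P W') (e : W ⊗ W' ≅ 𝟙_ C)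
    (τ : (𝟙_ C ⟶ W) →ₗ[k] k)
    (hτ : ∀ A : C, P A → Function.Bijective
      (fun φ : A ⟶ W => (τ ∘ₗ Linear.rightComp k (𝟙_ C) φ : Module.Dual k (𝟙_ C ⟶ A)))) :
    ∃ σ : KLin.SerreFunctor k P.FullSubcategory,
      Nonempty (σ.S.functor ⋙ P.ι ≅ P.ι ⋙ tensorRight W) := by
  let E : C ≌ C := CategoryTheory.Equivalence.mk (tensorRight W) (tensorRight W')
    ((rightUnitorNatIso C).symm ≪≫ (tensoringRight C).mapIso e.symm ≪≫ tensorRightTensor W W')
    ((tensorRightTensor W' W).symm ≪≫ (tensoringRight C).mapIso (β_ W' W ≪≫ e) ≪≫ rightUnitorNatIso C)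
  have hE : (tensorRight W).IsEquivalence := E.isEquivalence_functor
  let G : P.FullSubcategory ⥤ P.FullSubcategory := P.lift (P.ι ⋙ tensorRight W) (fun A => hPt _ _ A.property hW)
  have hG1 : G.Full := by
    refine ⟨fun {A B} f => ?_⟩
    obtain ⟨g, hg⟩ := (tensorRight W).map_surjective f.hom
    exact ⟨ObjectProperty.homMk g, by ext; exact hg⟩
  have hG2 : G.Faithful := by
    refine ⟨fun {A B} f g h => ?_⟩
    ext
    apply (tensorRight W).map_injective
    exact congrArg (fun x => x.hom) h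
  have hG3 : G.EssSurj := by
    refine ⟨fun A => ⟨⟨A.obj ⊗ W', hPt _ _ A.property hW'⟩, ⟨?_⟩⟩⟩
    exact P.isoMk (E.counitIso.app A.obj)
  have hGe : G.IsEquivalence := { }
  choose D hD hpair using hdual
  let pr : ∀ A : P.FullSubcategory, ExactPairing A.obj (D A.obj A.property) :=
    fun A => (hpair A.obj A.property).some
  let t : ∀ A : P.FullSubcategory, (A.obj ⟶ A.obj ⊗ W) →ₗ[k] k := fun A =>
    form hadd hlin τ A.obj (D A.obj A.property)
  have ht : ∀ (A : P.FullSubcategory) (u : A.obj ⟶ A.obj ⊗ W),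
    t A u = τ (tr W (D A.obj A.property) u) := fun _ _ => rfl
  -- the pairing
  let B : ∀ X Y : P.FullSubcategory, (X ⟶ Y) →ₗ[k] Module.Dual k (Y ⟶ G.obj X) := fun X Y =>
    LinearMap.mk₂ k (fun f h => t X (f.hom ≫ h.hom))
      (fun f g h => by
        change t X ((f.hom + g.hom) ≫ h.hom) = _
        rw [Preadditive.add_comp, map_add])
      (fun r f h => by
        change t X ((r • f.hom) ≫ h.hom) = _
        rw [Linear.smul_comp, map_smul])
      (fun f g h => by
        change t X (f.hom ≫ (g.hom + h.hom)) = _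
        rw [Preadditive.comp_add, map_add])
      (fun r f h => by
        change t X (f.hom ≫ (r • h.hom)) = _
        rw [Linear.comp_smul, map_smul])
  have hBapp : ∀ (X Y : P.FullSubcategory) (f : X ⟶ Y) (h : Y ⟶ G.obj X),
    B X Y f h = t X (f.hom ≫ h.hom) := fun _ _ _ _ => rfl
  have hfin' : ∀ X Y : P.FullSubcategory, Module.Finite k (X ⟶ Y) := fun X Y => by
    have := hfin X.obj Y.obj X.property Y.property
    let e1 : (X.obj ⟶ Y.obj) →ₗ[k] (X ⟶ Y) :=
      { toFun := fun f => ObjectProperty.homMk f, map_add' := fun _ _ => rfl, map_smul' := fun _ _ => rfl }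
    exact Module.Finite.of_surjective e1 (fun f => ⟨f.hom, rfl⟩)
  have hflip : ∀ X Y : P.FullSubcategory, Function.Bijective (B X Y).flip := by
    intro X Y
    have h1 := hτ (D X.obj X.property ⊗ Y.obj) (hPt _ _ (hD _ _) Y.property)
    have h2 := flat_bijective W X.obj Y.obj (D X.obj X.property)
    have h3 := sharp_bijective X.obj Y.obj (D X.obj X.property)
    have h4 : ∀ (h : Y.obj ⟶ X.obj ⊗ W) (f : X.obj ⟶ Y.obj), t X (f ≫ h) =
        τ (sharp (D X.obj X.property) f ≫ flat W (D X.obj X.property) h) := fun h f => by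
      rw [ht, tr_comp]
    have h3' : ∀ f : X.obj ⟶ Y.obj, ∀ r : k, sharp (D X.obj X.property) (r • f) =
        r • sharp (D X.obj X.property) f := fun f r => by
      simp only [sharp, hlin, Linear.smul_comp, Linear.comp_smul]
    have h3a : ∀ f g : X.obj ⟶ Y.obj, sharp (D X.obj X.property) (f + g) =
        sharp (D X.obj X.property) f + sharp (D X.obj X.property) g := fun f g => by
      simp only [sharp, hadd, Preadditive.add_comp, Preadditive.comp_add]
    let es : (X.obj ⟶ Y.obj) ≃ₗ[k] (𝟙_ C ⟶ D X.obj X.property ⊗ Y.obj) :=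
      LinearEquiv.ofBijective { toFun := sharp (D X.obj X.property), map_add' := h3a, map_smul' := fun r f => h3' f r } h3
    constructor
    · intro h g hg
      obtain ⟨h⟩ := h
      obtain ⟨g⟩ := g
      change Y.obj ⟶ X.obj ⊗ W at h g
      have h5 : flat W (D X.obj X.property) h = flat W (D X.obj X.property) g := by
        apply h1.1
        ext s
        obtain ⟨f, rfl⟩ := h3.2 s
        have h6 : t X (f ≫ h) = t X (f ≫ g) := LinearMap.congr_fun hg (ObjectProperty.homMk f : X ⟶ Y)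
        rw [h4, h4] at h6
        exact h6
      ext
      exact h2.1 h5
    · intro ψ
      let ψ' : Module.Dual k (𝟙_ C ⟶ D X.obj X.property ⊗ Y.obj) :=
        { toFun := fun s => ψ (ObjectProperty.homMk (es.symm s))
          map_add' := fun a b => by
            rw [map_add]
            exact ψ.map_add (ObjectProperty.homMk (es.symm a)) (ObjectProperty.homMk (es.symm b))
          map_smul' := fun a b => by
            rw [map_smul]
            exact ψ.map_smul a (ObjectProperty.homMk (es.symm b)) }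
      obtain ⟨φ, hφ⟩ := h1.2 ψ'
      obtain ⟨h, rfl⟩ := h2.2 φ
      refine ⟨(ObjectProperty.homMk h : Y ⟶ G.obj X), ?_⟩
      ext f
      change t X (f.hom ≫ h) = ψ f
      rw [h4]
      have h7 := LinearMap.congr_fun hφ (es f.hom)
      change τ (sharp (D X.obj X.property) f.hom ≫ flat W (D X.obj X.property) h) =
        ψ (ObjectProperty.homMk (es.symm (es f.hom))) at h7
      rw [h7, LinearEquiv.symm_apply_apply]
      rfl
  have k1 : ∀ (X Y Y' : P.FullSubcategory) (f : X.obj ⟶ Y.obj) (g : Y.obj ⟶ Y'.obj) (h : Y'.obj ⟶ X.obj ⊗ W),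
      t X ((f ≫ g) ≫ h) = t X (f ≫ g ≫ h) := fun X Y Y' f g h => by rw [Category.assoc]
  have k2 : ∀ (X' X Y : P.FullSubcategory) (a : X'.obj ⟶ X.obj) (f : X.obj ⟶ Y.obj) (h : Y.obj ⟶ X'.obj ⊗ W),
      t X' ((a ≫ f) ≫ h) = t X (f ≫ h ≫ a ▷ W) := fun X' X Y a f h => by
    letI := pr X
    letI := pr X'
    rw [ht, ht, Category.assoc, ← Category.assoc f]
    exact congrArg τ (tr_dinatural W (D X'.obj X'.property) (D X.obj X.property) a (f ≫ h)).symm
  refine ⟨{ S := G.asEquivalence, linear := ?_, homIso := fun X Y => LinearEquiv.ofBijective (B X Y)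
              (bijective_of_flip (B X Y) (hflip X Y)), homIso_comp := ?_, homIso_precomp := ?_ }, ?_⟩
  · refine ⟨fun {X Y} f r => ?_⟩
    ext
    exact hlin W r f.hom
  · intro X Y Y' f g h
    exact k1 X Y Y' f.hom g.hom h.hom
  · intro X' X Y a f h
    exact k2 X' X Y a.hom f.hom h.hom
  · exact ⟨Iso.refl _⟩

end serre

end K160.SerreMon
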