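import Groth.Agent.DEquiv.K160.KLinD
import Groth.Agent.DEquiv.K160.SerreMon
import Groth.Agent.DEquiv.K160.InvPerf
import Groth.Agent.Fixpt.H313.BrD
import Groth.Agent.Fixpt.H313.AddD
import Groth.Agent.Dual.H342.HypField
import Groth.Agent.S3620
import Groth.Agent.S1006
import Groth.Prelude.Def_SGA6

/-!
# The Serre functor of a proper Gorenstein scheme over a field
-/

set_option autoImplicit false

universe u

open CategoryTheory CategoryTheory.Limits AlgebraicGeometry MonoidalCategory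

attribute [local instance] HasDerivedCategory.standard

open scoped Groth.Agent.Dcoh.MonCat Groth.Agent.Dcoh.ModD Groth.Agent.Fixpt.H313.BrD

namespace K160.SerreGor

/-- Transport of a representing form along isomorphisms. -/
theorem form_transport {k : Type*} [Field k] {C : Type*} [Category* C] [Preadditive C] [Linear k C] {U U' V V' : C}
    (e : U ≅ U') (f : V ≅ V') (P : C → Prop)
    (h : ∃ τ : (U ⟶ V) →ₗ[k] k, ∀ A : C, P A → Function.Bijective
      (fun φ : A ⟶ V => (τ ∘ₗ Linear.rightComp k U φ : Module.Dual k (U ⟶ A)))) :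
    ∃ τ : (U' ⟶ V') →ₗ[k] k, ∀ A : C, P A → Function.Bijective
      (fun φ : A ⟶ V' => (τ ∘ₗ Linear.rightComp k U' φ : Module.Dual k (U' ⟶ A))) := by
  obtain ⟨τ, hτ⟩ := h
  refine ⟨τ ∘ₗ Linear.leftComp k V e.hom ∘ₗ Linear.rightComp k U' f.inv, fun A hA => ?_⟩
  have h1 := hτ A hA
  have h2 : Function.Bijective (fun φ : A ⟶ V' => φ ≫ f.inv) := by
    refine ⟨fun a b hab => by simpa using congrArg (· ≫ f.hom) hab, fun φ => ⟨φ ≫ f.hom, by simp⟩⟩
  have h3 : Function.Bijective (fun ψ : Module.Dual k (U ⟶ A) => ψ ∘ₗ Linear.leftComp k A e.hom) := by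
    refine ⟨fun a b hab => ?_, fun ψ => ⟨ψ ∘ₗ Linear.leftComp k A e.inv, ?_⟩⟩
    · ext s
      have := LinearMap.congr_fun hab (e.inv ≫ s)
      simpa using this
    · ext s
      simp
  have h4 := (h3.comp h1).comp h2
  convert h4 using 1
  funext φ
  ext s
  simp

section

variable (k : Type u) [Field k] (X : Scheme.{u}) [X.Over (Spec (CommRingCat.of k))]
  [IsProper (X ↘ Spec (CommRingCat.of k))]

include k in
theorem isNoetherian : IsNoetherian X := by
  have h1 : IsLocallyNoetherian X := LocallyOfFiniteType.isLocallyNoetherian (X ↘ Spec (CommRingCat.of k))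
  have h2 : CompactSpace X := QuasiCompact.compactSpace_of_compactSpace (X ↘ Spec (CommRingCat.of k))
  exact { }

/-- Finiteness of Homs between perfect objects. -/
def HomFin : Prop := ∀ K L : DCoh.D X, DCoh.IsPerfect K → DCoh.IsPerfect L → Module.Finite k (K ⟶ L)

theorem exists_serre (hfin : HomFin k X) (hG : Dual3.IsGorenstein X)
    [DCoh.HasRpush (X ↘ Spec (CommRingCat.of k))] (hq : DCoh.RpushPreservesQCoh (X ↘ Spec (CommRingCat.of k)))
    [DCoh.HasShriek (X ↘ Spec (CommRingCat.of k)) hq]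
    (OY : DCoh.DQCoh (Spec (CommRingCat.of k)))
    (hOY : OY.obj ≅ DCoh.inD (Spec (CommRingCat.of k)) (Coh.structureModule (Spec (CommRingCat.of k))))
    (W : CochainComplex X.Modules ℤ) (hW : DCoh.toD X W ≅ DCoh.dualizingCx (X ↘ Spec (CommRingCat.of k)) hq OY)
    [DCoh.HasLTensorCx W] :
    ∃ σ : KLin.SerreFunctor k (SGA6.perfP X).FullSubcategory,
      Nonempty (σ.S.functor ⋙ ObjectProperty.ι (SGA6.perfP X) ≅
        ObjectProperty.ι (SGA6.perfP X) ⋙ DCoh.LTensorCx W) := by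
  have hN : IsNoetherian X := isNoetherian k X
  have hdual : Dual2.IsDualizingSch X (DCoh.dualizingCx (X ↘ Spec (CommRingCat.of k)) hq OY) :=
    Groth.Agent.Dual.H342.HypField.isDualizingSch k X (X ↘ Spec (CommRingCat.of k)) hq
      (DCoh.shriek (X ↘ Spec (CommRingCat.of k)) hq) (DCoh.shriekAdj (X ↘ Spec (CommRingCat.of k)) hq) OY ⟨hOY⟩
  have hinv : ∀ x : X, Groth.Agent.Dual.H313.InvLocal.InvAt
      (DCoh.dualizingCx (X ↘ Spec (CommRingCat.of k)) hq OY) x := fun x =>
    Groth.Agent.Dual.H313.InvLocal.invAt_of_isInvertibleD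
      ((Groth.Agent.S3620.result X _ hdual).1 hG) x
  have hinv' : ∀ x : X, Groth.Agent.Dual.H313.InvLocal.InvAt (DCoh.toD X W) x := fun x =>
    (hinv x).of_iso hW.symm
  obtain ⟨W', hW', ⟨e⟩⟩ := InvPerf.exists_inv hinv'
  obtain ⟨τ, hτ⟩ := form_transport (Groth.Agent.Dcoh.DualX.unitIso X) hW.symm DCoh.IsQCohD
    (KLinD.exists_form k X hq OY ⟨hOY⟩)
  obtain ⟨σ, ⟨i⟩⟩ := SerreMon.exists_serre (k := k) (C := DCoh.D X)
    (fun Z A B f g => (Groth.Agent.Fixpt.H313.AddD.monPreDX X).add_whiskerRight f g)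
    (fun Z A B r f => KLinD.smul_whiskerRight Z r f) (SGA6.perfP X)
    (fun A B hA hB => Groth.Agent.Dcoh.PerfTens.isPerfect_tensor hA hB)
    (fun A hA => Groth.Agent.Dcoh.PerfDual.exists_exactPairing A hA) hfin (DCoh.toD X W) W'
    (InvPerf.isPerfect hinv') hW' e τ
    (fun A hA => hτ A (Groth.Agent.PerfA.QCohD.isQCohD_of_isPerfect A hA))
  exact ⟨σ, ⟨i ≪≫ Functor.isoWhiskerLeft _ (Groth.Agent.Dcoh.ModTens.LTensorCxIso W).symm⟩⟩

end

end K160.SerreGor
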