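import Groth.Agent.DEquiv.K160.CohHeart
import Groth.Agent.DEquiv.K350.SibIso
import Groth.Agent.PerfC.IsoLocus

/-!
# Siblings on `D^b_Coh(O_X)`

Two exact functors on `P.FullSubcategory` (`P` the bounded coherent objects) which agree naturally on coherent modules in
degree `0`, the first of them full: they are siblings (`objIso`), if the first is fully faithful so is the second (`ff`),
and they are isomorphic if there are enough negative coherent modules (`funIso`).
-/

set_option autoImplicit false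

universe u v w

open CategoryTheory CategoryTheory.Limits AlgebraicGeometry

attribute [local instance] HasDerivedCategory.standard

namespace K160.SibSch

open Groth.Agent.PerfA.CohSerre K160.HeartAbs K160.CohHeart Groth.Agent.PerfC.IsoLocus

variable {X : Scheme.{u}} [IsNoetherian X] {P : ObjectProperty (DCoh.D X)} [P.IsTriangulated]
  (hP : IsBdd (cohp X) P)
  {D : Type w} [Category.{v} D] [Preadditive D] [HasZeroObject D] [HasShift D ℤ]
  [∀ n : ℤ, (shiftFunctor D n).Additive] [Pretriangulated D]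
  (F : P.FullSubcategory ⥤ D) [F.CommShift ℤ] [F.IsTriangulated] (Φ : DCoh.D X ⥤ D)

/-- A natural isomorphism on coherent modules in degree zero. -/
structure Nat where
  /-- The isomorphisms. -/
  e : ∀ (M : X.Modules), Coh.IsCoh M → ∀ (hM : P (DCoh.inD X M)), F.obj ⟨DCoh.inD X M, hM⟩ ≅ Φ.obj (DCoh.inD X M)
  /-- Naturality. -/
  nat : ∀ (M N : X.Modules) (hcM : Coh.IsCoh M) (hcN : Coh.IsCoh N)
    (hM : P (DCoh.inD X M)) (hN : P (DCoh.inD X N)) (φ : M ⟶ N),
    F.map (ObjectProperty.homMk ((DerivedCategory.singleFunctor X.Modules 0).map φ) :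
      (⟨DCoh.inD X M, hM⟩ : P.FullSubcategory) ⟶ ⟨DCoh.inD X N, hN⟩) ≫ (e N hcN hN).hom =
      (e M hcM hM).hom ≫ Φ.map ((DerivedCategory.singleFunctor X.Modules 0).map φ)

variable {F Φ}

/-- The natural isomorphism on the heart. -/
noncomputable def Nat.tau (τ : Nat F Φ) : inC hP ⋙ F ≅ inC hP ⋙ (P.ι ⋙ Φ) :=
  NatIso.ofComponents (fun M => τ.e M.obj M.property (prop_single hP M.obj M.property))
    (fun {M N} φ => τ.nat M.obj N.obj M.property N.property _ _ φ.hom)

include hP in
/-- Siblings: agreement on objects. -/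
theorem objIso (hΦ : IsTriang Φ) [F.Full] (τ : Nat F Φ) (L : P.FullSubcategory) :
    Nonempty (F.obj L ≅ Φ.obj L.obj) := by
  obtain ⟨_, _⟩ := hΦ
  have h := CohHeart.heartData hP
  exact K350.Sib.siblings h (F' := P.ι ⋙ Φ) (τ.tau hP) (K350.Sib.negVan_of_full h) L (bounded hP L)

include hP in
/-- Siblings: fully faithfulness. -/
theorem ff (hΦ : IsTriang Φ) [F.Full] [F.Faithful] (τ : Nat F Φ) :
    (P.ι ⋙ Φ).Full ∧ (P.ι ⋙ Φ).Faithful := by
  obtain ⟨_, _⟩ := hΦ
  exact K350.Sib.sibling_fullyFaithful (CohHeart.heartData hP) (F := F) (F' := P.ι ⋙ Φ) (τ.tau hP) (bounded hP)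

include hP in
/-- Siblings: isomorphism of functors. -/
theorem funIso (hΦ : IsTriang Φ) [F.Full] [F.Faithful] (τ : Nat F Φ)
    (hneg : ∀ M : X.Modules, Coh.IsCoh M → ∃ (N : X.Modules) (p : N ⟶ M), Coh.IsCoh N ∧ Epi p ∧ ∀ f : M ⟶ N, f = 0) :
    Nonempty (F ≅ P.ι ⋙ Φ) := by
  obtain ⟨_, _⟩ := hΦ
  refine K350.Sib.sibling_iso (CohHeart.heartData hP) (F := F) (F' := P.ι ⋙ Φ) (τ.tau hP) (fun M => ?_) (bounded hP)
  obtain ⟨N, p, hN, hp, h0⟩ := hneg M.obj M.property
  refine ⟨⟨N, hN⟩, ObjectProperty.homMk p, ?_, fun f => ?_⟩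
  · exact (cohp X).ι.epi_of_epi_map hp
  · exact ObjectProperty.hom_ext _ (h0 f.hom)

end K160.SibSch
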