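import Groth.Agent.DEquiv.K160.LiftFF
import Groth.Agent.DEquiv.K160.InvTwist
import Groth.Agent.DEquiv.K160.SibSch
import Groth.Agent.KSix.K242.QCohKit
import Groth.Agent.DEquiv.K160.SerreGor
import Groth.Prelude.Def_KLin
import Groth.Prelude.Def_CohB1

/-!
# Composing a Fourier–Mukai functor with a twist by an automorphism
-/

set_option autoImplicit false

universe u

open CategoryTheory CategoryTheory.Limits AlgebraicGeometry MonoidalCategory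

attribute [local instance] HasDerivedCategory.standard

open scoped Groth.Agent.Dcoh.MonCat Groth.Agent.Dcoh.ModD

namespace K160.Sib6760

open Groth.Agent.Cohder.RelPCMon K353.OnSub K353.Calc K353.Conv

/-- A diagram chase. -/
lemma chase {C : Type*} [Category* C] {A₁ A₂ A₃ A₄ A₅ B₁ B₂ B₃ B₄ B₅ : C} {f : A₁ ⟶ B₁} {g : A₂ ⟶ B₂} {h : A₃ ⟶ B₃}
    {k : A₄ ⟶ B₄} {l : A₅ ⟶ B₅} {a₁ : A₁ ⟶ A₂} {a₂ : A₂ ⟶ A₃} {a₃ : A₃ ⟶ A₄} {a₄ : A₄ ⟶ A₅}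
    {b₁ : B₁ ⟶ B₂} {b₂ : B₂ ⟶ B₃} {b₃ : B₃ ⟶ B₄} {b₄ : B₄ ⟶ B₅} (n₁ : f ≫ b₁ = a₁ ≫ g) (n₂ : g ≫ b₂ = a₂ ≫ h)
    (n₃ : h ≫ b₃ = a₃ ≫ k) (n₄ : k ≫ b₄ = a₄ ≫ l) : f ≫ b₁ ≫ b₂ ≫ b₃ ≫ b₄ = (a₁ ≫ a₂ ≫ a₃ ≫ a₄) ≫ l := by
  rw [reassoc_of% n₁, reassoc_of% n₂, reassoc_of% n₃, n₄]
  simp only [Category.assoc]

variable {X Y W : Scheme.{u}}

/-- The Fourier–Mukai functor. -/
noncomputable abbrev Phi (p : W ⟶ X) (q : W ⟶ Y) [DCoh.HasLpull p] [DCoh.HasRpush q]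
    (K : CochainComplex W.Modules ℤ) [DCoh.HasLTensorCx K] : DCoh.D X ⥤ DCoh.D Y :=
  DCoh.Lpull p ⋙ DCoh.LTensorCx K ⋙ DCoh.Rpush q

/-- `M ↦ Φ_{K₀}((f^* M ⊗ L)[0])` is `M ↦ Φ_K(M[0])` for some perfect `K`. -/
theorem exists_kernel (f : X ⟶ X) [IsIso f] (p : W ⟶ X) (q : W ⟶ Y) (g : W ⟶ W) [IsIso g] (hp : g ≫ p = p ≫ f)
    (hq : g ≫ q = q) [DCoh.HasLpull p] [DCoh.HasRpush q] [∀ K : CochainComplex W.Modules ℤ, DCoh.HasLTensorCx K]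
    (L : X.Modules) (hL : PicF.IsInvertible L) (K₀ : CochainComplex W.Modules ℤ) (hK₀ : DCoh.IsPerfect (DCoh.toD W K₀)) :
    ∃ K : CochainComplex W.Modules ℤ, DCoh.IsPerfect (DCoh.toD W K) ∧
      ∃ e : ∀ M : X.Modules, Coh.IsQCoh M →
        ((Phi p q K₀).obj (DCoh.inD X ((Scheme.Modules.pullback f ⋙ DCoh.tensorRightMod L).obj M)) ≅
          (Phi p q K).obj (DCoh.inD X M)),
        ∀ (M N : X.Modules) (hM : Coh.IsQCoh M) (hN : Coh.IsQCoh N) (φ : M ⟶ N),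
          (Phi p q K₀).map ((DerivedCategory.singleFunctor X.Modules 0).map
            ((Scheme.Modules.pullback f ⋙ DCoh.tensorRightMod L).map φ)) ≫ (e N hN).hom =
          (e M hM).hom ≫ (Phi p q K).map ((DerivedCategory.singleFunctor X.Modules 0).map φ) := by
  have := hasLpull f
  have hLf : FlatMod.IsFinLocFree L := fun x => by
    obtain ⟨U, hU, ⟨e⟩⟩ := hL x
    exact ⟨U, 1, hU, ⟨e ≪≫ (coproductUniqueIso (fun _ : Fin 1 => Coh.structureModule (U : Scheme.{u}))).symm⟩⟩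
  have hL1 : DCoh.IsPerfect (DerivedCategory.Q.obj (sgl L)) :=
    Groth.Agent.PerfA.PerfLocal.isPerfect_of_iso
      ((DerivedCategory.singleFunctorIsoCompQ X.Modules 0).app L)
      (Groth.Agent.PerfA.PerfLocal.isPerfect_inD_of_isFinLocFree hLf)
  obtain ⟨N, hN, h1⟩ := InvTwist.fm_twist f p q g hp hq _ hL1 (DCoh.toD W K₀) hK₀
  let K := DerivedCategory.Q.objPreimage N
  let eK : DCoh.toD W K ≅ N := DerivedCategory.Q.objObjPreimageIso N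
  refine ⟨K, Groth.Agent.PerfA.PerfLocal.isPerfect_of_iso eK.symm hN, ?_⟩
  obtain ⟨a⟩ := fm_cx p q K₀
  obtain ⟨b⟩ := fm_cx p q K
  obtain ⟨c⟩ := fm_congr p q eK
  obtain ⟨s⟩ := InvTwist.single_twist f L hL
  obtain ⟨t⟩ := h1
  -- the functor on quasi-coherent modules
  let ι : (Groth.Agent.PerfA.QCohSerre.qcoh X).FullSubcategory ⥤ (qc X).FullSubcategory :=
    (qc X).lift ((Groth.Agent.PerfA.QCohSerre.qcoh X).ι ⋙ DerivedCategory.singleFunctor X.Modules 0)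
      (fun M => Groth.Agent.PerfB.StructFlat.isQCohD_inD M.property)
  let E : (Groth.Agent.PerfA.QCohSerre.qcoh X).ι ⋙ (Scheme.Modules.pullback f ⋙ DCoh.tensorRightMod L) ⋙
      DerivedCategory.singleFunctor X.Modules 0 ⋙ Phi p q K₀ ≅
      (Groth.Agent.PerfA.QCohSerre.qcoh X).ι ⋙ DerivedCategory.singleFunctor X.Modules 0 ⋙ Phi p q K :=
    Functor.isoWhiskerLeft _ (Functor.isoWhiskerRight s (Phi p q K₀)) ≪≫
      Functor.isoWhiskerLeft ι (Functor.isoWhiskerLeft (qc X).ι (Functor.isoWhiskerLeft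
        (DCoh.Lpull f ⋙ tensorRight (DerivedCategory.Q.obj (sgl L))) a) ≪≫ t ≪≫
        Functor.isoWhiskerLeft (qc X).ι (c.symm ≪≫ b.symm))
  exact ⟨fun M hM => E.app ⟨M, hM⟩, fun M N hM hN φ => E.hom.naturality
    (ObjectProperty.homMk φ : (⟨M, hM⟩ : (Groth.Agent.PerfA.QCohSerre.qcoh X).FullSubcategory) ⟶ ⟨N, hN⟩)⟩

end K160.Sib6760
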