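import Groth.Agent.DEquiv.K160.KerF
import Groth.Agent.DEquiv.K160.Sib6760

/-!
# The functor on perfect objects given by a perfect kernel
-/

set_option autoImplicit false
set_option linter.unusedSectionVars false

universe u

open CategoryTheory CategoryTheory.Limits AlgebraicGeometry MonoidalCategory Pretriangulated

attribute [local instance] HasDerivedCategory.standard

open scoped Groth.Agent.Dcoh.MonCat Groth.Agent.Dcoh.ModD

namespace K160.KerG

open Groth.Agent Groth.Agent.Dcoh Groth.Agent.Dual.H379 Groth.Agent.PerfC.DTens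
open K353.Calc BoxAbs BoxLin BoxCoef BoxSch BoxK FieldDec PsiF K370.Tower TowerX KerData KerX KerK

attribute [local instance] Groth.Agent.Fixpt.H313.AddD.monPreDX monLinDX DQMon.lpullMon
  K353.Calc.hasRpush K353.Calc.hasLpull

variable (k : Type u) [Field k] (X Y : Scheme.{u}) [X.Over (Spec (CommRingCat.of k))]
  [Y.Over (Spec (CommRingCat.of k))]
  [IsProper (X ↘ Spec (CommRingCat.of k))] [Smooth (X ↘ Spec (CommRingCat.of k))]
  [(SGA6.perfP X).IsTriangulated] [(SGA6.perfP Y).IsTriangulated]

local notation "a" => (X ↘ Spec (CommRingCat.of k))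
local notation "b" => (Y ↘ Spec (CommRingCat.of k))

theorem exists_G (K : DCoh.D (pullback a b)) (hK : DCoh.IsPerfect K) :
    ∃ (G : (SGA6.perfP X).FullSubcategory ⥤ (SGA6.perfP Y).FullSubcategory) (_ : G.Additive)
      (_ : G.Linear k) (_ : G.CommShift ℤ) (_ : G.IsTriangulated),
      Nonempty (G ⋙ (SGA6.perfP Y).ι ≅
        (SGA6.perfP X).ι ⋙ K353.Conv.fm (pullback.fst a b) (pullback.snd a b) K) := by
  let _o₂ : (pullback a b).Over (Spec (CommRingCat.of k)) := ⟨pullback.fst a b ≫ a⟩
  have _i3 : (pullback.fst a b).IsOver (Spec (CommRingCat.of k)) := ⟨rfl⟩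
  have _i4 : (pullback.snd a b).IsOver (Spec (CommRingCat.of k)) := ⟨pullback.condition.symm⟩
  have sq₂ : IsPullback (pullback.fst a b) (pullback.snd a b) a b := IsPullback.of_hasPullback a b
  have hT : PerfC.IsoLocus.IsTriang (K353.Conv.fm (pullback.fst a b) (pullback.snd a b) K) :=
    (K242.QCohKit.isTriang_Lpull _).comp
      ((TwistMain.isTriang_tensorRight _).comp (K242.QCohKit.isTriang_Rpush _))
  obtain ⟨_, _⟩ := hT
  have h1 : (DCoh.Lpull (pullback.fst a b)).Additive := additive_lpull _
  have h2 : (DCoh.Lpull (pullback.fst a b)).Linear k := linear_lpull k _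
  have h3 : (DCoh.Rpush (pullback.snd a b)).Additive := (K242.QCohKit.isTriang_Rpush _).additive
  have h4 : (DCoh.Rpush (pullback.snd a b)).Linear k := K351.LinK.linear_Rpush _
  have h5 : (tensorRight K).Additive := (TwistMain.isTriang_tensorRight K).additive
  have h6 : (tensorRight K).Linear k := K351.LinK.linear_tensorRight K
  exact LiftFF.exists_lift k ((SGA6.perfP X).ι ⋙ K353.Conv.fm (pullback.fst a b) (pullback.snd a b) K)
    (SGA6.perfP Y).ι (fun L => ⟨⟨_, isPerfect_push_q sq₂
      (PerfTens.isPerfect_tensor (isPerfect_pull _ L.property) hK)⟩, ⟨Iso.refl _⟩⟩)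

end K160.KerG
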