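import Groth.Agent.DEquiv.K160.KerX
import Groth.Agent.DEquiv.K351.LTModIso
import Groth.Agent.Dual.H356.TensX
import Groth.Agent.S6739

/-!
# The system `K_n = Y₂(n)[n]` on `X × Y`
-/

set_option autoImplicit false
set_option linter.unusedSectionVars false

universe u

open CategoryTheory CategoryTheory.Limits AlgebraicGeometry MonoidalCategory Pretriangulated

attribute [local instance] HasDerivedCategory.standard

open scoped Groth.Agent.Dcoh.MonCat Groth.Agent.Dcoh.ModD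

namespace K160.KerK

open Groth.Agent Groth.Agent.Dcoh Groth.Agent.Dual.H379 Groth.Agent.PerfC.DTens
open K353.Calc BoxAbs BoxLin BoxCoef BoxSch BoxK FieldDec PsiF K370.Tower TowerX KerData KerX
open Groth.Agent.Cohder.RelPCMon (sgl)

attribute [local instance] Groth.Agent.Fixpt.H313.AddD.monPreDX monLinDX DQMon.lpullMon
  K353.Calc.hasRpush K353.Calc.hasLpull

section Sys

variable {W Y : Scheme.{u}} {X' : ℕ → DCoh.D W} {d' : ∀ n, X' (n + 1) ⟶ X' n} (T₂ : Tower X' d')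

/-- The terms of the system. -/
noncomputable abbrev KK (n : ℕ) : DCoh.D W := (T₂.Y n)⟦(n : ℤ)⟧

/-- The maps of the system. -/
noncomputable def tt (n : ℕ) : KK T₂ n ⟶ KK T₂ (n + 1) :=
  (shiftFunctor (DCoh.D W) (n : ℤ)).map (T₂.δ n) ≫
    (shiftFunctorAdd' (DCoh.D W) (1 : ℤ) (n : ℤ) ((n + 1 : ℕ) : ℤ) (by push_cast; ring)).inv.app (T₂.Y (n + 1))

theorem isIso_tt (Φ : DCoh.D W ⥤ DCoh.D Y) (hΦ : PerfC.IsoLocus.IsTriang Φ) (n : ℕ) (i : ℤ)
    (h0 : IsZero (DCoh.HD (Φ.obj (X' (n + 1))) (n + i)))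
    (h1 : IsZero (DCoh.HD (Φ.obj (X' (n + 1))) (n + i + 1))) :
    IsIso ((DerivedCategory.homologyFunctor Y.Modules i).map (Φ.map (tt T₂ n))) := by
  obtain ⟨_, _⟩ := hΦ
  let H := DerivedCategory.homologyFunctor Y.Modules
  have hr := rot_of_distTriang _ (Φ.map_distinguished _ (T₂.dist n))
  have h2 : IsIso ((H (n + i)).map (Φ.map (T₂.δ n) ≫ (Φ.commShiftIso (1 : ℤ)).hom.app (T₂.Y (n + 1)))) :=
    isIso_mor₂ _ hr (n + i) (n + i + 1) rfl h0 h1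
  have h3 : IsIso ((H (n + i)).map (Φ.map (T₂.δ n))) := by
    rw [Functor.map_comp] at h2
    exact IsIso.of_isIso_comp_right _ ((H (n + i)).map ((Φ.commShiftIso (1 : ℤ)).hom.app (T₂.Y (n + 1))))
  have h4 : IsIso ((H i).map ((Φ.map (T₂.δ n))⟦(n : ℤ)⟧')) :=
    (isIso_H_shift_iff (Φ.map (T₂.δ n)) (n : ℤ) i (n + i) rfl).2 h3
  have h5 : IsIso ((H i).map (Φ.map ((T₂.δ n)⟦(n : ℤ)⟧'))) :=
    (NatIso.isIso_map_iff (Functor.isoWhiskerRight (Φ.commShiftIso (n : ℤ)) (H i)) (T₂.δ n)).2 h4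
  have h6 : (H i).map (Φ.map (tt T₂ n)) = (H i).map (Φ.map ((T₂.δ n)⟦(n : ℤ)⟧')) ≫
      (H i).map (Φ.map ((shiftFunctorAdd' (DCoh.D W) (1 : ℤ) (n : ℤ) ((n + 1 : ℕ) : ℤ)
        (by push_cast; ring)).inv.app (T₂.Y (n + 1)))) := by
    rw [← Functor.map_comp, ← Functor.map_comp]
    rfl
  rw [h6]
  infer_instance

end Sys

section LT

variable {X Y W : Scheme.{u}}

/-- `Lp^* (F[0]) ≅ (p^* F)[0]` for `p` flat. -/
theorem lpull_inD_flat (p : W ⟶ X) [Flat p] (F : X.Modules) :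
    Nonempty ((DCoh.Lpull p).obj (DCoh.inD X F) ≅ DCoh.inD W ((Scheme.Modules.pullback p).obj F)) := by
  let e3 : ((Scheme.Modules.pullback p).mapHomologicalComplex (ComplexShape.up ℤ)).obj (K357.BoxEval.sgl F) ≅
      K357.BoxEval.sgl ((Scheme.Modules.pullback p).obj F) :=
    (HomologicalComplex.singleMapHomologicalComplex (Scheme.Modules.pullback p) (ComplexShape.up ℤ) 0).app F
  exact ⟨(DCoh.Lpull p).mapIso (K357.BoxEval.sglIso F).symm ≪≫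
    DerPull.lpullFlatQIso p (K357.BoxEval.sgl F) ≪≫
    DerivedCategory.Q.mapIso e3 ≪≫ K357.BoxEval.sglIso _⟩

/-- The functor of S6739 is `Ψ`. -/
theorem nonempty_psiMod (p : W ⟶ X) (q : W ⟶ Y) [Flat p] (F : X.Modules)
    [DCoh.HasLTensorMod ((Scheme.Modules.pullback p).obj F)] :
    Nonempty (DCoh.LTensorMod ((Scheme.Modules.pullback p).obj F) ⋙ DCoh.Rpush q ≅
      psi p q (DCoh.inD X F)) := by
  obtain ⟨e⟩ := K351.LTModIso.nonempty_right ((Scheme.Modules.pullback p).obj F)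
  obtain ⟨e1⟩ := lpull_inD_flat p F
  exact ⟨Functor.isoWhiskerRight (e ≪≫ (tensoringRight (DCoh.D W)).mapIso e1.symm) _⟩

end LT

section Bound

variable {X Y W : Scheme.{u}} (p : W ⟶ X) (q : W ⟶ Y)

/-- The bound of `G ⊠ E`. -/
theorem isLE_box (G : DCoh.D Y) (E : DCoh.D X) (a : ℤ) (hG : G.IsLE a) (hE : E.IsLE 0) :
    (box (DCoh.Lpull p) (DCoh.Lpull q) G E).IsLE a := by
  have h1 : ((DCoh.Lpull p).obj E).IsLE 0 := Dual.H356.TensX.isLE_lpull p _ 0 hE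
  have h2 : ((DCoh.Lpull q).obj G).IsLE a := Dual.H356.TensX.isLE_lpull q _ a hG
  have := Dual.H379.TensBound.isLE_tensor ((DCoh.Lpull q).obj G) ((DCoh.Lpull p).obj E) a 0
  rwa [add_zero] at this

end Bound

section Main

variable {k : Type u} [Field k] {X Y : Scheme.{u}} [X.Over (Spec (CommRingCat.of k))]
  [Y.Over (Spec (CommRingCat.of k))]

local notation "𝕊" => Spec (CommRingCat.of k)
local notation "W₂" => pullback (X ↘ 𝕊) (Y ↘ 𝕊)
local notation "p₂" => pullback.fst (X ↘ 𝕊) (Y ↘ 𝕊)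
local notation "q₂" => pullback.snd (X ↘ 𝕊) (Y ↘ 𝕊)

variable [IsProper (X ↘ Spec (CommRingCat.of k))] [IsProper (Y ↘ Spec (CommRingCat.of k))]
  [Flat (Y ↘ Spec (CommRingCat.of k))]

/-- The output of S6739. -/
theorem system {X' : ℕ → DCoh.D W₂} {d' : ∀ n, X' (n + 1) ⟶ X' n} (T₂ : Tower X' d')
    (hX' : ∀ n, DCoh.IsPerfect (X' n)) [(SGA6.perfP W₂).IsTriangulated] (m : ℕ) (hle : ∀ n, (X' n).IsLE m)
    (hpsi : ∀ (T : X.Modules), Coh.IsCoh T → (∀ x ∈ CohB1.support T, IsClosed ({x} : Set X)) →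
      ∀ (n : ℕ) (i : ℤ), (i < -(m : ℤ) ∨ (m : ℤ) < i) → IsZero (DCoh.HD ((psi p₂ q₂ (DCoh.inD X T)).obj (X' n)) i))
    (htri : ∀ (T : X.Modules), Coh.IsCoh T → (∀ x ∈ CohB1.support T, IsClosed ({x} : Set X)) → ∀ n : ℕ,
      ∃ (U V : DCoh.D Y) (f : U ⟶ (psi p₂ q₂ (DCoh.inD X T)).obj (KK T₂ n))
        (g : (psi p₂ q₂ (DCoh.inD X T)).obj (KK T₂ n) ⟶ V) (h : V ⟶ U⟦(1 : ℤ)⟧),
        Triangle.mk f g h ∈ distTriang (DCoh.D Y) ∧
        (∀ i : ℤ, (i + n < -(m : ℤ) ∨ (m : ℤ) < i + n) → IsZero (DCoh.HD U i)) ∧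
        ∀ i : ℤ, (i < -(m : ℤ) ∨ (m : ℤ) < i) → IsZero (DCoh.HD V i)) :
    (∀ (n : ℕ) (i : ℤ), ¬ (-(m : ℤ) ≤ i ∧ i ≤ m) → ¬ (-(m : ℤ) - n ≤ i ∧ i ≤ (m : ℤ) - n) →
        IsZero (DCoh.HD (KK T₂ n) i)) ∧
    ∀ (n : ℕ) (i : ℤ), 2 * m < n → -(m : ℤ) ≤ i → i ≤ m →
        IsIso ((DerivedCategory.homologyFunctor _ i).map (tt T₂ n)) := by
  have hflat : Flat p₂ := inferInstance
  have hLT : ∀ F : X.Modules, DCoh.HasLTensorMod ((Scheme.Modules.pullback p₂).obj F) := fun F =>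
    Dcoh.LTMod.hasLTensorMod _
  have hcX : CompactSpace X := QuasiCompact.compactSpace_of_compactSpace (X ↘ 𝕊)
  have hcY : CompactSpace Y := QuasiCompact.compactSpace_of_compactSpace (Y ↘ 𝕊)
  refine Groth.Agent.S6739.result k X Y (KK T₂) (tt T₂)
    (fun n => (SGA6.perfP W₂).le_shift (n : ℤ) _ (tower_mem (SGA6.perfP W₂) T₂ hX' n)) m ?_ ?_
  · intro n q hq
    refine (isZero_H_shift_iff _ (n : ℤ) q (n + q) rfl).2 (tower_le T₂ m (fun n i hi => ?_) n _ (by omega))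
    have := hle n
    exact DerivedCategory.isZero_of_isLE _ (m : ℤ) i hi
  · intro T hT _ hcl
    obtain ⟨e⟩ := nonempty_psiMod p₂ q₂ T
    refine ⟨fun n i h1 h2 => ?_, fun n i h1 h2 h3 => ?_⟩
    · obtain ⟨U, V, f, g, h, hTr, hU, hV⟩ := htri T hT hcl n
      refine IsZero.of_iso ?_ ((DerivedCategory.homologyFunctor _ i).mapIso (e.app (KK T₂ n)))
      exact isZero₂ _ hTr i (hU i (by omega)) (hV i (by omega))
    · have h4 := isIso_tt T₂ (psi p₂ q₂ (DCoh.inD X T)) (isTriang_psi _ _ _) n i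
        (hpsi T hT hcl (n + 1) _ (Or.inr (by omega))) (hpsi T hT hcl (n + 1) _ (Or.inr (by omega)))
      exact (NatIso.isIso_map_iff (Functor.isoWhiskerRight e (DerivedCategory.homologyFunctor _ i)) (tt T₂ n)).2 h4

end Main

end K160.KerK
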