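import Groth.Agent.DEquiv.K160.KerK

/-!
# The kernel `K = τ^{≥ -m} K_n`, `n > 2m`
-/

set_option autoImplicit false
set_option linter.unusedSectionVars false

universe w v u

open CategoryTheory CategoryTheory.Limits AlgebraicGeometry MonoidalCategory Pretriangulated

open scoped Groth.Agent.Dcoh.MonCat Groth.Agent.Dcoh.ModD

namespace K160.KerT

section Der

variable {A : Type u} [Category.{v} A] [Abelian A] [HasDerivedCategory.{w} A]

open DerivedCategory

/-- `τ^{≥ a}` inverts the morphisms inducing isomorphisms on `H^i`, `i ≥ a`. -/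
theorem isIso_truncGE_map {K L : DerivedCategory A} (f : K ⟶ L) (a : ℤ)
    (h : ∀ i, a ≤ i → IsIso ((homologyFunctor A i).map f)) : IsIso ((TStructure.t.truncGE a).map f) := by
  rw [DerivedCategory.isIso_iff]
  intro i
  by_cases hi : a ≤ i
  · have h1 := Groth.Agent.CohtopB.DTrunc.isIso_homology_map_truncGEπ K a i hi
    have h2 := Groth.Agent.CohtopB.DTrunc.isIso_homology_map_truncGEπ L a i hi
    have h3 := h i hi
    have h4 : (homologyFunctor A i).map ((TStructure.t.truncGEπ a).app K) ≫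
        (homologyFunctor A i).map ((TStructure.t.truncGE a).map f) =
        (homologyFunctor A i).map f ≫ (homologyFunctor A i).map ((TStructure.t.truncGEπ a).app L) := by
      rw [← Functor.map_comp, ← Functor.map_comp]
      exact congrArg _ ((TStructure.t.truncGEπ a).naturality f).symm
    have h5 : IsIso ((homologyFunctor A i).map ((TStructure.t.truncGEπ a).app K) ≫
        (homologyFunctor A i).map ((TStructure.t.truncGE a).map f)) := by
      rw [h4]
      infer_instance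
    exact IsIso.of_isIso_comp_left ((homologyFunctor A i).map ((TStructure.t.truncGEπ a).app K)) _
  · have h1 : IsZero ((homologyFunctor A i).obj ((TStructure.t.truncGE a).obj K)) :=
      isZero_of_isGE _ a i (by omega)
    have h2 : IsZero ((homologyFunctor A i).obj ((TStructure.t.truncGE a).obj L)) :=
      isZero_of_isGE _ a i (by omega)
    exact isIso_of_source_target_iso_zero _ h1.isoZero h2.isoZero

/-- The stable truncation of a system. -/
theorem exists_limit (K : ℕ → DerivedCategory A) (t : ∀ n, K n ⟶ K (n + 1)) (m : ℕ)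
    (h1 : ∀ (n : ℕ) (i : ℤ), ¬ (-(m : ℤ) ≤ i ∧ i ≤ m) → ¬ (-(m : ℤ) - n ≤ i ∧ i ≤ (m : ℤ) - n) →
        IsZero ((homologyFunctor A i).obj (K n)))
    (h2 : ∀ (n : ℕ) (i : ℤ), 2 * m < n → -(m : ℤ) ≤ i → i ≤ m → IsIso ((homologyFunctor A i).map (t n)))
    (n : ℕ) (hn : 2 * m < n) :
    Nonempty ((TStructure.t.truncGE (-(m : ℤ))).obj (K n) ≅
        (TStructure.t.truncGE (-(m : ℤ))).obj (K (2 * m + 1))) ∧
      ((TStructure.t.truncLT (-(m : ℤ))).obj (K n)).IsLE (m - n) := by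
  constructor
  · have hn' : 2 * m + 1 ≤ n := hn
    clear hn
    induction n, hn' using Nat.le_induction with
    | base => exact ⟨Iso.refl _⟩
    | succ n hn ih =>
      obtain ⟨e⟩ := ih
      have : IsIso ((TStructure.t.truncGE (-(m : ℤ))).map (t n)) := by
        refine isIso_truncGE_map _ _ fun i hi => ?_
        by_cases him : i ≤ m
        · exact h2 n i (by omega) hi him
        · exact isIso_of_source_target_iso_zero _ (h1 n i (by omega) (by omega)).isoZero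
            (h1 (n + 1) i (by omega) (by push_cast; omega)).isoZero
      exact ⟨(asIso ((TStructure.t.truncGE (-(m : ℤ))).map (t n))).symm ≪≫ e⟩
  · refine (isLE_iff _ _).2 fun i hi => ?_
    by_cases him : i < -(m : ℤ)
    · have := Groth.Agent.CohtopB.DTrunc.isIso_homology_map_truncLTι (K n) (-(m : ℤ)) i him
      exact (h1 n i (by omega) (by omega)).of_iso
        (asIso ((homologyFunctor A i).map ((TStructure.t.truncLTι (-(m : ℤ))).app (K n))))
    · exact isZero_of_isLE _ (-(m : ℤ) - 1) i (by omega)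

end Der

attribute [local instance] HasDerivedCategory.standard

open Groth.Agent Groth.Agent.Dcoh Groth.Agent.Dual.H379 Groth.Agent.PerfC.DTens
open K353.Calc BoxAbs BoxLin BoxCoef BoxSch BoxK FieldDec PsiF K370.Tower TowerX KerData KerX KerK

attribute [local instance] Groth.Agent.Fixpt.H313.AddD.monPreDX monLinDX DQMon.lpullMon
  K353.Calc.hasRpush K353.Calc.hasLpull

section Main

variable {k : Type u} [Field k] {X Y : Scheme.{u}} [X.Over (Spec (CommRingCat.of k))]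
  [Y.Over (Spec (CommRingCat.of k))]

local notation "𝕊" => Spec (CommRingCat.of k)
local notation "W₂" => pullback (X ↘ 𝕊) (Y ↘ 𝕊)
local notation "p₂" => pullback.fst (X ↘ 𝕊) (Y ↘ 𝕊)
local notation "q₂" => pullback.snd (X ↘ 𝕊) (Y ↘ 𝕊)

variable [IsProper (X ↘ Spec (CommRingCat.of k))] [Flat (X ↘ Spec (CommRingCat.of k))]
  [LocallyOfFinitePresentation (X ↘ Spec (CommRingCat.of k))]
  [IsProper (Y ↘ Spec (CommRingCat.of k))] [Flat (Y ↘ Spec (CommRingCat.of k))]

/-- **The kernel.** -/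
theorem exists_kernel [IsNoetherian W₂] (hreg : Models.IsRegularScheme W₂)
    {X' : ℕ → DCoh.D W₂} {d' : ∀ n, X' (n + 1) ⟶ X' n} (T₂ : Tower X' d')
    (hX' : ∀ n, DCoh.IsPerfect (X' n)) [(SGA6.perfP W₂).IsTriangulated] (m : ℕ) (hle : ∀ n, (X' n).IsLE m)
    (hpsi : ∀ (T : X.Modules), Coh.IsCoh T → (∀ x ∈ CohB1.support T, IsClosed ({x} : Set X)) →
      ∀ (n : ℕ) (i : ℤ), (i < -(m : ℤ) ∨ (m : ℤ) < i) → IsZero (DCoh.HD ((psi p₂ q₂ (DCoh.inD X T)).obj (X' n)) i))
    (V : ∀ T : X.Modules, Coh.IsCoh T → DCoh.D Y)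
    (hX : ∀ T : X.Modules, Coh.IsCoh T → DCoh.IsPerfect (DCoh.inD X T))
    (hV : ∀ (T : X.Modules) (hT : Coh.IsCoh T), (∀ x ∈ CohB1.support T, IsClosed ({x} : Set X)) →
      ∀ i : ℤ, (i < -(m : ℤ) ∨ (m : ℤ) < i) → IsZero (DCoh.HD (V T hT) i))
    (htri : ∀ (T : X.Modules) (hT : Coh.IsCoh T), (∀ x ∈ CohB1.support T, IsClosed ({x} : Set X)) → ∀ n : ℕ,
      ∃ (U : DCoh.D Y) (f : U ⟶ (psi p₂ q₂ (DCoh.inD X T)).obj (KK T₂ n))
        (g : (psi p₂ q₂ (DCoh.inD X T)).obj (KK T₂ n) ⟶ V T hT) (h : V T hT ⟶ U⟦(1 : ℤ)⟧),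
        Triangle.mk f g h ∈ distTriang (DCoh.D Y) ∧
        (∀ i : ℤ, (i + n < -(m : ℤ) ∨ (m : ℤ) < i + n) → IsZero (DCoh.HD U i))) :
    ∃ K : DCoh.D W₂, DCoh.IsPerfect K ∧ ∀ (T : X.Modules) (hT : Coh.IsCoh T),
      (∀ x ∈ CohB1.support T, IsClosed ({x} : Set X)) →
      Nonempty ((psi p₂ q₂ (DCoh.inD X T)).obj K ≅ V T hT) := by
  obtain ⟨h1, h2⟩ := system T₂ hX' m hle hpsi (fun T hT hcl n => by
    obtain ⟨U, f, g, h, hTr, hU⟩ := htri T hT hcl n
    exact ⟨U, V T hT, f, g, h, hTr, hU, hV T hT hcl⟩)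
  have hKp : ∀ n, DCoh.IsPerfect (KK T₂ n) := fun n =>
    (SGA6.perfP W₂).le_shift (n : ℤ) _ (tower_mem (SGA6.perfP W₂) T₂ hX' n)
  have hiff := CohHeart.perf_iff W₂ hreg
  let K := (DerivedCategory.TStructure.t.truncGE (-(m : ℤ))).obj (KK T₂ (2 * m + 1))
  have hK : DCoh.IsPerfect K := by
    obtain ⟨c1, a, b, c2, c3⟩ := (hiff _).1 (hKp (2 * m + 1))
    exact (hiff _).2 ⟨PerfA.CohomIn.coh_truncGE _ _ _ c1, a, b, inferInstance, inferInstance⟩
  refine ⟨K, hK, fun T hT hcl => ?_⟩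
  let Ψ := psi p₂ q₂ (DCoh.inD X T)
  obtain ⟨_, _⟩ := isTriang_psi p₂ q₂ (DCoh.inD X T)
  have hΨK : DCoh.IsPerfect (Ψ.obj K) := isPerfect_push_q (IsPullback.of_hasPullback _ _)
    (PerfTens.isPerfect_tensor hK (isPerfect_pull p₂ (hX T hT)))
  have hcY : CompactSpace Y := QuasiCompact.compactSpace_of_compactSpace (Y ↘ Spec (CommRingCat.of k))
  obtain ⟨b, -, hb, -⟩ := PerfA.Restrict.exists_bounds_of_isPerfect _ hΨK
  -- choice of n
  obtain ⟨n, hn1, hn2, hn3⟩ : ∃ n : ℕ, 2 * m < n ∧ (m : ℤ) - n < b ∧ (m : ℤ) - n < -(m : ℤ) :=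
    ⟨2 * m + 1 + (m - b).toNat, by omega, by push_cast; omega, by push_cast; omega⟩
  obtain ⟨⟨e⟩, hLE⟩ := exists_limit (KK T₂) (tt T₂) m h1 h2 n hn1
  have hTr1 := Ψ.map_distinguished _ (DerivedCategory.TStructure.t.triangleLTGE_distinguished (-(m : ℤ)) (KK T₂ n))
  obtain ⟨U, f, g, h, hTr2, hU⟩ := htri T hT hcl n
  have hqc : DCoh.IsQCohD ((DerivedCategory.TStructure.t.truncLT (-(m : ℤ))).obj (KK T₂ n)) :=
    PerfA.QCohD.isQCohD_of_isCohD (PerfA.CohomIn.coh_truncLT _ _ _ ((hiff _).1 (hKp n)).1)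
  have c1 : (Ψ.obj ((DerivedCategory.TStructure.t.truncLT (-(m : ℤ))).obj (KK T₂ n))).IsLE (m - n) :=
    isLE_psi k T hT hcl _ hqc _ hLE
  have c2 : (Ψ.obj ((DerivedCategory.TStructure.t.truncGE (-(m : ℤ))).obj (KK T₂ n))).IsGE (min b (-(m : ℤ))) := by
    have c3 : (Ψ.obj K).IsGE (min b (-(m : ℤ))) :=
      DerivedCategory.TStructure.t.isGE_of_ge (Ψ.obj K) (min b (-(m : ℤ))) b (min_le_left _ _)
    exact DerivedCategory.TStructure.t.isGE_of_iso (Ψ.mapIso e.symm) _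
  have c3 : U.IsLE (m - n) := (DerivedCategory.isLE_iff _ _).2 fun i hi => hU i (Or.inr (by omega))
  have c4 : (V T hT).IsGE (min b (-(m : ℤ))) := (DerivedCategory.isGE_iff _ _).2 fun i hi =>
    hV T hT hcl i (Or.inl (lt_of_lt_of_le hi (min_le_right _ _)))
  obtain ⟨j⟩ := nonempty_iso_of_trunc hTr1 hTr2 (Iso.refl _) (m - n) (min b (-(m : ℤ)))
    (lt_min hn2 hn3) c1 c2 c3 c4
  exact ⟨Ψ.mapIso e.symm ≪≫ j⟩

end Main

end K160.KerT
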