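import Groth.Agent.DEquiv.K160.KerData
import Groth.Agent.DEquiv.K160.CohHeart
import Groth.Agent.DEquiv.K357.BoxEval
import Groth.Agent.S2297
import Groth.Agent.Fdesc.AssFlat
import Groth.Agent.CohqB.DevSupport

/-!
# The triangles on `X` and `Y` for a module supported at closed points
-/

set_option autoImplicit false
set_option linter.unusedSectionVars false

universe u

open CategoryTheory CategoryTheory.Limits AlgebraicGeometry MonoidalCategory Pretriangulated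

attribute [local instance] HasDerivedCategory.standard

open scoped Groth.Agent.Dcoh.MonCat Groth.Agent.Dcoh.ModD

namespace K160.KerX

open Groth.Agent Groth.Agent.Dcoh Groth.Agent.Dual.H379 Groth.Agent.PerfC.DTens
open K353.Calc BoxAbs BoxLin BoxCoef BoxSch BoxK FieldDec PsiF K370.Tower TowerX KerData

attribute [local instance] Groth.Agent.Fixpt.H313.AddD.monPreDX monLinDX DQMon.lpullMon
  K353.Calc.hasRpush K353.Calc.hasLpull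

theorem support_tensor_left {X : Scheme.{u}} (M N : X.Modules) :
    CohB1.support (CohB1.tensorMod M N) ⊆ CohB1.support M := by
  intro x hx
  by_contra h
  rw [Groth.Agent.CohqB.DevSupport.not_mem_support_iff] at h
  refine hx ?_
  have e := (Groth.Agent.Fdesc.AssFlat.tensorModStalk M N x).toEquiv
  refine @Equiv.subsingleton _ _ e ?_
  infer_instance

theorem isCoh_tensor {X : Scheme.{u}} {M N : X.Modules} (hM : Coh.IsCoh M) (hN : Coh.IsCoh N) :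
    Coh.IsCoh (CohB1.tensorMod M N) := by
  have := hM.1
  have := hN.1
  exact ⟨(Groth.Agent.S2297.result M N).1, (Groth.Agent.S2297.result M N).2 hM.2 hN.2⟩

/-- Lifting decompositions to full subcategories. -/
def decLift {C : Type*} [Category C] [Preadditive C] (P : ObjectProperty C) {J : Type*} [Fintype J]
    {M : J → P.FullSubcategory} {L : P.FullSubcategory} (d : Dec (fun j => (M j).obj) L.obj) : Dec M L where
  ι j := ObjectProperty.homMk (d.ι j)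
  π j := ObjectProperty.homMk (d.π j)
  ι_π j := ObjectProperty.hom_ext _ (d.ι_π j)
  ι_π' i j h := ObjectProperty.hom_ext _ (d.ι_π' i j h)
  total := ObjectProperty.hom_ext _ (by
    have h : P.ι.map (∑ j, (ObjectProperty.homMk (d.π j) : L ⟶ M j) ≫ ObjectProperty.homMk (d.ι j)) =
        ∑ j, P.ι.map ((ObjectProperty.homMk (d.π j) : L ⟶ M j) ≫ ObjectProperty.homMk (d.ι j)) :=
      P.ι.map_sum _ _
    exact h.trans d.total)

section Zd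

variable (k : Type u) [Field k] {X Y : Scheme.{u}} [X.Over (Spec (CommRingCat.of k))]
  [Y.Over (Spec (CommRingCat.of k))] [IsProper (X ↘ Spec (CommRingCat.of k))]

local notation "𝕊" => Spec (CommRingCat.of k)

/-- Right t-exactness of `Ψ_T` for `T` supported at closed points. -/
theorem isLE_psi (T : X.Modules) (hT : Coh.IsCoh T) (hcl : ∀ x ∈ CohB1.support T, IsClosed ({x} : Set X))
    (Q : DCoh.D (pullback (X ↘ 𝕊) (Y ↘ 𝕊))) (hQ : DCoh.IsQCohD Q) (a : ℤ) (hQa : Q.IsLE a) :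
    ((psi (pullback.fst (X ↘ 𝕊) (Y ↘ 𝕊)) (pullback.snd (X ↘ 𝕊) (Y ↘ 𝕊)) (DCoh.inD X T)).obj Q).IsLE a := by
  obtain ⟨e⟩ := braid ((DCoh.Lpull (pullback.fst (X ↘ 𝕊) (Y ↘ 𝕊))).obj (DCoh.inD X T))
  have := K370.ZeroDim.isLE_fm_field k T hT hcl Q hQ a hQa
  let e' : (DCoh.Rpush (pullback.snd (X ↘ 𝕊) (Y ↘ 𝕊))).obj
      ((DCoh.Lpull (pullback.fst (X ↘ 𝕊) (Y ↘ 𝕊))).obj (DCoh.inD X T) ⊗ Q) ≅
      (psi (pullback.fst (X ↘ 𝕊) (Y ↘ 𝕊)) (pullback.snd (X ↘ 𝕊) (Y ↘ 𝕊)) (DCoh.inD X T)).obj Q :=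
    (DCoh.Rpush _).mapIso (e.app Q).symm
  exact DerivedCategory.TStructure.t.isLE_of_iso e' a

variable [Flat (X ↘ Spec (CommRingCat.of k))] [LocallyOfFinitePresentation (X ↘ Spec (CommRingCat.of k))]

/-- `Ra_* (E ⊗ T)` is a sum of copies of `k`. -/
theorem nonempty_dec (T E : X.Modules) (hT : Coh.IsCoh T) (hE : FlatMod.IsFinLocFree E)
    (hEc : Coh.IsCoh E) (hcl : ∀ x ∈ CohB1.support T, IsClosed ({x} : Set X))
    (hTp : DCoh.IsPerfect (DCoh.inD X T)) (hEp : DCoh.IsPerfect (DCoh.inD X E)) :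
    ∃ n : ℕ, Nonempty (Dec (fun _ : Fin n => un k) (mE (k := k) (sh E hEp) (sh T hTp))) := by
  obtain ⟨e⟩ := K357.BoxEval.inD_tensor T E (Dcoh.Spread.isFlat_of_isFinLocFree hE)
  obtain ⟨b⟩ := braid (DCoh.inD X T)
  let i : (DCoh.Rpush (X ↘ 𝕊)).obj (DCoh.inD X E ⊗ DCoh.inD X T) ≅
      (DCoh.Rpush (X ↘ 𝕊)).obj (DCoh.inD X (CohB1.tensorMod T E)) :=
    (DCoh.Rpush (X ↘ 𝕊)).mapIso (b.app (DCoh.inD X E) ≪≫ e)
  obtain ⟨n, ι, π, h1, h2⟩ := K370.ZeroDim.exists_split_push k (CohB1.tensorMod T E)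
    (isCoh_tensor hT hEc) (fun x hx => hcl x (support_tensor_left T E hx))
  let u := Dcoh.DualX.unitIso (Spec (CommRingCat.of k))
  refine ⟨n, ⟨decLift _ (L := mE (k := k) (sh E hEp) (sh T hTp)) (M := fun _ : Fin n => un k)
    { ι := fun j => u.inv ≫ ι j ≫ i.inv
      π := fun j => i.hom ≫ π j ≫ u.hom
      ι_π := fun j => ?_
      ι_π' := fun j j' h => ?_
      total := ?_ }⟩⟩
  · have := h1 j j
    rw [if_pos rfl] at this
    change (u.inv ≫ ι j ≫ i.inv) ≫ i.hom ≫ π j ≫ u.hom = 𝟙 _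
    simp only [Category.assoc, Iso.inv_hom_id_assoc, reassoc_of% this, Iso.inv_hom_id]
  · have := h1 j j'
    rw [if_neg h] at this
    change (u.inv ≫ ι j ≫ i.inv) ≫ i.hom ≫ π j' ≫ u.hom = 0
    simp only [Category.assoc, Iso.inv_hom_id_assoc, reassoc_of% this, zero_comp, comp_zero]
  · change ∑ j, (i.hom ≫ π j ≫ u.hom) ≫ u.inv ≫ ι j ≫ i.inv = 𝟙 _
    simp only [Category.assoc, Iso.hom_inv_id_assoc]
    have h4 : ∀ j, i.hom ≫ π j ≫ ι j ≫ i.inv = i.hom ≫ (π j ≫ ι j) ≫ i.inv := fun j => by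
      simp only [Category.assoc]
    simp only [h4]
    rw [← Preadditive.comp_sum, ← Preadditive.sum_comp, h2, Category.id_comp, Iso.hom_inv_id]

end Zd

section Main

variable {k : Type u} [Field k] {X Y : Scheme.{u}} [X.Over (Spec (CommRingCat.of k))]
  [Y.Over (Spec (CommRingCat.of k))]
  {W₁ W₂ : Scheme.{u}} {p₁ : W₁ ⟶ X} {q₁ : W₁ ⟶ X} {p₂ : W₂ ⟶ X} {q₂ : W₂ ⟶ Y}
  (sq₁ : IsPullback p₁ q₁ (X ↘ Spec (CommRingCat.of k)) (X ↘ Spec (CommRingCat.of k)))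
  (sq₂ : IsPullback p₂ q₂ (X ↘ Spec (CommRingCat.of k)) (Y ↘ Spec (CommRingCat.of k)))
  [IsProper (X ↘ Spec (CommRingCat.of k))] [Flat (X ↘ Spec (CommRingCat.of k))]
  [LocallyOfFinitePresentation (X ↘ Spec (CommRingCat.of k))]
  [W₁.Over (Spec (CommRingCat.of k))] [p₁.IsOver (Spec (CommRingCat.of k))]
  [q₁.IsOver (Spec (CommRingCat.of k))] [W₂.Over (Spec (CommRingCat.of k))]
  [p₂.IsOver (Spec (CommRingCat.of k))] [q₂.IsOver (Spec (CommRingCat.of k))]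

variable (E G : ℕ → X.Modules) (hE : ∀ n, DCoh.IsPerfect (DCoh.inD X (E n)))
  (hG : ∀ n, DCoh.IsPerfect (DCoh.inD X (G n)))
  (C : ChainComplex W₁.Modules ℕ)
  (bX : ∀ n, DCoh.inD W₁ (C.X n) ≅ (boxP p₁ q₁ (sh (G n) (hG n)) (sh (E n) (hE n))).obj)
  {Q : W₁.Modules} (π : C ⟶ (ChainComplex.single₀ W₁.Modules).obj Q) (hπ : QuasiIso π)
  [IsNoetherian X] [IsLocallyNoetherian W₁] (hC : ∀ n, Coh.IsCoh (C.X n))
  (hW : ∀ M : W₁.Modules, Coh.IsCoh M → DCoh.IsPerfect (DCoh.inD W₁ M))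
  (T : X.Modules) (hT : DCoh.IsPerfect (DCoh.inD X T)) {J : ℕ → Type} [∀ n, Fintype (J n)]
  (dec : ∀ n, Dec (fun _ : J n => un k) (mE (k := k) (sh (E n) (hE n)) (sh T hT)))
  (hLE : ∀ (K : DCoh.D W₁), DCoh.IsQCohD K → K.IsLE 0 → ((psi p₁ q₁ (DCoh.inD X T)).obj K).IsLE 0)
  (hdiag : Nonempty ((psi p₁ q₁ (DCoh.inD X T)).obj (DCoh.inD W₁ Q) ≅ DCoh.inD X T))
  (T₁ : Tower (fun n => DCoh.inD W₁ (C.X n))
      (fun n => (DerivedCategory.singleFunctor W₁.Modules 0).map (C.d (n + 1) n)))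

include sq₁ dec bX hπ hC hW hLE hdiag in
/-- The triangle on `X`. -/
theorem xside (n : ℕ) : ∃ (N : X.Modules) (f : (DCoh.inD X N)⟦(n : ℤ)⟧ ⟶
      ((psi p₁ q₁ (DCoh.inD X T)).obj (T₁.Y n))⟦(n : ℤ)⟧)
      (g : ((psi p₁ q₁ (DCoh.inD X T)).obj (T₁.Y n))⟦(n : ℤ)⟧ ⟶ DCoh.inD X T)
      (h : DCoh.inD X T ⟶ ((DCoh.inD X N)⟦(n : ℤ)⟧)⟦(1 : ℤ)⟧),
      Triangle.mk f g h ∈ distTriang (DCoh.D X) ∧ Coh.IsCoh N := by
  obtain ⟨_, _⟩ := isTriang_psi p₁ q₁ (DCoh.inD X T)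
  let Ψ := psi p₁ q₁ (DCoh.inD X T)
  obtain ⟨Z, f, g, h, hTr, hZ⟩ := K370.TowerCoh.n0d π hπ T₁ n
  have hZc := hZ inferInstance hC
  obtain ⟨eD⟩ := hdiag
  have h1 := Ψ.map_distinguished _ hTr
  -- bounds
  have hYn : ∀ i : ℤ, i < 0 → IsZero (DCoh.HD (Ψ.obj (T₁.Y n)) i) := by
    refine tower_ge (T₁.map Ψ) 0 (fun n i hi => ?_) n
    have h1 := isZero_psi sq₁ E hE (sh T hT) dec n (sh (G n) (hG n)) i (by
      have := isGE_inD (G n)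
      exact DerivedCategory.isZero_of_isGE _ 0 i hi)
    exact h1.of_iso ((DerivedCategory.homologyFunctor _ i).mapIso (Ψ.mapIso (bX n)))
  have hle : (Ψ.obj (DCoh.inD W₁ Z)).IsLE 0 := hLE _ (PerfA.QCohD.isQCohD_inD _ hZc.1) (isLE_inD Z)
  have hge : (Ψ.obj (DCoh.inD W₁ Z)).IsGE 0 := by
    refine (DerivedCategory.isGE_iff _ _).2 fun i hi => ?_
    have h2 : IsZero (DCoh.HD (Ψ.obj ((DCoh.inD W₁ Z)⟦(n : ℤ)⟧)) (i - n)) := by
      refine isZero₁ _ h1 (i - n) (i - n - 1) (by omega) ?_ ?_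
      · refine IsZero.of_iso ?_ ((DerivedCategory.homologyFunctor _ (i - n)).mapIso
          ((Ψ.commShiftIso (n : ℤ)).app (T₁.Y n)))
        exact (isZero_H_shift_iff _ (n : ℤ) (i - n) i (by omega)).2 (hYn i hi)
      · refine IsZero.of_iso ?_ ((DerivedCategory.homologyFunctor _ (i - n - 1)).mapIso eD)
        have := isGE_inD T
        exact DerivedCategory.isZero_of_isGE _ 0 _ (by omega)
    exact (isZero_H_shift_iff _ (n : ℤ) (i - n) i (by omega)).1 (h2.of_iso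
      ((DerivedCategory.homologyFunctor _ (i - n)).mapIso
          ((Ψ.commShiftIso (n : ℤ)).app (DCoh.inD W₁ Z)).symm))
  obtain ⟨N, ⟨e⟩⟩ := DerivedCategory.exists_iso_singleFunctor_obj_of_isGE_of_isLE
    (Ψ.obj (DCoh.inD W₁ Z)) 0
  have hp : DCoh.IsPerfect (Ψ.obj (DCoh.inD W₁ Z)) :=
    isPerfect_push_q sq₁ (PerfTens.isPerfect_tensor (hW Z hZc) (isPerfect_pull p₁ hT))
  have hN : Coh.IsCoh N := PerfA.CohSerre.isCoh_of_iso
    (((DerivedCategory.homologyFunctor _ 0).mapIso e) ≪≫ (DerivedCategory.singleFunctorCompHomologyFunctorIso _ 0).app N)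
    ((Groth.Agent.S1006.result X _ hp).1 0)
  let a : Ψ.obj ((DCoh.inD W₁ Z)⟦(n : ℤ)⟧) ≅ (DCoh.inD X N)⟦(n : ℤ)⟧ :=
    (Ψ.commShiftIso (n : ℤ)).app (DCoh.inD W₁ Z) ≪≫ (shiftFunctor (DCoh.D X) (n : ℤ)).mapIso e
  let b : Ψ.obj ((T₁.Y n)⟦(n : ℤ)⟧) ≅ (Ψ.obj (T₁.Y n))⟦(n : ℤ)⟧ := (Ψ.commShiftIso (n : ℤ)).app (T₁.Y n)
  refine ⟨N, a.inv ≫ Ψ.map f ≫ b.hom, b.inv ≫ Ψ.map g ≫ eD.hom,
    eD.inv ≫ (Ψ.map h ≫ (Ψ.commShiftIso (1 : ℤ)).hom.app _) ≫ a.hom⟦(1 : ℤ)⟧', ?_, hN⟩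
  exact K370.TowerCoh.dist_of_iso h1 a b eD (Iso.hom_inv_id_assoc a _).symm
    (Iso.hom_inv_id_assoc b _).symm (Iso.hom_inv_id_assoc eD _).symm

variable [(SGA6.perfP X).IsTriangulated] [(SGA6.perfP Y).IsTriangulated]
  (F : (SGA6.perfP X).FullSubcategory ⥤ (SGA6.perfP Y).FullSubcategory) [F.Additive] [F.Linear k]
  [F.CommShift ℤ] [F.IsTriangulated] [F.Full]
  (t : ∀ n, TH k (sh (E (n + 1)) (hE (n + 1))) (sh (E n) (hE n)) (sh (G (n + 1)) (hG (n + 1)))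
    (sh (G n) (hG n)))

include sq₁ sq₂ dec bX hπ hC hW hLE hdiag T₁ in
/-- The triangle on `Y`. -/
theorem yside
    (ht : ∀ n, (thP p₁ q₁ _ _ _ _ (t n)).hom = (bX (n + 1)).inv ≫
      (DerivedCategory.singleFunctor W₁.Modules 0).map (C.d (n + 1) n) ≫ (bX n).hom)
    (T₂ : Tower (fun n => (objY p₂ q₂ E G hE hG F n).obj) (fun n => (dY p₂ q₂ E G hE hG F t n).hom))
    (hX : ∀ M : X.Modules, Coh.IsCoh M → DCoh.IsPerfect (DCoh.inD X M))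
    (m : ℕ) (hm : ∀ (M : X.Modules), Coh.IsCoh M → ∀ (hM : SGA6.perfP X (DCoh.inD X M)) (i : ℤ),
      (i < -(m : ℤ) ∨ (m : ℤ) < i) → IsZero (DCoh.HD (F.obj ⟨DCoh.inD X M, hM⟩).obj i)) (n : ℕ) :
    ∃ (U : DCoh.D Y) (f : U ⟶ (psi p₂ q₂ (DCoh.inD X T)).obj ((T₂.Y n)⟦(n : ℤ)⟧))
      (g : (psi p₂ q₂ (DCoh.inD X T)).obj ((T₂.Y n)⟦(n : ℤ)⟧) ⟶ (F.obj (sh T hT)).obj)
      (h : (F.obj (sh T hT)).obj ⟶ U⟦(1 : ℤ)⟧), Triangle.mk f g h ∈ distTriang (DCoh.D Y) ∧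
      ∀ i : ℤ, (i + n < -(m : ℤ) ∨ (m : ℤ) < i + n) → IsZero (DCoh.HD U i) := by
  obtain ⟨_, _⟩ := isTriang_psi p₁ q₁ (DCoh.inD X T)
  obtain ⟨_, _⟩ := isTriang_psi p₂ q₂ (DCoh.inD X T)
  let Ψ₁ := psi p₁ q₁ (DCoh.inD X T)
  let Ψ₂ := psi p₂ q₂ (DCoh.inD X T)
  obtain ⟨N, f, g, h, hTr, hN⟩ := xside sq₁ E G hE hG C bX π hπ hC hW T hT dec hLE hdiag T₁ n
  have hXn : ∀ n, DCoh.IsPerfect (Ψ₁.obj (DCoh.inD W₁ (C.X n))) := fun n =>
    PerfA.PerfLocal.isPerfect_of_iso (Ψ₁.mapIso (bX n)).symm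
      ((psiP sq₁ (sh T hT)).obj (boxP p₁ q₁ (sh (G n) (hG n)) (sh (E n) (hE n)))).property
  have hYn : DCoh.IsPerfect (Ψ₁.obj (T₁.Y n)) := tower_mem (SGA6.perfP X) (T₁.map Ψ₁) hXn n
  let A₀ : (SGA6.perfP X).FullSubcategory := sh N (hX N hN)
  let A : (SGA6.perfP X).FullSubcategory :=
    ⟨(DCoh.inD X N)⟦(n : ℤ)⟧, (SGA6.perfP X).le_shift (n : ℤ) _ (hX N hN)⟩
  let B₀ : (SGA6.perfP X).FullSubcategory := ⟨Ψ₁.obj (T₁.Y n), hYn⟩
  let B : (SGA6.perfP X).FullSubcategory :=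
    ⟨(Ψ₁.obj (T₁.Y n))⟦(n : ℤ)⟧, (SGA6.perfP X).le_shift (n : ℤ) _ hYn⟩
  obtain ⟨f', g', h', hTr'⟩ := map_triangle F (A := A) (B := B) (C := sh T hT) f g h hTr
  obtain ⟨a⟩ := nonempty_shift F A₀ A (n : ℤ) (Iso.refl _)
  obtain ⟨b⟩ := nonempty_shift F B₀ B (n : ℤ) (Iso.refl _)
  obtain ⟨c⟩ := nonempty_iso sq₁ sq₂ E G hE hG C bX F t (sh T hT) dec ht T₁ T₂ n hYn
  let e : (F.obj B).obj ≅ Ψ₂.obj ((T₂.Y n)⟦(n : ℤ)⟧) :=
    b ≪≫ (shiftFunctor (DCoh.D Y) (n : ℤ)).mapIso c.symm ≪≫ ((Ψ₂.commShiftIso (n : ℤ)).app (T₂.Y n)).symm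
  refine ⟨(F.obj A).obj, f' ≫ e.hom, e.inv ≫ g', h', K370.TowerCoh.dist_of_iso₂ hTr' e, fun i hi => ?_⟩
  refine IsZero.of_iso ?_ ((DerivedCategory.homologyFunctor _ i).mapIso a)
  exact (isZero_H_shift_iff _ (n : ℤ) i (i + n) (by omega)).2 (hm N hN (hX N hN) (i + n) hi)

end Main

end K160.KerX
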