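import Mathlib.CategoryTheory.Triangulated.Functor
import Mathlib.CategoryTheory.Linear.LinearFunctor
import Mathlib.CategoryTheory.EssentialImage

/-!
# Lifting a functor through a fully faithful functor

`exists_lift`: for `G` fully faithful, linear, triangulated and `F` linear, triangulated with values in the essential
image of `G` there is `H` linear, triangulated with `H ⋙ G ≅ F`.
-/

set_option autoImplicit false

universe w

namespace K160.LiftFF

open CategoryTheory CategoryTheory.Limits CategoryTheory.Pretriangulated

variable {C C' D : Type*} [Category* C] [Category* C'] [Category* D]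

section additive

variable [Preadditive C] [Preadditive C'] [Preadditive D] {F : C ⥤ D} {G : C' ⥤ D}
  [G.Faithful] {H : C ⥤ C'} (e : H ⋙ G ≅ F)

include e in
lemma additive [F.Additive] [G.Additive] : H.Additive := ⟨fun {X Y f g} => by
  apply G.map_injective
  have h1 := e.hom.naturality (f + g)
  have h2 := e.hom.naturality f
  have h3 := e.hom.naturality g
  rw [← cancel_mono (e.hom.app Y)]
  simp only [Functor.comp_map] at h1 h2 h3
  rw [h1, Functor.map_add, Functor.map_add, Preadditive.comp_add, Preadditive.add_comp, h2, h3]⟩

include e in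
lemma linear (R : Type w) [Semiring R] [Linear R C] [Linear R C'] [Linear R D] [F.Linear R] [G.Linear R] :
    H.Linear R := ⟨fun {X Y} f r => by
  apply G.map_injective
  have h1 := e.hom.naturality (r • f)
  have h2 := e.hom.naturality f
  rw [← cancel_mono (e.hom.app Y)]
  simp only [Functor.comp_map] at h1 h2
  rw [h1, Functor.map_smul, Functor.map_smul, Linear.comp_smul, Linear.smul_comp, h2]⟩

end additive

variable [Preadditive C] [HasZeroObject C] [HasShift C ℤ] [∀ n : ℤ, (shiftFunctor C n).Additive] [Pretriangulated C]
  [Preadditive C'] [HasZeroObject C'] [HasShift C' ℤ] [∀ n : ℤ, (shiftFunctor C' n).Additive] [Pretriangulated C']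
  [Preadditive D] [HasZeroObject D] [HasShift D ℤ] [∀ n : ℤ, (shiftFunctor D n).Additive] [Pretriangulated D]

/-- Lifting a linear exact functor through a fully faithful linear exact functor. -/
theorem exists_lift (R : Type w) [Semiring R] [Linear R C] [Linear R C'] [Linear R D] (F : C ⥤ D) (G : C' ⥤ D)
    [F.Additive] [F.Linear R] [F.CommShift ℤ] [F.IsTriangulated]
    [G.Additive] [G.Linear R] [G.CommShift ℤ] [G.IsTriangulated] [G.Full] [G.Faithful]
    (h : ∀ X, G.essImage (F.obj X)) :
    ∃ (H : C ⥤ C') (_ : H.Additive) (_ : H.Linear R) (_ : H.CommShift ℤ) (_ : H.IsTriangulated),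
      Nonempty (H ⋙ G ≅ F) := by
  let H := Functor.essImage.liftFunctor F G h
  let e : H ⋙ G ≅ F := Functor.essImage.liftFunctorCompIso F G h
  have h1 : H.Additive := additive e
  have h2 : H.Linear R := linear e R
  let h3 : H.CommShift ℤ := Functor.CommShift.ofComp e ℤ
  have h4 : NatTrans.CommShift e.hom ℤ := Functor.CommShift.ofComp_compatibility e ℤ
  have h5 : H.IsTriangulated := (Functor.isTriangulated_iff_comp_right e).2 inferInstance
  exact ⟨H, h1, h2, h3, h5, ⟨e⟩⟩

end K160.LiftFF
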