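import Groth.Agent.DEquiv.K160.BoxK
import Groth.Agent.PerfA.RelPerfPush
import Groth.Agent.Dcoh.PerfTens
import Groth.Agent.PerfC.LpullPC
import Groth.Agent.PerfC.PullKFlat

/-!
# `F (Ψ_Z (G ⊠ E)) ≅ Ψ_Z (F G ⊠ E)`

`Ψ_Z K = Rq_* (K ⊗ Lp^* Z)`.  For `F : D_perf(X) ⥤ D_perf(Y)` additive and `k`-linear and
`Ra_* (E ⊗ Z)` a direct sum of copies of the unit, the isomorphism `phi` is natural in `E` and `G`.
-/

set_option autoImplicit false
set_option linter.unusedSectionVars false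

universe u

open CategoryTheory CategoryTheory.Limits AlgebraicGeometry MonoidalCategory

attribute [local instance] HasDerivedCategory.standard

open scoped Groth.Agent.Dcoh.MonCat Groth.Agent.Dcoh.ModD

namespace K160.PsiF

open Groth.Agent Groth.Agent.Dcoh Groth.Agent.Dual.H379 Groth.Agent.PerfC.DTens
open K353.Calc BoxAbs BoxLin BoxCoef BoxSch BoxK FieldDec

attribute [local instance] Groth.Agent.Fixpt.H313.AddD.monPreDX monLinDX DQMon.lpullMon
  K353.Calc.hasRpush K353.Calc.hasLpull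

variable {k : Type u} [Field k] {X Y : Scheme.{u}} [X.Over (Spec (CommRingCat.of k))]
  [Y.Over (Spec (CommRingCat.of k))]

local notation "𝕊" => Spec (CommRingCat.of k)

theorem isPerfect_pull {X Y : Scheme.{u}} (f : X ⟶ Y) {K : DCoh.D Y} (h : DCoh.IsPerfect K) :
    DCoh.IsPerfect ((DCoh.Lpull f).obj K) :=
  PerfC.LpullPC.isPerfect_lpull PerfC.PullKFlat.exists_pullData f h

variable (k) in
/-- `M ↦ G ⊗ La^* M`, on perfect objects. -/
noncomputable def tens (G : (SGA6.perfP X).FullSubcategory) :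
    (SGA6.perfP (Spec (CommRingCat.of k))).FullSubcategory ⥤ (SGA6.perfP X).FullSubcategory :=
  (SGA6.perfP X).lift ((SGA6.perfP _).ι ⋙ DCoh.Lpull (X ↘ Spec (CommRingCat.of k)) ⋙ tensorLeft G.obj)
    (fun M => PerfTens.isPerfect_tensor G.property (isPerfect_pull _ M.property))

/-- Naturality in `G`. -/
noncomputable def tensNat {G G' : (SGA6.perfP X).FullSubcategory} (v : G ⟶ G') :
    tens k G ⟶ tens k G' where
  app M := ObjectProperty.homMk (v.hom ▷ (DCoh.Lpull (X ↘ Spec (CommRingCat.of k))).obj M.obj)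
  naturality M N f := by
    apply ObjectProperty.hom_ext
    exact (whisker_exchange v.hom ((DCoh.Lpull (X ↘ Spec (CommRingCat.of k))).map f.hom))

variable (k) in
/-- The unit of `D_perf(Spec k)`. -/
noncomputable def un : (SGA6.perfP (Spec (CommRingCat.of k))).FullSubcategory :=
  ⟨𝟙_ _, DQMon.isPerfect_unit⟩

/-- `G ⊗ La^* 𝟙 ≅ G`. -/
noncomputable def tensUn (G : (SGA6.perfP X).FullSubcategory) : (tens k G).obj (un k) ≅ G :=
  (SGA6.perfP X).isoMk (whiskerLeftIso G.obj (Functor.Monoidal.εIso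
    (DCoh.Lpull (X ↘ Spec (CommRingCat.of k)))).symm ≪≫ ρ_ G.obj)

lemma tensUn_nat {G G' : (SGA6.perfP X).FullSubcategory} (v : G ⟶ G') :
    (tensNat (k := k) v).app (un k) ≫ (tensUn G').hom = (tensUn G).hom ≫ v := by
  apply ObjectProperty.hom_ext
  change v.hom ▷ (DCoh.Lpull (X ↘ Spec (CommRingCat.of k))).obj (𝟙_ _) ≫
    G'.obj ◁ (Functor.Monoidal.εIso (DCoh.Lpull (X ↘ Spec (CommRingCat.of k)))).inv ≫ (ρ_ G'.obj).hom =
    (G.obj ◁ (Functor.Monoidal.εIso (DCoh.Lpull (X ↘ Spec (CommRingCat.of k)))).inv ≫ (ρ_ G.obj).hom) ≫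
      v.hom
  rw [← whisker_exchange_assoc, rightUnitor_naturality, Category.assoc]

instance additive_tens (G : (SGA6.perfP X).FullSubcategory) : (tens k G).Additive where
  map_add {M N} f g := by
    apply ObjectProperty.hom_ext
    have := additive_lpull (X ↘ Spec (CommRingCat.of k))
    change G.obj ◁ (DCoh.Lpull (X ↘ Spec (CommRingCat.of k))).map (f.hom + g.hom) =
      G.obj ◁ (DCoh.Lpull (X ↘ Spec (CommRingCat.of k))).map f.hom +
        G.obj ◁ (DCoh.Lpull (X ↘ Spec (CommRingCat.of k))).map g.hom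
    rw [Functor.map_add, MonoidalPreadditive.whiskerLeft_add]

instance linear_tens (G : (SGA6.perfP X).FullSubcategory) : (tens k G).Linear k where
  map_smul {M N} f r := by
    apply ObjectProperty.hom_ext
    have := isOver_str (k := k) (Y := X)
    have := linear_lpull k (X ↘ Spec (CommRingCat.of k))
    change G.obj ◁ (DCoh.Lpull (X ↘ Spec (CommRingCat.of k))).map (r • f.hom) =
      r • (G.obj ◁ (DCoh.Lpull (X ↘ Spec (CommRingCat.of k))).map f.hom)
    rw [Functor.map_smul, MonoidalLinear.whiskerLeft_smul]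

section Phi

variable (F : (SGA6.perfP X).FullSubcategory ⥤ (SGA6.perfP Y).FullSubcategory) [F.Additive]
  [F.Linear k]

/-- `M ↦ F (G ⊗ La^* M)`. -/
noncomputable abbrev H₁ (G : (SGA6.perfP X).FullSubcategory) :
    (SGA6.perfP (Spec (CommRingCat.of k))).FullSubcategory ⥤ (SGA6.perfP Y).FullSubcategory :=
  tens k G ⋙ F

/-- `M ↦ F G ⊗ Lb^* M`. -/
noncomputable abbrev H₂ (G : (SGA6.perfP X).FullSubcategory) :
    (SGA6.perfP (Spec (CommRingCat.of k))).FullSubcategory ⥤ (SGA6.perfP Y).FullSubcategory :=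
  tens k (F.obj G)

/-- The comparison on the unit. -/
noncomputable def alpha (G : (SGA6.perfP X).FullSubcategory) :
    (H₁ (k := k) F G).obj (un k) ≅ (H₂ (k := k) F G).obj (un k) :=
  F.mapIso (tensUn G) ≪≫ (tensUn (F.obj G)).symm

lemma alpha_nat {G G' : (SGA6.perfP X).FullSubcategory} (v : G ⟶ G') :
    (Functor.whiskerRight (tensNat (k := k) v) F).app (un k) ≫ (alpha F G').hom =
      (alpha F G).hom ≫ (tensNat (k := k) (F.map v)).app (un k) := by
  simp only [alpha, Functor.whiskerRight_app, Iso.trans_hom, Functor.mapIso_hom, Iso.symm_hom,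
    Category.assoc]
  rw [← F.map_comp_assoc, tensUn_nat, F.map_comp_assoc]
  congr 1
  rw [Iso.comp_inv_eq, Category.assoc, tensUn_nat, Iso.inv_hom_id_assoc]

theorem end_un (α : un k ⟶ un k) : ∃ c : k, α = c • 𝟙 _ := by
  obtain ⟨c, hc⟩ := end_unit k α.hom
  exact ⟨c, ObjectProperty.hom_ext _ hc⟩

variable {J J' : Type} [Fintype J] [Fintype J'] {M M' : (SGA6.perfP (Spec (CommRingCat.of k))).FullSubcategory}

/-- `F (G ⊗ La^* M) ≅ F G ⊗ Lb^* M` for `M` a direct sum of copies of the unit. -/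
noncomputable def tauF (G : (SGA6.perfP X).FullSubcategory) (d : Dec (fun _ : J => un k) M) :
    F.obj ((tens k G).obj M) ≅ (tens k (F.obj G)).obj M :=
  tau (G₁ := H₁ F G) (G₂ := H₂ F G) (alpha F G) d

lemma tauF_naturality (G : (SGA6.perfP X).FullSubcategory) (d : Dec (fun _ : J => un k) M)
    (d' : Dec (fun _ : J' => un k) M') (m : M ⟶ M') :
    F.map ((tens k G).map m) ≫ (tauF F G d').hom = (tauF F G d).hom ≫ (tens k (F.obj G)).map m :=
  tau_naturality (G₁ := H₁ F G) (G₂ := H₂ F G) end_un (alpha F G) d d' m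

lemma tauF_nat {G G' : (SGA6.perfP X).FullSubcategory} (v : G ⟶ G') (d : Dec (fun _ : J => un k) M) :
    F.map ((tensNat v).app M) ≫ (tauF F G' d).hom = (tauF F G d).hom ≫ (tensNat (F.map v)).app M :=
  tau_app (G₁ := H₁ F G) (G₂ := H₂ F G) (G₁' := H₁ F G') (G₂' := H₂ F G') (alpha F G) (alpha F G')
    (Functor.whiskerRight (tensNat v) F) (tensNat (F.map v)) (alpha_nat F v) d

end Phi

section Psi

variable {W : Scheme.{u}} {p : W ⟶ X} {q : W ⟶ Y}
  (sq : IsPullback p q (X ↘ Spec (CommRingCat.of k)) (Y ↘ Spec (CommRingCat.of k)))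
  [IsProper (X ↘ Spec (CommRingCat.of k))] [Flat (X ↘ Spec (CommRingCat.of k))]
  [LocallyOfFinitePresentation (X ↘ Spec (CommRingCat.of k))]

include sq in
theorem isPerfect_push_q {K : DCoh.D W} (hK : DCoh.IsPerfect K) :
    DCoh.IsPerfect ((DCoh.Rpush q).obj K) := by
  have h1 : IsProper q := MorphismProperty.of_isPullback sq inferInstance
  have h2 : Flat q := MorphismProperty.of_isPullback sq inferInstance
  have h3 : LocallyOfFinitePresentation q := MorphismProperty.of_isPullback sq inferInstance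
  exact PerfA.PcFlatPush.isPerfect_Rpush q K hK

/-- `Ψ_Z K = Rq_* (K ⊗ Lp^* Z)` on perfect objects. -/
noncomputable def psiP (Z : (SGA6.perfP X).FullSubcategory) :
    (SGA6.perfP W).FullSubcategory ⥤ (SGA6.perfP Y).FullSubcategory :=
  (SGA6.perfP Y).lift ((SGA6.perfP W).ι ⋙ tensorRight ((DCoh.Lpull p).obj Z.obj) ⋙ DCoh.Rpush q)
    (fun K => isPerfect_push_q sq (PerfTens.isPerfect_tensor K.property (isPerfect_pull p Z.property)))

theorem additive_psiP (Z : (SGA6.perfP X).FullSubcategory) : (psiP sq Z).Additive where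
  map_add {K L} f g := by
    apply ObjectProperty.hom_ext
    change (DCoh.Rpush q).map ((f.hom + g.hom) ▷ (DCoh.Lpull p).obj Z.obj) =
      (DCoh.Rpush q).map (f.hom ▷ (DCoh.Lpull p).obj Z.obj) +
        (DCoh.Rpush q).map (g.hom ▷ (DCoh.Lpull p).obj Z.obj)
    rw [MonoidalPreadditive.add_whiskerRight, Functor.map_add]

variable (p q) in
/-- `G ⊠ E`. -/
noncomputable abbrev boxP (G : (SGA6.perfP Y).FullSubcategory) (E : (SGA6.perfP X).FullSubcategory) :
    (SGA6.perfP W).FullSubcategory :=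
  ⟨box (DCoh.Lpull p) (DCoh.Lpull q) G.obj E.obj,
    PerfTens.isPerfect_tensor (isPerfect_pull q G.property) (isPerfect_pull p E.property)⟩

variable (p q) in
/-- `v ⊠ u`. -/
noncomputable abbrev boxPm {G G' : (SGA6.perfP Y).FullSubcategory} {E E' : (SGA6.perfP X).FullSubcategory}
    (v : G ⟶ G') (u : E ⟶ E') : boxP p q G E ⟶ boxP p q G' E' :=
  ObjectProperty.homMk (boxm (DCoh.Lpull p) (DCoh.Lpull q) v.hom u.hom)

/-- `Ra_* (E ⊗ Z)`. -/
noncomputable def mE (E Z : (SGA6.perfP X).FullSubcategory) :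
    (SGA6.perfP (Spec (CommRingCat.of k))).FullSubcategory :=
  ⟨(DCoh.Rpush (X ↘ Spec (CommRingCat.of k))).obj (E.obj ⊗ Z.obj),
    PerfA.PcFlatPush.isPerfect_Rpush _ _ (PerfTens.isPerfect_tensor E.property Z.property)⟩

/-- `Ra_* (u ⊗ Z)`. -/
noncomputable def mEm {E E' : (SGA6.perfP X).FullSubcategory} (u : E ⟶ E')
    (Z : (SGA6.perfP X).FullSubcategory) : mE (k := k) E Z ⟶ mE E' Z :=
  ObjectProperty.homMk ((DCoh.Rpush (X ↘ Spec (CommRingCat.of k))).map (u.hom ▷ Z.obj))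

/-- `Ψ_Z (G ⊠ E) ≅ G ⊗ Lb^* Ra_* (E ⊗ Z)`. -/
noncomputable def psiBox (G : (SGA6.perfP Y).FullSubcategory) (E Z : (SGA6.perfP X).FullSubcategory) :
    (psiP sq Z).obj (boxP p q G E) ≅ (tens k G).obj (mE E Z) :=
  (SGA6.perfP Y).isoMk (psiIso (DCoh.Lpull p) (DCoh.Lpull q) (DerPull.lpullAdj q) (beta sq.w) G.obj
    E.obj Z.obj (isIso_kap' sq G.obj (PerfA.PCohQCoh.isQCohD_of_isPerfect G.property) _
      (PerfA.PCohQCoh.isQCohD_of_isPerfect (PerfTens.isPerfect_tensor E.property Z.property))))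

lemma psiBox_nat {G G' : (SGA6.perfP Y).FullSubcategory} {E E' : (SGA6.perfP X).FullSubcategory}
    (v : G ⟶ G') (u : E ⟶ E') (Z : (SGA6.perfP X).FullSubcategory) :
    (psiP sq Z).map (boxPm p q v u) ≫ (psiBox sq G' E' Z).hom =
      (psiBox sq G E Z).hom ≫ (tens k G).map (mEm u Z) ≫ (tensNat v).app (mE E' Z) := by
  apply ObjectProperty.hom_ext
  have h := psiIso_nat (DCoh.Lpull p) (DCoh.Lpull q) (DerPull.lpullAdj q) (beta sq.w) v.hom u.hom Z.obj
    (isIso_kap' sq G.obj (PerfA.PCohQCoh.isQCohD_of_isPerfect G.property) _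
      (PerfA.PCohQCoh.isQCohD_of_isPerfect (PerfTens.isPerfect_tensor E.property Z.property)))
    (isIso_kap' sq G'.obj (PerfA.PCohQCoh.isQCohD_of_isPerfect G'.property) _
      (PerfA.PCohQCoh.isQCohD_of_isPerfect (PerfTens.isPerfect_tensor E'.property Z.property)))
  rw [tensorHom_def'] at h
  exact h

end Psi

section Main

variable {W₁ W₂ : Scheme.{u}} {p₁ : W₁ ⟶ X} {q₁ : W₁ ⟶ X} {p₂ : W₂ ⟶ X} {q₂ : W₂ ⟶ Y}
  (sq₁ : IsPullback p₁ q₁ (X ↘ Spec (CommRingCat.of k)) (X ↘ Spec (CommRingCat.of k)))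
  (sq₂ : IsPullback p₂ q₂ (X ↘ Spec (CommRingCat.of k)) (Y ↘ Spec (CommRingCat.of k)))
  [IsProper (X ↘ Spec (CommRingCat.of k))] [Flat (X ↘ Spec (CommRingCat.of k))]
  [LocallyOfFinitePresentation (X ↘ Spec (CommRingCat.of k))]
  (F : (SGA6.perfP X).FullSubcategory ⥤ (SGA6.perfP Y).FullSubcategory) [F.Additive]
  [F.Linear k]

/-- `F (Ψ_Z (G ⊠ E)) ≅ Ψ_Z (F G ⊠ E)`. -/
noncomputable def phi (G E Z : (SGA6.perfP X).FullSubcategory) {J : Type} [Fintype J]
    (d : Dec (fun _ : J => un k) (mE (k := k) E Z)) :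
    F.obj ((psiP sq₁ Z).obj (boxP p₁ q₁ G E)) ≅ (psiP sq₂ Z).obj (boxP p₂ q₂ (F.obj G) E) :=
  F.mapIso (psiBox sq₁ G E Z) ≪≫ tauF F G d ≪≫ (psiBox sq₂ (F.obj G) E Z).symm

lemma phi_nat {G G' E E' : (SGA6.perfP X).FullSubcategory} (v : G ⟶ G') (u : E ⟶ E')
    (Z : (SGA6.perfP X).FullSubcategory) {J J' : Type} [Fintype J] [Fintype J']
    (d : Dec (fun _ : J => un k) (mE (k := k) E Z)) (d' : Dec (fun _ : J' => un k) (mE (k := k) E' Z)) :
    F.map ((psiP sq₁ Z).map (boxPm p₁ q₁ v u)) ≫ (phi sq₁ sq₂ F G' E' Z d').hom =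
      (phi sq₁ sq₂ F G E Z d).hom ≫ (psiP sq₂ Z).map (boxPm p₂ q₂ (F.map v) u) := by
  simp only [phi, Iso.trans_hom, Functor.mapIso_hom, Iso.symm_hom, Category.assoc]
  rw [← F.map_comp_assoc, psiBox_nat, F.map_comp_assoc, F.map_comp_assoc,
    reassoc_of% (tauF_nat F v d'), reassoc_of% (tauF_naturality F G d d' (mEm u Z))]
  congr 2
  rw [← Category.assoc, Iso.comp_inv_eq, Category.assoc, psiBox_nat, Iso.inv_hom_id_assoc]

/-- `theta` for perfect objects. -/
noncomputable abbrev thP {Y W : Scheme.{u}} [Y.Over (Spec (CommRingCat.of k))]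
    [W.Over (Spec (CommRingCat.of k))] (p : W ⟶ X) (q : W ⟶ Y) [p.IsOver (Spec (CommRingCat.of k))]
    [q.IsOver (Spec (CommRingCat.of k))] (E E' : (SGA6.perfP X).FullSubcategory)
    (G G' : (SGA6.perfP Y).FullSubcategory) :
    TH k E E' G G' →ₗ[k] (boxP p q G E ⟶ boxP p q G' E') :=
  letI := additive_lpull p
  letI := additive_lpull q
  letI := linear_lpull k p
  letI := linear_lpull k q
  { toFun := fun r => ObjectProperty.homMk (theta k ((SGA6.perfP X).ι ⋙ DCoh.Lpull p)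
      ((SGA6.perfP Y).ι ⋙ DCoh.Lpull q) E E' G G' r)
    map_add' := fun _ _ => ObjectProperty.hom_ext _ (map_add _ _ _)
    map_smul' := fun _ _ => ObjectProperty.hom_ext _ (map_smul _ _ _) }

/-- Composition of tensors. -/
lemma thP_tcomp {Y W : Scheme.{u}} [Y.Over (Spec (CommRingCat.of k))]
    [W.Over (Spec (CommRingCat.of k))] (p : W ⟶ X) (q : W ⟶ Y) [p.IsOver (Spec (CommRingCat.of k))]
    [q.IsOver (Spec (CommRingCat.of k))] {E E' E'' : (SGA6.perfP X).FullSubcategory}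
    {G G' G'' : (SGA6.perfP Y).FullSubcategory} (s : TH k E E' G G') (t : TH k E' E'' G' G'') :
    thP p q E E'' G G'' (tcomp k s t) = thP p q E E' G G' s ≫ thP p q E' E'' G' G'' t := by
  let := additive_lpull p
  let := additive_lpull q
  let := linear_lpull k p
  let := linear_lpull k q
  apply ObjectProperty.hom_ext
  exact theta_tcomp k ((SGA6.perfP X).ι ⋙ DCoh.Lpull p) ((SGA6.perfP Y).ι ⋙ DCoh.Lpull q) s t

/-- Morphisms in the full subcategory. -/
def homLin {C : Type*} [Category C] [Preadditive C] [Linear k C] (P : ObjectProperty C)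
    (A B : P.FullSubcategory) : (A ⟶ B) ≃ₗ[k] (A.obj ⟶ B.obj) where
  toFun f := f.hom
  invFun f := ObjectProperty.homMk f
  left_inv _ := rfl
  right_inv _ := rfl
  map_add' _ _ := rfl
  map_smul' _ _ := rfl

include sq₂ in
/-- **Künneth formula** for perfect objects. -/
theorem bijective_thP [IsProper (Y ↘ Spec (CommRingCat.of k))] [W₂.Over (Spec (CommRingCat.of k))]
    [p₂.IsOver (Spec (CommRingCat.of k))] [q₂.IsOver (Spec (CommRingCat.of k))]
    (E E' : (SGA6.perfP X).FullSubcategory) (hEc : SGA6.cohbP X E.obj) (hEl : E.obj.IsLE 0)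
    (hEg : E.obj.IsGE 0) (hE' : SGA6.cohbP X E'.obj) (hE'g : E'.obj.IsGE 0)
    (G G' : (SGA6.perfP Y).FullSubcategory) (hGc : SGA6.cohbP Y G.obj)
    (h : ∀ i : ℤ, i < 0 → ∀ f : G.obj ⟶ G.obj⟦i⟧, f = 0)
    (h' : ∀ i : ℤ, i < 0 → ∀ f : G.obj ⟶ G'.obj⟦i⟧, f = 0) :
    Function.Bijective (thP (k := k) p₂ q₂ E E' G G') := by
  have hb := bijective_theta sq₂ E.obj E'.obj E.property hEc hEl hEg hE' hE'g G.obj G'.obj G.property
    hGc (PerfA.PCohQCoh.isQCohD_of_isPerfect G'.property) h h'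
  let := additive_lpull p₂
  let := additive_lpull q₂
  let := linear_lpull k p₂
  let := linear_lpull k q₂
  let c : TH k E E' G G' ≃ₗ[k] TH k E.obj E'.obj G.obj G'.obj :=
    TensorProduct.congr (homLin _ E E') (homLin _ G G')
  have : (thP (k := k) p₂ q₂ E E' G G' : TH k E E' G G' → _) =
      (homLin (k := k) (SGA6.perfP W₂) (boxP p₂ q₂ G E) (boxP p₂ q₂ G' E')).symm ∘
        theta k (DCoh.Lpull p₂) (DCoh.Lpull q₂) E.obj E'.obj G.obj G'.obj ∘ c := by
    funext r
    change thP (k := k) p₂ q₂ E E' G G' r = (homLin (k := k) (SGA6.perfP W₂) (boxP p₂ q₂ G E) (boxP p₂ q₂ G' E')).symm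
      (theta k (DCoh.Lpull p₂) (DCoh.Lpull q₂) E.obj E'.obj G.obj G'.obj (c r))
    induction r using TensorProduct.induction_on with
    | zero => simp only [map_zero]
    | add x y hx hy => simp only [map_add, hx, hy]
    | tmul u v => rfl
  rw [this]
  exact (LinearEquiv.bijective _).comp (hb.comp c.bijective)

theorem phi_theta [W₁.Over (Spec (CommRingCat.of k))] [p₁.IsOver (Spec (CommRingCat.of k))]
    [q₁.IsOver (Spec (CommRingCat.of k))] [W₂.Over (Spec (CommRingCat.of k))]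
    [p₂.IsOver (Spec (CommRingCat.of k))] [q₂.IsOver (Spec (CommRingCat.of k))]
    {G G' E E' : (SGA6.perfP X).FullSubcategory} (r : TH k E E' G G')
    (Z : (SGA6.perfP X).FullSubcategory) {J J' : Type} [Fintype J] [Fintype J']
    (d : Dec (fun _ : J => un k) (mE (k := k) E Z)) (d' : Dec (fun _ : J' => un k) (mE (k := k) E' Z)) :
    F.map ((psiP sq₁ Z).map (thP p₁ q₁ E E' G G' r)) ≫ (phi sq₁ sq₂ F G' E' Z d').hom =
      (phi sq₁ sq₂ F G E Z d).hom ≫ (psiP sq₂ Z).map (thP p₂ q₂ E E' _ _ (tF k F r)) := by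
  have := additive_psiP sq₁ Z
  have := additive_psiP sq₂ Z
  induction r using TensorProduct.induction_on with
  | zero => simp only [map_zero, Functor.map_zero, zero_comp, comp_zero]
  | add x y hx hy => simp only [map_add, Functor.map_add, Preadditive.add_comp, Preadditive.comp_add, hx, hy]
  | tmul u v => exact phi_nat sq₁ sq₂ F v u Z d d'

end Main

end K160.PsiF
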